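import Cfsg.Agent.StemCert.Defs

/-! Data of the certificate. -/

set_option autoImplicit false
set_option maxRecDepth 100000
set_option maxHeartbeats 0
set_option linter.all false

namespace Cfsg.Agent.Co2Out.Data

open Cfsg.Agent.StemCert

/-- The number of letters. -/
def k : ℕ := 109

/-- The matrices. -/
def codes : List ℕ := [0x805883f9a981515fb448975ee7572e772aab805e4e50063d7fef6808331da05ae33ed0b4d0df7cad8ebffc28c7817bfd9317ee82adcefffffe0003da825acf2c0ff10000022c0ff9,
  0x827abcc07abc093b4192b5eda98eaa86f779007abc086857a983692a51860a200400100282bded88f37f8078bca2e7f98bdd3a0000422bf432824286a13b4da3f4120000022bf411,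
  0x800000400000200000100000080000040000020000010000008000004000002000001000000800000400000200000100000080000040000020000010000008000004000002000001,
  0xd97c43e661e6973d89a3e7de3848800903cf1b3adc9d3e4488c80d86d75e0959000003dbab6cb0015bec917bd8877771b68a7d9c7664895bfdeeb00d89f23a0369350000028133fa,
  0xc37df334827d305fb4b9e891b5644b59e2cc72092bb9e509425663c2060ad0163bc2bff45fdb9d8b7932301fd9301087c2f772cef0abc07abc5bb2855fd19cd669200000025f9b1a,
  0x173fa122ec36fcd8196835d97a344922e8360316e7be7984fefd52a53f90fb980da817f04d55d8fb63398f66bb40fbabd75034239cf010107086b9c042d1fc020380000029ff1a4,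
  0xd7f084d45f2cdc3d9f3df3b963f98bd6aa61640093c17bde7fb1ea3df57563f3a657f0861227fba34ded446fad00093ccfa8222539fcd17dcadff39ca90369a40d0a000002a02015,
  0xc05ab9210767d2f5418f08b6fd1e3f640d4060c751ad2ef5ac454c6141d0ac4cbd400238f85d4699597ec85afa000d9bc941fff94ece9813f8d807b8c80218d85d6f000002715e06,
  0xa15becacd636da3945504630624d01a15b6ea15628de196449441d600112daa9617827ade3056ccbdd30e8aef7c16b3e2bf430e1cdfe0007b6e85df2e0d7fee3f0100000022bf208,
  0x5a7e058a23dc1bec2c17579ef0bea1c969e99be1ea1f6c63691c2d298e108923ff9903f40704890424847f73197dbb9fdd7450b34df89039bceb7609f16cca11a33d000002f174c3,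
  0xc1f7f985b4fe84e596349aa240c23a777d86c522f88cd75e218368189b11861c88c0840137bebfc5e6e8e5f8017dbd5b488405d1cdf2c55fff76ebef76e705c7d13100000236bdfb,
  0x506faaab8cadb31a3b6fc2340ffbda9298da6eb37ba50f6afced246f7fc925e030879f2c301706b4e26b1a048711aef2cc9f7004d02c042005010045104e95c5073b000002b3e03e,
  0xf7e7050a04160a4605b0d4a4971ca54a9204f7e7250921a50818cac187665e099037bdbedbca28161397110765a81bead5e0486f8caad77040d2abfb52c97bdfa901000002cfe794,
  0xc0102be68bf63e9c0d3df5f640d46a0fb80b3fefd5fa98159ab80bd7981163ada1614bc520e7fe6f740bb51edec913f8c13b5d04dfb58200008312efc41cbbd35d59000002819422,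
  0x168b7ccff08ab7dff9de59c5e22302dfca819fd08196d3fa3029ca2bf8071bd61a4cf57b16179f7db102bef989e13f541a05fd52cf510006cdfee7988fe420070c9a000002c31021,
  0xbe8441c1cff537ffbb57b89775f9239570737efefd67f80a7bd6655fd9bde56bad7f73ba40a07b4004130c03d94881c06f77bfe81ff0c2469f660fcb458aa2cb6de20000024489c2,
  0xf57042b06fbf955017b4e27aac4f5b280410f47145b4577eb296b7070264e4d54fa51feaf518d4782b1f52c273f1d01a4006031f6dd1b174d8e06f3de175d6f4f843000002b172e1,
  0x5301f8df4a61d903323a1fb465b0761b85ff827c32db803865bc430a07de3a8a95a4e6ff94acbd88b9ffebca32fb6a0384000261476b614294fd6352ff528a803828000002614dfe,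
  0x8c019a04dac504985300f7fc3fe185409ee8141262042082bd4c6a083823becd654c11b3f3b033bbd2d2bb7603ffa70bf7722af31994b3f017f7d682fb9a53b3a8990000024cfa13,
  0x801002036bf9486be479989d9c079155f0488017b44467a4d381f27af2007f17d1969b7c82f77b0a02ca458ffd812124d07f8e600e6ba09de84cf665945f3d7be3ef0000028079bc,
  0xbe883595aef9d95138d79e2b3774107fb36a2eb189b6d0b0f1ecbc9216ee73ffaf000c76ea89b408c14acd7445228faf9a9f3dfa8835000dc4ac7666f4a2c511a48100000285fbbc,
  0xd97f9af13cf64c09f007f896858e1dc37a651c20654b038758567467f7bd37df162c0fda2108041107a5001089405ebe935d7b57fcb0c19fefd73843253427d5b240000002211085,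
  0x1c20511adb6d6368121e041dbbb646eb5b805e20020e20260723bd8be47dbb82352c3fffd8904a4a4fe03926c8c8dda015ae7eea02c04d50176e39aba883e89aafc000002ac9edb,
  0xdbf2877beaefb62681787d281bddb99bf4860c82c77af1e793cea834808de4234757f31fa20648940590be4866000367a457fbb692363edcd1ac8edb00000584589a0000023ed0a4,
  0x78f6c80101072af535e91ef77672959da31d78f0051d4fb2b7ed703ed69deb5c723ed0b67156d50c019a0480411611587fd7c882adccdd74524b050ab2f0124584010000020e8457,
  0x2c26f0d17dca0c0998ce101bee903f280bc9ee606fec36ca681ff3000f6b2942690003d9c69b75004881a667f400bc29aa75369c7666488407600953f09bdd20eb3900000240ec02,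
  0xde98ae9813f8d097fff95493041440a46bca6fec76e41ff1b33aa9d305fdc1127bc2bff61f679f67f4769c8e5ccd9e34dfb188cef0a9cc9f7257f35b1f694f7afc76000002537ed6,
  0x72181b0007b6cc98c4f31e2266d96e3028c9135a8fa31fad3908d0a1d7ae380b92da817d6148221a02698adf1eaa3fb70010494239cdd5e04aaeb23ff188dc4231f30000024b10eb,
  0x2066039039bc45d9f6f037d7942d9cd6a263939614d13fde6fff7fda6d62c007b457f084dfe39500b1ff00093d446d3912284c2539fec13b5fa1cfe520e305a44f9a000002b06682,
  0x849fc9c55fff0464a03fd7caded4a1b4d23e240221400409fe8c377f7ecee9c8bc40023a48823a0c02032c02628b69f894b47ff94ecc1a05ff189a50fb8a10bf5281000002f34803,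
  0x9a01b0420051e25fa53dcb58520000a37dc09addffa72088d58a6086bcffa42587827afe09fe9405ab94058c422866a0c05d9e1cdfc6f77bd40a603042dbcac66e6000002448201,
  0xc6b276d77040b807fd39d06c072ef696b276072d99effbcae6f80d715273f3df899903f629837b21036f22208500401703640bb34dfa4006015bb589e9e4827aff19000002214b7c,
  0xc29606820000c206013492364418c873a8d9c64307bfb1c96409ca2bf229c42d7bc0840337b62b830246e24cff0830cd7bea06d1cdf084000076e32776e060c06a3c00000277e206,
  0xc5391b0006cd8406cd00068df36c0d80bf23fbe5ca06444b1d98f22284c481afaa879f2e5fd3bf028a0ab18ee7ea3d9e0010e804d02ef77228423fd6bdc128acc65d00000240b211,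
  0x3fa5acc2469f3534b740eb51e70361b2cf403fa58c7e31bdf74a403ed5fce15b1137bdbc2bf5dd511c50d945ec1046b752cfa56f8ca8d07f8cdac968d2e96867f46c000002c8e85a,
  0x6810fbb174d8610b542d02bca3d29decbd6597ef050102076122582c0198cfcb47614bc73010b4201781e2e1f07de9fb2a560504dfb79a9f3f8f1f37c812fa985b7e000002990b1f,
  0x31629f614294fbddabafb23fa535b1d8ce0ab83962ac2ef0a476f75117376129034cf57967fc65004a92104b97e62bf451130d52cf53935d7901531630429667f3ca000002504b97,
  0xcc11fb3f01720ad6ef1c9d804b087a2cececcbba38e1f518f74a0f0c9fd2501917f73b8e6d134b7d0907e3c3b10450320e1abe81ff2015ae537ba8752c8f70861180000028795ba,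
  0xe48312a09de8a1c70d85a414055870181314e582150008e897a2902a5ddf481312a51fe8c45ebae4fa44423024405efac51ffb1f6dd3a457f9e03f527825964c1c38000002a451c2,
  0x5d3b97000dc4a45a3df9430abc41a9c04fd58c465dbcc06ddf347d6f7c7c5d7ef9a4e6fd57f0033487bb348d97222fe5201ce961476900008234880e34822357f398000002000fea,
  0xd15748c19fefc19f6d20521142182a6079144944b081396ebd4c6fd03f9e26961b4c11b1d315de036e527e33299f1c3652ce2bf319969317ec6f87693ed5eb9307e40000026c1dea,
  0x87a94c04d50197c2edb798f9ea5d3443e7d587aefacc7764d381fa92affa18e41b969b7e4cf71f7be69f42310518988b966f2a600e69b68a7f94e6282c02480a0004000002966e29,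
  0x85c3a13edcd18856aeef1123569d943f131315fa1dfeb58973b673fb3a287b9eb7000c74d206bc40002966066d03620aea750cfa8837c2f7704460a93dfdf74b069100000247010a,
  0xed1cb3000020c2f75004d00c44441d3662b328434c80c886d1a44e98ee687bc32e2c0fd822209ea80349f12c5f0643875bbee057fcb2bd7501e457f2228940201b690000025dfa69,
  0xebb048fffffe428aff907354a96795fa1907ef904d9843973fa3a7866f9e8c4bbb52c3fd4c1a1167fbdbedc024110326086867eea02ecfa82057fc377de7dd11044000000267e3f8,
  0xfe33d5895bfd46f3dd8d84488df6636844b7294395c9ecea97e3b7e206697724a357f31d57ff28f4b2474cf974b63254e2b396b69234c941fd7db7c8b4a2fd37b212000002c94d8a,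
  0x420002d13fdc1263211107e5020205721859020209b5b31072110a0000409922ff7de1024058815006b740546a5007be405616660d3b3edcd300063a660fcb00000400000200063d,
  0xce9b338c8dd80527268c8b17cfc921b575400c8ddaa6d336430519b174d8212a6e0929263edaf9004296048dc90a05130a02c80040003ed0b6301fff0a0004000004000002000017,
  0x5afc7511c528dd43cd2eb68baaa33b227fd312db8000200006200e555d5424c4903620addd083f06d8fcf1d35a16b7f3ed998a02929c66fa67beb0021000e000004000002a06b38,
  0xf46081ac66e401e8593f8a9a49f7aa9260d301785520e45602f25da06b3ea1eb3e7e3adbf219d7fea5080100000a0414b6c07ad671417be67457ff6f210c01000004000002f69410,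
  0x810708c14adc9e64404eb3280c23b6417d1813fe042021e3898f8d3af418042a0c019ac5f6438f4d5ed79811488407000801ab2cb6e68bf6be50a64887fd000004000002488427,
  0x22118618950f029308b5e109b1ae9a9b5d790e1f57b9e50942060e57ffe9ca5cf4064e9f50000cbb3c11e3e090920684e03f52c9037a000101e788b6bf528100000400000250008c,
  0x779c10104b950a4f1258ca57481dc8d04c21402d010a05049321c04889e088935cf78c10b207ec8810caa25eee9206843ed68b96cb5aa69327840000bc8a7f0000040000023ed0b0,
  0xdfcaa16142961bbd0536be260941dedfcab12846b3cd6ce4e2879a010241d65a005fdaa1968b5cdee0f1b51edefee798aacd1f8eae57c6cb5e0397c5ad36940000040000020394a3,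
  0x71889e2bf98b00067b8d2abf88818272117d580630405efa4622d9a81bea424ede4b0664dfa90187777112213057fcb2b3a89b010360048058c41cbbf12c5f000004000002b9ad9f,
  0x913aa0010c10008abde59a5cd5d2437c30b209d04405efa02f3c9955f7e103374253d58b19e8fba3c1712213057fcb29941f7010360048058bd893f89babd000004000002b9ad9f,
  0x10d0cbc2f77016a85ef2e7f5d7e7f1a529cb3a8330e3e0906d63babe18361455f93487b97be69f039c49083a2930187d301704039faf7bebeb405abb3017350000040000020008ec,
  0x420064222f77338f0ef3e2858e39bab7e125234dba9c6e2f419757faca20468bd7d03f9e4881e63edaf9660255488a3d40542d3edfb25007b1500105660dcd00000400000200063c,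
  0xdcb244304a4a1bb5ba34c7815c8a6f6b3a7e41c6046602553b3af36f7a7e4bde2f1f6f7d000c74000a96000200000d99000dc600063b000f690007b4000008000004000002000001,
  0x10cfd4f1989e528733039962425a3220802910df77862d9ee22ff6a62ff649057a50063030186a48823ad0df7e88ebdf92f77b104294f3a893000023d2e96ae40f3a00000292ef58,
  0x82ce85cacd5e433f66da8be9a9394e8ecd5e02f6ad405651a9329420e1a940960140a6018080018242848acf5eaa6df78bdd380000402bf22b88f37dab8cafa1cfe70000022bf411,
  0x32bd4f9e5de69dc4839e5b2be223022dd3819971772a549325ea7f99597e94d4a46f8d7fceaa64cfe022fea5080006cc715ddfeea02cafa130efb14a00093f7152710000027151aa,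
  0xb7a1905bbee258d3185cbc8678fc31d82bdabe8b5103636f3c7a13228faf55fdee7de5cfb2f010bd9114c0ce969774419bcc389fa920ba2cf7b69236b54cfecc7764000002500100,
  0x240d2a142b09152a48a3bb192c2d2d3e0c1a8d0e4304293db278cb2536d7d4def5048043000043c6d37740ad3ee68bf4f79412ab2cb4cd8efe9a6d68913bdc80200300000240a402,
  0xeb07b5bb6e00ab28b7aac0d98a02c8ea05b243e14ad4f240ea1db2a20648ba1d33eea02ce788b4eb6e82511cb9b4fa425119e5511282909de4c344fde9ac97e90579000002511a80,
  0xebb05b715c3253dcb5aef531e2d80aebf24aeae020042007054121e2e1f0f6b9912bf249ed88b40003dbafa130d0cfb70007b4cd2ee51d4cd3cfb00befb14a0000040000021d414b,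
  0x162cf015bf419c23df5bbb6294b67e15d9d08480c1d4fb2d56cc89a3f77e474a24b0691bef989d85d6d8c39f3f35b11a0cfc6eeb00d91df70962fbda31faf000004000002042939,
  0xeb1d93ee09f0a218d241a8c24181d6846459e875c03ed69d41917c03910f63a70e1f6dd30392e80102210000073ed98e0394a53edcc53ed5eb039a83210f61000004000002000360,
  0x5ea66f76e32700049f9c7a11dedcd5a7bafb7728c3000c757faf00ed2cc47e4cf86f86be083116083bf36f740b6f7dcd004a016f77bf6f7e780100270832c5000004000002000206,
  0x8238ef6f89e15fc97c72c8ae0a38ef7cdf770038ef083a27f27100039188c9c18940a6018e4f5fc8affc301712c2eff8fd9105ba9837812126c62fb78fae30000004000002301ff9,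
  0xfcb10c064387acdca2ce011e74b10cfcb8327eb10c8c39f38891cb0a05049e9c7a9c9e7f806816e788b691df70ee193afe4a67eeb00d000d99660f3df694160000040000026609f0,
  0x208d498242865f6e407572ad08a4e1f8d024009ccb6f71bfe7ad564887da73ffaf8d2afcf2f001b5f900e5b295a08d41f0c9ffa6d33657f31d57fcb2f3199600000400000257ff69,
  0x3806f90c05d9293df3a94a241855e919059918177b0839fadae08ae24cfff5c248511282cf1d35fee798825acffa28c70007b4301fd9c19fedc07abcb807f9000004000002301733,
  0x8e8f5f110765258af07e7f1e068f5f018881051073048d9705aca10040000088860c0b9b000800000367000010000dc7000200000d98000041000080000401000004000002000001,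
  0x893bfd7af1e525240e44240c013bfd012b370903d704200700281600400005a6a707048b00080000000900008000093f000010000021000d99000200000366000004000002000001,
  0xd399187ded34d2f100e2f100f1f222777fe7580634850101f0e1c9b03fde5fa5152bf5dd909de6c68bdfed64c5000dc7d087b6a67777ca9f358d9e3dd7981100000400000220ea39,
  0x8a02c2660d396280fc8792b791152a39f2d7823aeefc705da3d568064951de76157de5cfaea23588f37f614d7f4006187f72ab8d2afc301ffd8b23fd962fbf1047950000028c29b8,
  0x71889e304562d1889e6044edf9889e718558f3889e20e4562502e157fcb2221865f1989ef95e048cd75cfa88375006b9500739f188de8b69f8fd312c5007b10000040000025007b8,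
  0xa2926aa62ff4a637b7a77400d986fcd3cfb5209268a073fe4419c0fcc0652ddbcf3040d70648d3fe180e048d82ba740284e59d2531575bb368070903ea3d9e7be3ef000002fe1595,
  0x66d174010141498d407e7f1e490141c4d73ce4d174298c010d8ee0c69b75897bbce6c174c6d3758cd75cc0defde0d7fc6f8a48e6d134aad534ce5d65e555d5a7d0310000026f8ac9,
  0x827abc9a7d6023799e92b5eda98eaaed0cb3007abc036a9f1a6eb292bf79d0e965da7d4382bded405883511735d905fe0010a3f08bfc8a7b74600e6900102ba3f412000002501616,
  0xd8e9efd9105ac8dbc074385d271357cd3438f8e9e1d414d5726be1a06a4cf9ef88d8edeb63256110375945f3f0102410010a38fe420a25eeed9f403dbca2857ffaf000002a41dab,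
  0xfdad76c0deff674cdbc691e1c3dd30bd008b7fad74a7d033a8270f2a5184cfcbfac1dffc82bdef76ef735117374cffc1ca7d64ba98371103e7070903e03f52b67042000002ab3ff0,
  0xc577d7a1d7acbebdfdedc035eb4db500c1016ebbed3ed5e9e759fe92bf7bf569fe7e39fc228fcc84f57cc9be96600903086bfdc17bde7debe97de59d917bd8070123000002223620,
  0xea1fb0036dfa97c1454f905de836ef60746de89277a91ba957cd30ae1f32a8ddab2531557de34040001b6f787b511868e35d9504d5030c0799000201bfe3858b3bb4000002bc887c,
  0x8008e94000024286cf100000dbb812aa5536aa5bfb0a02cab7b010142dbeccf766dea8617bebeb76ef737debbb7be6766f8a4a7de9fb76efce7ded361f6be17be3ef00000200049c,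
  0xc2263f9a7d60de1059ca7d60a98eaa02060540263f3edfa5f14be4660b06f83a09dea861d3a8d8000400d16d89e760c1c7c979d5aac8000c759345f3b728d2e3a89100000276e727,
  0x827abc142583c355c3126a9f4a263f062226007abc0868571d91577de1009e9c7a9c8e5c00182388f37f7debb97fdabc0010a395f64ba173dc400409a13b4d405c870000023deda1,
  0x3770406f720aa633f73dbd5b73ff9f7fff9fb57040b67040540d95935d795d7df7a557fc0c03d90004000c09d9b2aafb91df700c0641a25eeec2469fe13f54cc8fdb0000020c0bd8,
  0xa382c7828a9ea6e3e2ae7fae2c0c00a2025206b3e086855ad5ea2d905fc1a69049c8e5ef9e302000400a4b4f792bf7bc44e9b000040dcc86cd945eca13b4f405c85000002405613,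
  0x681fb21a07dc2e8a4948c88d73f3ca7773d3ea1fb294e6285c8d8c1a06a408a01904d501d3a8d8fe180ed16d89ee193ae457f225315789aafcbc9237be50a693ec7c000002253cce,
  0x852b304293dbbd2f1d905fbdb15354443022201a1bf08363efdf55006bb60264d7dbd5520e7fcfe180e500088c69b7720e5534230244050297be6767db1297be3ef0000023f87e1,
  0xbd486c8f4d5c3afe4e7b568c7a97ca78feb8971b7ebf083688c7a345863a6a64be76e707036935405883f2a8d3660b040a03cd400221405029f2b012ea3d9e6f7bcf0000023db5e4,
  0x3e083457f0c35469a453708ef397786cc14f9e630a8199e4c1573a4c1122377fbcc1dffe9e075dfe180eeee029ee193a5bbee04cf974816b34bc923757fc3767f476000002816740,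
  0xd33cd20921a578796ef13c747bd32ed1b31ef96fc07af16fc6ef15064e5e9533469b24fb20e7fc4583385000881f62b2dc2ea7df4a63d728c3aacd1d20e4540284c600000264805a,
  0x779d2e85b4fcfe5ef886205bd8713133fd857fa500c3aff83fe1a4a4a4fe9dacb37db102b03fde000400e2b3940a0504210c01fb2a80af4c36c8429b08cb5fadd4350000028dca5e,
  0x7d2cc704d8e5a126f7f8086279ff9b38a63bd42faebc64671bd04ddd3c45b92146a5a6ff0367a0405883228bef7de100d187f788a9df405ebc2a56ee2a5d35a7d031000002265175,
  0x6a650e9a7d60cb650ac8b2330095090d950de8650ee13f54ebbd9c04dd95468b8904d5037bebe976ef717debb9ec36c80397417de9f9d07f8c9813fa01589ae03f500000027ce9bc,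
  0x151570458d99d09266a9f9d5219aa03502f3168a58c68bdd473585a949fc27c06fdc9a6634885316179f064fdc9e4d4c1a07dcdf4a634c1709a19fac1d4f0d1613970000021ed58e,
  0xbbe30e1f662c701fe4e3b6abb7b11591bed1bab377660255ccef5be3b09268429a30472040063299f40aebd2539345f3d3a8d81a05ffba883e7f7efd11a7ef070266000002dbca0a,
  0x6c758064fde799d5e0a4a0513492106ca9c05587086d75ca745fe104c02871579ae553404208016179d458d9bd6d1e1210809458aa0b6d0b0e9057b1d4f0f94e628000002158d1e,
  0xc74ffd0361a146e799a9fe84ca0c4c0ac101c70d69446e92d70b6820ed6cadefb652c30ab8e46b0c02011422240c0e00189f7e2bfff099ec690102051a03102c02480000021c4095,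
  0x7ddbbe0288010ab917132851875f7f74fb9b7d992a4230d00a2d12f4f841dce470d9acc97dbbb73df9810a03db039fadd03f9ee12f5ed16d8bf451477db129715979000002757063,
  0x64abc8b03fdeefea3544240c18a075957bd0e6abc83ed5eb7bd789fcc067c9c06540a601fc886799f40afa8837ee193a61448ee09feb00063b9345f3917bd8f40bb900000261440f,
  0xc2263fe6714d423ed7e03e5398ce564805e140263fea3d9cf339b137b62bb239ed42363fd3a8d80004000002000000812019e9b0d77fca6de5c5073ba91babd0273e0000022018e9,
  0x47354337ba8757ba8767ba870ac304823278c5354337bdbc584902c77543779a877e39fc5fd9bd84f57c5fd3bdc2eff8cb7d03d76841000c75966f2a917bd8c5f6430000025fd1bc,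
  0x6817780c09d9f733f3dfe197c7b1cb58005a4244681a077ddba80540adffd0f49208617960067998be7d660bf1ee496699597c22866ac19fed30484193ec7c8d3af4000002b9ba7b,
  0x5b7e427debb91debb97ba97d40923a893afcd97e4237bdbc440203935d797ef8fdc959fe60067998be7d945f3f000100f4a2c760084381dbe4600e698d3af493ec7c000002600e78,
  0x4bd14a04293dbc2ec67edad037daf7af73bcc9d14a7db1296fe7bdbd65429cf6c02bfe7d3487bbf728c320e1abfb3a284cfb135bbaf1f5b1202536d7b6704257ffad000002d7372b]

/-- The programs. -/
def progs : List (List ℕ) := [[],[],[],[0,0],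
  [3,0],[4,0],[5,0],[6,0],
  [7,0],[8,0],[9,0],[10,0],
  [11,0],[12,0],[13,0],[14,0],
  [15,0],[16,0],[17,0],[18,0],
  [19,0],[20,0],[21,0],[22,0],
  [0,1],[3,1],[4,1],[5,1],
  [6,1],[7,1],[8,1],[9,1],
  [10,1],[11,1],[12,1],[13,1],
  [14,1],[15,1],[16,1],[17,1],
  [18,1],[19,1],[20,1],[21,1],
  [22,1],[23,1],[1,23,23,1,23,23,1,23,1,23,23,23,1,23,23,1,1,10,1,15,1,23,1,12,1,21,1,13,1,13,1,22],[46,46,46,46,46,46,46,46,46,46,46,46,46,46,46,46,46],
  [1,23,23,23,47,1,23,1,6,1,4,1,13,1,6,1,11,1,21,1,14,1,18],[48,48,48,48,48,48],[49,46,46,48,47,48,46,49,23,23,1,47,47,49,1,1,9,1,10,1,19,1,9,1,3,1,4,1,9,1,8,1,21],[50,50,50,50,50,50],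
  [46,46,46,50,49,50,23,48,23,47,51,1,0,1,10,1,21,1,0,1,5,1,6,1,15,1,14,1,23,1,4,1,20],[52,52,52,52,52,52,52,52],[51,51,53,53,50,53,51,52,47,47,49,46,23,46,46,46,48,1,9,1,4,1,4,1,10,1,12,1,0,1,6,1,9,1,20],[54,54,54],
  [53,53,55,51,47,47,52,51,47,23,46,46,52,1,6,1,13,1,5,1,9,1,5,1,19,1,7,1,7],[56,56,56,56,56,56,56,56,56,56,56],[57,54,57,55,56,56,55,51,53,51,55,56,47,48,46,55,1,56,52,1,15,1,17,1,5,1,20,1,12,1,8,1,3,1,11,1,19,1,13],[49,54,1,0,57,53,47,48,56,56,54,50,58,57,54,58,57],
  [1,1,14,1,20,1,12,1,22,1,19,1,3,1,0,1,17,1,21,1,23,1,0,1,4,1,8,1,23,1,22,1,6,1,3,1,13,1,5,1,11,1,1,1,14,1,20,1,12,1,22,1,19,1,3,1,0,1,17,1,21,1,23,1,0,1,4,1,8,1,23,1,22,1,6,1,3,1,13,1,5,1,11,1],[1,1,19,1,12,1,4,1,13,1,10,1,13,1,7,1,22,1,3,1,18,1,12,1,15,1,12,1,21,1,13,1,6,1,1,1,19,1,12,1,4,1,13,1,10,1,13,1,7,1,22,1,3,1,18,1,12,1,15,1,12,1,21,1,13,1,6,1,1,19,1,12,1,4,1,13,1,10,1,13,1,7,1,22],[61,61,61,61,61,61,61,61,61,61,61,61,61,61,61,61,61],[1,1,20,1,7,1,20,1,7,1,6,1,19,1,9,1,19,1,10,1,8,1,6,1,19,1,17,1,15,1,6,1,16,1,6,1,19,1,18,1,5,1,18,1,5,1,1,1,20,1,7,1,20,1,7,1,6,1,19,1,9,1,19,1,10,1,8,1,6,1,19,1,17,1,15,1,6,1,16,1,6,1,19,1,18,1,5,1,18,1,5,1,1,20,1,7,1,20,1,7,1,6,1,19,1,9,1,19,1,10,1,8,1,6],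
  [63,63,63,63,63,63,63],[60,64,62,60,64,64,1,1,6,1,7,1,22,1,3,1,17,1,4,1,3,1,11,1,22,1,18,1,7,1,3,1,14,1,22,1,21,1,8,1,22,1,3,1,18,1,19,1,1,1,6,1,7,1,22,1,3,1,17,1,4,1,3,1,11,1,22,1,18,1,7,1,3,1,14,1,22,1,21,1,8,1,22,1,3,1,18,1,19,1],[65,65,65,65,65,65,65,65,65],[60,61,65,61,61,64,1,1,6,1,18,1,19,1,9,1,9,1,5,1,14,1,11,1,20,1,16,1,16,1,6,1,7,1,19,1,1,1,6,1,18,1,19,1,9,1,9,1,5,1,14,1,11,1,20,1,16,1,16,1,6,1,7,1,19,1],
  [67,67,67,67,67,67,67,67,67],[66,68,68,68,68,60,65,64,66,1,1,12,1,6,1,6,1,7,1,0,1,10,1,23,1,13,1,22,1,3,1,12,1,0,1,15,1,23,1,18,1,19,1,19,1,13,1,1,1,12,1,6,1,6,1,7,1,0,1,10,1,23,1,13,1,22,1,3,1,12,1,0,1,15,1,23,1,18,1,19,1,19,1,13,1,1,12,1,6,1,6,1,7,1,0,1,10,1,23,1,13,1,22],[69,69],[67,66,68,65,1,1,9,1,16,1,19,1,7,1,14,1,12,1,3,1,23,1,10,1,15,1,0,1,22,1,13,1,11,1,18,1,6,1,9,1,16,1,1,1,9,1,16,1,19,1,7,1,14,1,12,1,3,1,23,1,10,1,15,1,0,1,22,1,13,1,11,1,18,1,6,1,9,1,16,1],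
  [71,71,71],[72,69,72,72,66,69,71,70,60,67,69,60,1,1,9,1,3,1,0,1,8,1,15,1,19,1,13,1,22,1,6,1,19,1,3,1,12,1,6,1,10,1,17,1,23,1,22,1,16,1,1,1,9,1,3,1,0,1,8,1,15,1,19,1,13,1,22,1,6,1,19,1,3,1,12,1,6,1,10,1,17,1,23,1,22,1,16,1],[73,73],[69,72,72,74,67,73,66,60,65,68,1,1,8,1,9,1,20,1,7,1,9,1,9,1,14,1,14,1,3,1,0,1,23,1,22,1,11,1,11,1,16,1,16,1,18,1,5,1,16,1,17,1,1,1,8,1,9,1,20,1,7,1,9,1,9,1,14,1,14,1,3,1,0,1,23,1,22,1,11,1,11,1,16,1,16,1,18,1,5,1,16,1,17,1],
  [63,68,61,64,74,66,69,73,72,69,74,75,63,68,61,64,74,66,69,73,72,69,74,75,63,68,61,64,74,66,69,73,72,69,74,75],[64,67,60,73,68,65,71,69,72,74,64,67,60,73,68,65,71,69,72,74,64,67,60,73,68,65,71,69,72,74,64,67,60,73,68,65,71,69,72,74,64,67,60,73,68,65,71,69,72,74,64,67,60,73,68,65,71,69,72,74,64,67,60,73,68,65,71,69,72,74],[61,70,74,62,75,68,65,75,71,71,70,74,75,73,61,70,74,62,75,68,65,75,71,71,70,74,75,73,61,70,74,62,75,68,65,75,71,71,70,74,75,73],[71,65,62,63,72,70,65,71,74,72,74,75,74,71,65,62,63,72,70,65,71,74,72,74,75,74,71,65,62,63,72,70,65,71,74,72,74,75,74,71,65,62,63,72,70,65,71,74,72,74,75,74,71,65,62,63,72,70,65,71,74,72,74,75,74,71,65,62,63,72,70,65,71,74,72,74,75,74,71,65,62,63,72,70,65,71,74,72,74,75,74],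
  [64,60,66,61,65,68,66,74,71,75,74,64,60,66,61,65,68,66,74,71,75,74,64,60,66,61,65,68,66,74,71,75,74,64,60,66,61,65,68,66,74,71,75,74,64,60,66,61,65,68,66,74,71,75,74,64,60,66,61,65,68,66,74,71,75,74,64,60,66,61,65,68,66,74,71,75,74],[64,64,64,61,67,71,67,71,71,70,74,75,73,64,64,64,61,67,71,67,71,71,70,74,75,73,64,64,64,61,67,71,67,71,71,70,74,75,73,64,64,64,61,67,71,67,71,71,70,74,75,73,64,64,64,61,67,71,67,71,71,70,74,75,73,64,64,64,61,67,71,67,71,71,70,74,75,73,64,64,64,61,67,71,67,71,71,70,74,75,73],[74,71,61,61,66,72,68,65,74,75,73,74,71,61,61,66,72,68,65,74,75,73,74,71,61,61,66,72,68,65,74,75,73],[65,63,61,61,60,73,68,68,65,73,71,71,70,73,75,73,65,63,61,61,60,73,68,68,65,73,71,71,70,73,75,73,65,63,61,61,60,73,68,68,65,73,71,71,70,73,75,73],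
  [71,62,66,63,67,66,71,71,70,75,73],[61,66,62,60,65,72,66,75,73,69,61,66,62,60,65,72,66,75,73,69,61,66,62,60,65,72,66,75,73,69,61,66,62,60,65,72,66,75,73,69,61,66,62,60,65,72,66,75,73,69],[85,82,85,82],[85,76,85,79,76,76,79,76],
  [85,76,79,84,85,76,79,84],[76,76],[84,79,76,79,85,84,85,76],[79,82,79,76,79,76,82,79],
  [82,79,82,79,76,82,79,82,79,76],[79,84,82,84,84,84,79,76,82,76],[82,85,79,85,76,82,79,76],[76,84,82,76,84,85,79,82,85,79],
  [82,79,84,79,84,82],[85,76,79,82,85,76,82,76,79,76],[84,79,85,76,82,76,84,76,79],[79,82,79,85,84,84],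
  [84,84,82,84,76,76,76,84,76],[76,85,82,76,79,85,84,76,82,76],[76,79,82,79,76,84,76,76,82],[82,79,82,79],
  [82,76,82,76,76,76],[85,82,79,85,82,79],[84,79,85,76,84,82,76],[84,76,85,84,79,85,76],
  [84,84,76,82,84,82,84,79]]

/-- The letters of the powers. -/
def powLetters : List ℕ := [2,0,3,4,5,6,7,8,9,10,11,12,13,14,15,16,17,18,19,20,21,22,23]

/-- The powers. -/
def powers : List ℕ := [0x800000400000200000100000080000040000020000010000008000004000002000001000000800000400000200000100000080000040000020000010000008000004000002000001,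
  0x805883f9a981515fb448975ee7572e772aab805e4e50063d7fef6808331da05ae33ed0b4d0df7cad8ebffc28c7817bfd9317ee82adcefffffe0003da825acf2c0ff10000022c0ff9,
  0xd97c43e661e6973d89a3e7de3848800903cf1b3adc9d3e4488c80d86d75e0959000003dbab6cb0015bec917bd8877771b68a7d9c7664895bfdeeb00d89f23a0369350000028133fa,
  0xc37df334827d305fb4b9e891b5644b59e2cc72092bb9e509425663c2060ad0163bc2bff45fdb9d8b7932301fd9301087c2f772cef0abc07abc5bb2855fd19cd669200000025f9b1a,
  0x173fa122ec36fcd8196835d97a344922e8360316e7be7984fefd52a53f90fb980da817f04d55d8fb63398f66bb40fbabd75034239cf010107086b9c042d1fc020380000029ff1a4,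
  0xd7f084d45f2cdc3d9f3df3b963f98bd6aa61640093c17bde7fb1ea3df57563f3a657f0861227fba34ded446fad00093ccfa8222539fcd17dcadff39ca90369a40d0a000002a02015,
  0xc05ab9210767d2f5418f08b6fd1e3f640d4060c751ad2ef5ac454c6141d0ac4cbd400238f85d4699597ec85afa000d9bc941fff94ece9813f8d807b8c80218d85d6f000002715e06,
  0xa15becacd636da3945504630624d01a15b6ea15628de196449441d600112daa9617827ade3056ccbdd30e8aef7c16b3e2bf430e1cdfe0007b6e85df2e0d7fee3f0100000022bf208,
  0x5a7e058a23dc1bec2c17579ef0bea1c969e99be1ea1f6c63691c2d298e108923ff9903f40704890424847f73197dbb9fdd7450b34df89039bceb7609f16cca11a33d000002f174c3,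
  0xc1f7f985b4fe84e596349aa240c23a777d86c522f88cd75e218368189b11861c88c0840137bebfc5e6e8e5f8017dbd5b488405d1cdf2c55fff76ebef76e705c7d13100000236bdfb,
  0x506faaab8cadb31a3b6fc2340ffbda9298da6eb37ba50f6afced246f7fc925e030879f2c301706b4e26b1a048711aef2cc9f7004d02c042005010045104e95c5073b000002b3e03e,
  0xf7e7050a04160a4605b0d4a4971ca54a9204f7e7250921a50818cac187665e099037bdbedbca28161397110765a81bead5e0486f8caad77040d2abfb52c97bdfa901000002cfe794,
  0xc0102be68bf63e9c0d3df5f640d46a0fb80b3fefd5fa98159ab80bd7981163ada1614bc520e7fe6f740bb51edec913f8c13b5d04dfb58200008312efc41cbbd35d59000002819422,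
  0x168b7ccff08ab7dff9de59c5e22302dfca819fd08196d3fa3029ca2bf8071bd61a4cf57b16179f7db102bef989e13f541a05fd52cf510006cdfee7988fe420070c9a000002c31021,
  0xbe8441c1cff537ffbb57b89775f9239570737efefd67f80a7bd6655fd9bde56bad7f73ba40a07b4004130c03d94881c06f77bfe81ff0c2469f660fcb458aa2cb6de20000024489c2,
  0xf57042b06fbf955017b4e27aac4f5b280410f47145b4577eb296b7070264e4d54fa51feaf518d4782b1f52c273f1d01a4006031f6dd1b174d8e06f3de175d6f4f843000002b172e1,
  0x5301f8df4a61d903323a1fb465b0761b85ff827c32db803865bc430a07de3a8a95a4e6ff94acbd88b9ffebca32fb6a0384000261476b614294fd6352ff528a803828000002614dfe,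
  0x8c019a04dac504985300f7fc3fe185409ee8141262042082bd4c6a083823becd654c11b3f3b033bbd2d2bb7603ffa70bf7722af31994b3f017f7d682fb9a53b3a8990000024cfa13,
  0x801002036bf9486be479989d9c079155f0488017b44467a4d381f27af2007f17d1969b7c82f77b0a02ca458ffd812124d07f8e600e6ba09de84cf665945f3d7be3ef0000028079bc,
  0xbe883595aef9d95138d79e2b3774107fb36a2eb189b6d0b0f1ecbc9216ee73ffaf000c76ea89b408c14acd7445228faf9a9f3dfa8835000dc4ac7666f4a2c511a48100000285fbbc,
  0xd97f9af13cf64c09f007f896858e1dc37a651c20654b038758567467f7bd37df162c0fda2108041107a5001089405ebe935d7b57fcb0c19fefd73843253427d5b240000002211085,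
  0x1c20511adb6d6368121e041dbbb646eb5b805e20020e20260723bd8be47dbb82352c3fffd8904a4a4fe03926c8c8dda015ae7eea02c04d50176e39aba883e89aafc000002ac9edb,
  0xdbf2877beaefb62681787d281bddb99bf4860c82c77af1e793cea834808de4234757f31fa20648940590be4866000367a457fbb692363edcd1ac8edb00000584589a0000023ed0a4]

/-- A part. -/
noncomputable def mainWords0_0 : Arr (List ℕ) :=
  (.node [50,49,53,1] (.node [1,50,57,47,1] (.node [47,55,46,1] (.node [58,54,1,46,0] (.node [53,48,51,1] (.node [0,56,49,46,0] (.node [54,51,49,0] (.node [52,58,50,1] .nil .nil) .nil) (.node [57,57,47,0,0] .nil .nil)) (.node [47,52,0,1] (.node [58,53,0,46,0] .nil .nil) (.node [49,54,46,1] .nil .nil))) (.node [48,58,1,0] (.node [48,51,1,0] (.node [49,1,57,1] (.node [56,46,50,0,0] .nil .nil) .nil) (.node [1,48,0,1] .nil .nil)) (.node [50,0,48,0,0] (.node [46,0,49,1,0] .nil .nil) (.node [54,1,0,0] .nil .nil)))) (.node [1,52,51,1,0] (.node [50,53,50,46,1] (.node [55,49,0,46,0] (.node [58,52,46,1] (.node [50,46,53,48,0] .nil .nil) .nil)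 (.node [58,1,58,1] .nil .nil)) (.node [46,50,46,0,0] (.node [1,58,48,0,0] .nil .nil) (.node [54,1,51,0,0] .nil .nil))) (.node [0,51,0,48,0] (.node [58,51,1,0] (.node [55,0,49,0] (.node [46,0,0,49,0] .nil .nil) .nil) (.node [47,51,52,46,0] .nil .nil)) (.node [56,49,46,0,0] (.node [57,0,49,0] .nil .nil) (.node [57,0,56,1] .nil .nil))))) (.node [56,49,49,1] (.node [1,0,0,1] (.node [49,0,49,0] (.node [46,56,0,0,1] (.node [54,1,46,48,0] (.node [0,57,52,0,0] .nil .nil) .nil) (.node [50,1,46,1] .nil .nil)) (.node [47,0,51,46,0] (.node [56,50,53,0,0] .nil .nil) (.node [0,50,0,1,0] .nil .nil))) (.node [53,54,49,1,0] (.node [46,46,0,47,0] (.node [55,49,46,1] (.node [58,47,48,0] .nil .nil) .nil) (.node [52,1,49,1] .nil .nil)) (.node [51,56,1,49,1] (.node [57,47,0,47,0] .nil .nil) (.node [51,53,46,0] .nil .nil)))) (.node [48,56,46,0] (.node [47,56,51,0,0] (.node [0,48,51,0,0] (.node [50,58,46,0,0] (.node [57,53,53,1,0] .nil .nil) .nil) (.node [56,56,53,1] .nil .nil)) (.node [1,49,49,47,1] (.node [48,52,46,1]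 .nil .nil) (.node [1,56,1] .nil .nil))) (.node [53,51,51,1] (.node [53,48,48,0,0] (.node [0,52,52,1] (.node [48,1,55,49,0] .nil .nil) .nil) (.node [50,54,48,46,0] .nil .nil)) (.node [48,46,51,1,0] (.node [51,0,47,0,0] .nil .nil) (.node [52,49,57,1] .nil .nil)))))) (.node [0,56,48,0] (.node [57,1,56,1,0] (.node [57,52,0,1,0] (.node [52,52,1,0,0] (.node [0,46,0,0,1] (.node [55,52,1,0] (.node [47,56,52,0,0] .nil .nil) .nil) (.node [47,1,47,0,0] .nil .nil)) (.node [1,0,48,0] (.node [0,0,56,49,1] .nil .nil) (.node [54,1,47,1,0] .nil .nil))) (.node [56,0,1,53,1] (.node [54,58,49,1,0] (.node [58,49,0,0] (.node [47,56,0,0,1] .nil .nil) .nil) (.node [49,1,46,1,0,0] .nil .nil)) (.node [56,47,0,0] (.node [49,51,53,48,0] .nil .nil) (.node [0,46,51,48,1] .nil .nil)))) (.node [58,46,57,1,0] (.node [50,46,0] (.node [0,56,48,46,0] (.node [46,57,58,1,0] (.node [48,51,46,1] .nil .nil) .nil) (.node [1,56,54,48,0] .nil .nil)) (.node [48,53,0,1] (.node [46,49,58,47,0] .nil .nil) (.node [47,56,1] .nil .nil))) (.node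 [57,51,0,0] (.node [58,50,46,0] (.node [46,51,49,0,0] (.node [53,50,0,0] .nil .nil) .nil) (.node [50,53,53,1] .nil .nil)) (.node [1,0,56,1,0] (.node [50,53,49,1] .nil .nil) (.node [47,48,48,0,0] .nil .nil))))) (.node [1,49,0,0] (.node [46,0,54,46,1] (.node [46,53,1,0] (.node [52,50,53,0,0] (.node [47,52,1,0] (.node [1,56,48,51,1] .nil .nil) .nil) (.node [54,1,0,48,0] .nil .nil)) (.node [56,46,52,1,0] (.node [47,0,47,0] .nil .nil) (.node [54,0,57,1] .nil .nil))) (.node [56,55,46,1,0] (.node [47,52,0,46,0] (.node [0,55,57,49,1] (.node [50,56,47,1] .nil .nil) .nil) (.node [52,0,0] .nil .nil)) (.node [48,54,47,0] (.node [1,53,57,1,0] .nil .nil) (.node [49,53,48,1] .nil .nil)))) (.node [48,58,47,0,0] (.node [47,1,50,1] (.node [47,0,46,1] (.node [54,52,1,0] (.node [47,49,46,48,1] .nil .nil) .nil) (.node [57,1,48,0] .nil .nil)) (.node [50,47,48,0] (.node [56,54,58,49,0] .nil .nil) (.node [50,57,46,1] .nil .nil))) (.node [53,49,49,0] (.node [57,1,49,1] (.node [48,48,46,0] (.node [46,0,46,1] .nil .nil)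 .nil) (.node [1,58,47,0,0] .nil .nil)) (.node [1,56,51,1] (.node [1,46,56,51,1] .nil .nil) (.node [48,46,49,0] .nil .nil)))))))

/-- A part. -/
noncomputable def mainWords0_1 : Arr (List ℕ) :=
  (.node [0,57,54,48,0] (.node [0,49,58,1] (.node [55,49,0,0,1] (.node [53,54,48,0] (.node [50,0,47,0] (.node [48,47,48,1,0] (.node [57,47,0,1] (.node [53,47,54,1] .nil .nil) .nil) (.node [0,49,46,46,0] .nil .nil)) (.node [48,51,0,0] (.node [54,50,46,0] .nil .nil) (.node [52,46,54,46,1] .nil .nil))) (.node [55,53,47,47,0] (.node [54,46,0,0,0] (.node [49,1,53,1] (.node [51,1,0,1,0] .nil .nil) .nil) (.node [51,48,54,1] .nil .nil)) (.node [54,50,48,0] (.node [46,1,57,0,1] .nil .nil) (.node [1,46,0] .nil .nil)))) (.node [53,48,54,1] (.node [51,1,47,0,0] (.node [58,54,0,1] (.node [51,57,49,1] (.node [51,52,1,0,0] .nil .nil) .nil) (.node [58,57,1] .nil .nil)) (.node [56,48,46,0] (.node [58,53,1] .nil .nil) (.node [55,48,47,0,0] .nil .nil))) (.node [55,51,49,0] (.node [46,50,49,0] (.node [56,58,46,1,0] (.node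 [54,58,47,1] .nil .nil) .nil) (.node [57,0,46,0] .nil .nil)) (.node [52,46,1,0] (.node [47,53,1,0,0] .nil .nil) (.node [55,47,48,1] .nil .nil))))) (.node [0,58,57,47,1] (.node [0,1,48,47,1] (.node [47,54,51,0,0] (.node [46,50,52,1] (.node [56,48,51,1] (.node [57,46,49,1] .nil .nil) .nil) (.node [57,52,48,0] .nil .nil)) (.node [58,55,50,0,0] (.node [1,48,46,1] .nil .nil) (.node [50,49,49,1] .nil .nil))) (.node [58,50,0,0] (.node [53,49,46,1] (.node [51,48,0,47,0] (.node [52,51,52,0,0] .nil .nil) .nil) (.node [1,46,53,46,1] .nil .nil)) (.node [53,47,57,46,1] (.node [0,50,47,0,0] .nil .nil) (.node [49,56,51,0,0] .nil .nil)))) (.node [57,57,51,0,0] (.node [46,50,48,47,0] (.node [55,58,0,1] (.node [48,57,0,46,0] (.node [47,49,47,0] .nil .nil) .nil) (.node [57,49,50,1] .nil .nil)) (.node [54,0,48,1] (.node [54,52,55,1] .nil .nil) (.node [1,46,0,0,0] .nil .nil))) (.node [48,47,1] (.node [55,47,49,0,0] (.node [49,47,47,0] (.node [49,0,56,1,0] .nil .nil) .nil) (.node [48,47,51,1,0] .nil .nil)) (.node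 [48,52,58,46,0] (.node [50,1,49,0] .nil .nil) (.node [1,58,54,53,1] .nil .nil)))))) (.node [55,0,54,1] (.node [51,53,46,0,0] (.node [1,47,52,1] (.node [47,48,47,0] (.node [46,55,47,1] (.node [52,0,50,0,0] (.node [52,46,48,0] .nil .nil) .nil) (.node [0,55,50,47,1] .nil .nil)) (.node [49,54,56,1] (.node [1,46,52,46,1] .nil .nil) (.node [52,49,0,0] .nil .nil))) (.node [57,57,46,1] (.node [54,46,54,1,0] (.node [48,47,53,1,0] (.node [52,56,47,1] .nil .nil) .nil) (.node [0,1,51,1] .nil .nil)) (.node [53,55,48,48,0] (.node [58,56,47,0] .nil .nil) (.node [49,50,48,1] .nil .nil)))) (.node [56,53,56,1,0] (.node [56,1,0,0] (.node [55,51,48,0] (.node [58,57,48,0] (.node [52,0,46,49,0] .nil .nil) .nil) (.node [54,54,49,47,0] .nil .nil)) (.node [58,53,0,0,0] (.node [56,58,46,0,0] .nil .nil) (.node [53,1,55,1] .nil .nil))) (.node [58,1,0,0] (.node [47,47,0,0] (.node [46,57,50,46,0] (.node [51,48,51,0,0] .nil .nil) .nil) (.node [51,46,1] .nil .nil)) (.node [58,46,49,1] (.node [51,51,48,1] .nil .nil) (.node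 [46,52,47,0] .nil .nil))))) (.node [53,0,57,1,0] (.node [53,47,50,1] (.node [46,1,58,1,0] (.node [55,46,48,1,0] (.node [49,0] (.node [46,0,1,0] .nil .nil) .nil) (.node [51,48,1] .nil .nil)) (.node [51,52,46,46,0] (.node [51,52,54,1] .nil .nil) (.node [46,48,53,46,0] .nil .nil))) (.node [47,50,0,0] (.node [58,51,57,1,0] (.node [1,52,46,46,1] (.node [54,1,52,0,0] .nil .nil) .nil) (.node [0,51,1,0] .nil .nil)) (.node [50,0,47,47,0] (.node [50,46,48,0] .nil .nil) (.node [52,46,51,1] .nil .nil)))) (.node [46,51,52,1,0] (.node [1,55,47,0,0] (.node [51,54,48,0] (.node [57,0,1] (.node [50,48,48,1] .nil .nil) .nil) (.node [55,50,48,47,0] .nil .nil)) (.node [55,50,57,49,0] (.node [46,1,52,1] .nil .nil) (.node [1,54,48,0] .nil .nil))) (.node [58,47,0,0] (.node [56,46,52,1] (.node [0,48,48,0] (.node [50,0,57,1] .nil .nil) .nil) (.node [46,51,54,1] .nil .nil)) (.node [51,58,1,0] (.node [52,1] .nil .nil) (.node [52,54,48,0] .nil .nil)))))))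

/-- A part. -/
noncomputable def mainWords0_2 : Arr (List ℕ) :=
  (.node [54,56,49,46,1] mainWords0_0 mainWords0_1)

/-- A part. -/
noncomputable def mainWords0_3 : Arr (List ℕ) :=
  (.node [0,0,55,47,0] (.node [56,0,50,1,0] (.node [51,1,0,48,1] (.node [47,47,50,0,0] (.node [0,47,53,48,1] (.node [53,48,0] (.node [51,55,46,1,0] (.node [54,0,46,46,1] .nil .nil) .nil) (.node [51,48,48,0] .nil .nil)) (.node [55,52,47,0] (.node [52,1,46,1,0] .nil .nil) (.node [58,46,46,1] .nil .nil))) (.node [0,52,48,0] (.node [57,54,0,0,0] (.node [52,46,50,0,0] (.node [46,57,48,0] .nil .nil) .nil) (.node [49,54,0,0,1] .nil .nil)) (.node [51,54,53,46,0] (.node [0,57,52,1] .nil .nil) (.node [58,51,0,1] .nil .nil)))) (.node [1,55,48,1,0] (.node [53,53,1] (.node [47,47,49,0] (.node [58,1,50,47,0] (.node [51,46,58,1,0] .nil .nil) .nil) (.node [53,51,48,1] .nil .nil)) (.node [50,58,49,1,0] (.node [0,0,49,0] .nil .nil) (.node [57,51,51,0,0] .nil .nil))) (.node [51,1,50,1] (.node [52,58,49,0] (.node [56,58,52,0,0] (.node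 [56,53,1,49,1] .nil .nil) .nil) (.node [0,55,56,1] .nil .nil)) (.node [55,50,50,0,0] (.node [58,55,47,1,0] .nil .nil) (.node [1,56,50,0,0] .nil .nil))))) (.node [0,53,49,46,0] (.node [51,52,46,1] (.node [53,47,57,1,0] (.node [53,49,50,1] (.node [52,55,47,1] (.node [57,52,50,1] .nil .nil) .nil) (.node [46,51,47,0,0] .nil .nil)) (.node [53,55,46,1,0] (.node [58,0,51,1,0] .nil .nil) (.node [46,48,47,1] .nil .nil))) (.node [0,48,48,1,0] (.node [48,56,1] (.node [0,52,57,1] (.node [53,56,49,0] .nil .nil) .nil) (.node [46,51,1] .nil .nil)) (.node [56,1,52,0,0] (.node [58,0,52,1] .nil .nil) (.node [0,50,1,48,0] .nil .nil)))) (.node [50,54,50,0,0] (.node [49,47,49,0] (.node [58,57,49,0] (.node [57,55,48,1,0] (.node [49,55,1,0] .nil .nil) .nil) (.node [46,54,46,1] .nil .nil)) (.node [46,49,1] (.node [54,47,1] .nil .nil) (.node [46,46,1,0] .nil .nil))) (.node [0,56,46,46,1] (.node [53,53,48,47,0] (.node [56,1,47,1] (.node [47,57,46,1] .nil .nil) .nil) (.node [47,56,58,1,0] .nil .nil)) (.node [51,46,50,46,0]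 (.node [53,0,0] .nil .nil) (.node [52,52,46,1] .nil .nil)))))) (.node [47,0,0] (.node [48,50,48,0] (.node [52,1,0,1,0] (.node [0,58,49,0] (.node [1,0,50,47,0] (.node [53,48,1,0] (.node [46,48,48,0] .nil .nil) .nil) (.node [54,54,1] .nil .nil)) (.node [55,46,1] (.node [0,58,47,1] .nil .nil) (.node [46,58,46,1,0] .nil .nil))) (.node [54,0,53,48,0] (.node [46,51,0,0,0] (.node [1,48,57,1] (.node [49,57,49,1] .nil .nil) .nil) (.node [53,51,0,0,0] .nil .nil)) (.node [50,48,46,0] (.node [0,47,1] .nil .nil) (.node [50,47,48,1] .nil .nil)))) (.node [52,56,47,1,0] (.node [52,56,1,0] (.node [46,55,0,46,0] (.node [0,0,58,1] (.node [51,52,52,1] .nil .nil) .nil) (.node [47,55,50,1,0] .nil .nil)) (.node [55,1,49,1,0] (.node [50,53,0,1] .nil .nil) (.node [47,52,50,1] .nil .nil))) (.node [52,55,47,0,0] (.node [50,53,49,1,0] (.node [0,50,52,0,0] (.node [56,47,48,0,0] .nil .nil) .nil) (.node [51,53,1] .nil .nil)) (.node [58,52,48,1] (.node [52,51,49,1] .nil .nil) (.node [54,46,1,0] .nil .nil))))) (.node [54,47,48,47,0]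 (.node [52,51,46,1] (.node [47,50,0,0,0] (.node [48,48,50,0,0] (.node [54,50,1,47,0] (.node [50,1,0,1,0] .nil .nil) .nil) (.node [52,1,57,46,0] .nil .nil)) (.node [53,57,47,0] (.node [53,0,46,49,1] .nil .nil) (.node [48,56,51,1,0] .nil .nil))) (.node [49,57,1,0] (.node [49,52,49,0,0] (.node [0,58,51,47,0] (.node [52,57,46,1] .nil .nil) .nil) (.node [50,50,0,0] .nil .nil)) (.node [57,46,49,47,0] (.node [52,55,1,47,0] .nil .nil) (.node [53,46,1] .nil .nil)))) (.node [57,51,53,1,0] (.node [57,55,52,0,0] (.node [46,54,48,0,0] (.node [55,46,48,47,0] (.node [0,1,48,48,0] .nil .nil) .nil) (.node [50,1,46,1,0] .nil .nil)) (.node [52,50,52,1,0] (.node [53,57,0,46,0] .nil .nil) (.node [0,1,52,1] .nil .nil))) (.node [57,57,46,0,0] (.node [58,56,53,1] (.node [47,57,51,0,0] (.node [54,47,51,1,0] .nil .nil) .nil) (.node [46,56,51,1] .nil .nil)) (.node [47,57,53,49,0] (.node [56,48,1] .nil .nil) (.node [50,48,1,0] .nil .nil)))))))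

/-- A part. -/
noncomputable def mainWords0_4 : Arr (List ℕ) :=
  (.node [51,49,1] (.node [48,58,46,1] (.node [52,47,1] (.node [0,55,49,0,0] (.node [57,54,47,1] (.node [58,56,53,0,0] (.node [58,47,48,46,0] (.node [54,51,46,1] .nil .nil) .nil) (.node [52,56,48,0] .nil .nil)) (.node [49,55,58,1,0] (.node [57,58,47,0,0] .nil .nil) (.node [50,48,55,1] .nil .nil))) (.node [54,54,1,0] (.node [53,49,1,0,0] (.node [52,47,48,0] (.node [54,47,1,0] .nil .nil) .nil) (.node [50,54,47,1] .nil .nil)) (.node [1,0,47,0] (.node [54,48,54,1] .nil .nil) (.node [56,53,51,0,0] .nil .nil)))) (.node [1,48,55,48,0] (.node [47,51,1,49,1] (.node [56,51,51,49,0] (.node [0,55,51,49,0] (.node [51,48,0] .nil .nil) .nil) (.node [46,50,1,49,1] .nil .nil)) (.node [0,58,54,1,0] (.node [1,58,54,0,1] .nil .nil) (.node [53,54,48,47,0] .nil .nil))) (.node [48,0,0,0] (.node [57,55,46,0,0] (.node [0,50,1,47,0] (.node [0,55,52,46,0] .nil .nil) .nil) (.node [48,47,0,1] .nil .nil)) (.node [0,47,0,0] (.node [54,1,0,1,0] .nil .nil) (.node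 [52,0,55,1,0] .nil .nil))))) (.node [46,48,1] (.node [1,56,55,1] (.node [48,54,0,46,0] (.node [46,51,1,48,1] (.node [58,1,57,46,0] (.node [0,49,1,0] .nil .nil) .nil) (.node [55,56,48,1,0] .nil .nil)) (.node [46,54,1,0,0] (.node [58,1,46,0] .nil .nil) (.node [57,1,53,57,1] .nil .nil))) (.node [0,57,46,1] (.node [46,54,0,0,1] (.node [0,47,51,1] (.node [52,1,56,1,0] .nil .nil) .nil) (.node [54,47,53,1] .nil .nil)) (.node [47,53,0,0,1] (.node [55,56,46,1] .nil .nil) (.node [57,49,47,0] .nil .nil)))) (.node [58,46,0,0,0] (.node [48,54,48,48,0] (.node [1,0,0] (.node [51,58,0,1] (.node [48,53,49,0] .nil .nil) .nil) (.node [49,54,58,1] .nil .nil)) (.node [1,55,52,47,0] (.node [48,46,1] .nil .nil) (.node [49,0,49,1] .nil .nil))) (.node [46,57,1,58,1] (.node [46,50,50,1,0] (.node [53,47,1,0,0] (.node [1,57,48,1,0] .nil .nil) .nil) (.node [49,47,48,46,0] .nil .nil)) (.node [48,50,52,0,0] (.node [54,54,53,0,0] .nil .nil) (.node [0,46,49,1] .nil .nil)))))) (.node [46,54,49,47,0] (.node [58,54,48,0] (.node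 [0,58,0,1] (.node [50,49,1,0,0] (.node [50,0,55,47,0] (.node [55,52,0,0] (.node [51,46,46,0] .nil .nil) .nil) (.node [1] .nil .nil)) (.node [0,56,51,1,0] (.node [0,49,0,47,0] .nil .nil) (.node [56,56,48,48,0] .nil .nil))) (.node [1,47,55,48,0] (.node [47,54,1,46,0] (.node [57,52,47,0] (.node [55,1,55,48,0] .nil .nil) .nil) (.node [52,46,46,0,0] .nil .nil)) (.node [52,47,53,0,0] (.node [47,54,57,0,1] .nil .nil) (.node [56,1,57,46,0] .nil .nil)))) (.node [53,46,0] (.node [56,50,47,0] (.node [50,1,0,0] (.node [48,51,52,0,0] (.node [54,1,47,0,0] .nil .nil) .nil) (.node [58,48,0,0] .nil .nil)) (.node [1,46,50,0,0] (.node [58,49,55,1,0] .nil .nil) (.node [1,51,53,47,0] .nil .nil))) (.node [57,47,52,0,0] (.node [53,49,50,0,0] (.node [52,49,47,0] (.node [47,53,0,1] .nil .nil) .nil) (.node [49,46,0,48,1] .nil .nil)) (.node [48,53,1] (.node [50,49,54,1] .nil .nil) (.node [51,1,0,1] .nil .nil))))) (.node [1,47,48,1] (.node [53,0,47,48,1] (.node [46,49,0,0,0] (.node [58,0,48,0,0] (.node [1,47,49,0] (.node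 [48,56,49,46,0] .nil .nil) .nil) (.node [46,46,1] .nil .nil)) (.node [57,57,0,0,0] (.node [57,51,46,1] .nil .nil) (.node [0,48,58,1,0] .nil .nil))) (.node [58,1,46,1] (.node [46,53,0,0,0] (.node [54,1,57,46,1] (.node [48,0,57,46,0] .nil .nil) .nil) (.node [47,0,1,0] .nil .nil)) (.node [50,57,49,0] (.node [48,52,0,0,0] .nil .nil) (.node [52,46,46,1] .nil .nil)))) (.node [58,56,47,0,0] (.node [1,57,57,48,0] (.node [58,53,1,0] (.node [49,0,0,0] (.node [1,52,57,50,1] .nil .nil) .nil) (.node [52,51,1,0] .nil .nil)) (.node [50,49,0] (.node [54,51,48,0,0] .nil .nil) (.node [50,1,52,47,1] .nil .nil))) (.node [51,1,55,1,0] (.node [0,54,0,46,0] (.node [55,47,47,0,0] (.node [55,47,49,0] .nil .nil) .nil) (.node [48,0,56,1,0] .nil .nil)) (.node [51,54,48,1,0] (.node [48,1,58,47,1] .nil .nil) (.node [47,50,48,0] .nil .nil)))))))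

/-- A part. -/
noncomputable def mainWords0_5 : Arr (List ℕ) :=
  (.node [47,53,50,1] mainWords0_3 mainWords0_4)

/-- A part. -/
noncomputable def mainWords0_6 : Arr (List ℕ) :=
  (.node [55,48,48,46,1] mainWords0_2 mainWords0_5)

/-- A part. -/
noncomputable def mainWords0_7 : Arr (List ℕ) :=
  (.node [53,0,50,1,0] (.node [0,1,46,0,0] (.node [56,55,1] (.node [46,48,0] (.node [47,1,47,50,1] (.node [46,58,48,0] (.node [51,51,1,0] (.node [0,49,49,47,1] .nil .nil) .nil) (.node [48,51,51,0,0] .nil .nil)) (.node [51,48,46,0] (.node [55,53,49,1,0] .nil .nil) (.node [52,58,0,0,1] .nil .nil))) (.node [47,1,53,47,0] (.node [49,50,47,0] (.node [49,46,48,48,0] (.node [50,52,48,0] .nil .nil) .nil) (.node [49,1,0,46,0] .nil .nil)) (.node [48,51,49,0,0] (.node [1,55,52,47,1] .nil .nil) (.node [56,51,56,47,0] .nil .nil)))) (.node [56,1,52,1,0] (.node [53,0,56,47,1] (.node [48,1,52,1] (.node [52,52,51,1] (.node [46,54,52,46,0] .nil .nil) .nil) (.node [53,53,57,1] .nil .nil)) (.node [52,51,47,0] (.node [47,52,49,46,1]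 .nil .nil) (.node [1,48,1,0] .nil .nil))) (.node [48,50,47,0] (.node [48,56,49,1,0] (.node [46,46,0,0] (.node [51,47,48,1] .nil .nil) .nil) (.node [57,48,48,1,0] .nil .nil)) (.node [55,53,0,1,0] (.node [57,47,0,0] .nil .nil) (.node [50,46,1] .nil .nil))))) (.node [49,50,50,1] (.node [47,48,1] (.node [0,55,57,1] (.node [54,47,56,1] (.node [58,46,1,48,1] (.node [53,56,51,1] .nil .nil) .nil) (.node [57,50,48,0] .nil .nil)) (.node [50,54,0,0,0] (.node [0,49,52,0,0] .nil .nil) (.node [51,52,48,46,1] .nil .nil))) (.node [49,1,49,0] (.node [51,0,50,1,0] (.node [1,56,49,0] (.node [0,49,0] .nil .nil) .nil) (.node [1,0,51,0,1] .nil .nil)) (.node [0,47,48,1] (.node [50,0,51,1] .nil .nil) (.node [56,48,48,0] .nil .nil)))) (.node [46,55,53,1,0] (.node [56,51,1,0] (.node [53,56,48,0] (.node [57,47,47,0,0] (.node [48,58,51,47,0] .nil .nil) .nil) (.node [52,49,0,47,0] .nil .nil)) (.node [50,56,49,1] (.node [52,1,46,48,0] .nil .nil) (.node [1,48,0] .nil .nil))) (.node [0,1,52,1,0] (.node [55,46,52,0,0] (.node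 [54,48,50,1,0] (.node [58,48,57,1] .nil .nil) .nil) (.node [1,0,50,1,0] .nil .nil)) (.node [49,55,0,0,0] (.node [51,58,51,0,0] .nil .nil) (.node [52,58,52,1] .nil .nil)))))) (.node [50,52,0,0] (.node [55,56,46,0,0] (.node [48,53,47,0] (.node [57,53,49,0] (.node [47,52,1] (.node [54,56,51,0,0] (.node [55,1,51,0,0] .nil .nil) .nil) (.node [55,1,46,53,1] .nil .nil)) (.node [50,46,0,47,0] (.node [51,0,54,46,1] .nil .nil) (.node [53,58,47,0] .nil .nil))) (.node [53,51,1] (.node [54,1,49,0] (.node [47,52,46,46,0] (.node [49,49,1] .nil .nil) .nil) (.node [54,52,48,48,0] .nil .nil)) (.node [49,55,0,46,0] (.node [0,48,47,1] .nil .nil) (.node [55,52,1] .nil .nil)))) (.node [54,49,54,1,0] (.node [51,56,47,0,0] (.node [57,47,0] (.node [54,47,49,0,0] (.node [50,50,47,1] .nil .nil) .nil) (.node [53,1,52,47,0] .nil .nil)) (.node [58,1,57,1] (.node [52,1,49,0] .nil .nil) (.node [54,48,46,1] .nil .nil))) (.node [51,56,1,0] (.node [53,58,48,46,0] (.node [51,55,53,0,0] (.node [0,46,53,1,0] .nil .nil) .nil) (.node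 [57,1,50,47,0] .nil .nil)) (.node [47,55,0,47,0] (.node [48,47,1,48,1] .nil .nil) (.node [58,46,48,1,0] .nil .nil))))) (.node [58,49,56,1,0] (.node [46,1,46,53,1] (.node [53,0,48,0] (.node [1,52,0,1,0] (.node [53,48,0,0,0] (.node [0,47,0,0,0] .nil .nil) .nil) (.node [0,48,50,47,1] .nil .nil)) (.node [54,48,0,1,0] (.node [57,1,50,52,1] .nil .nil) (.node [46,51,47,0] .nil .nil))) (.node [55,51,48,46,0] (.node [52,54,48,0,0] (.node [48,53,54,46,1] (.node [1,52,54,1,0] .nil .nil) .nil) (.node [56,56,48,0] .nil .nil)) (.node [56,52,46,0,0] (.node [48,1,57,1] .nil .nil) (.node [48,0,58,46,1] .nil .nil)))) (.node [1,53,47,0] (.node [1,54,0,1,0] (.node [46,49,47,0,0] (.node [53,49,46,0] (.node [56,48,48,1] .nil .nil) .nil) (.node [48,48,52,48,0] .nil .nil)) (.node [54,51,48,0] (.node [1,50,46,0] .nil .nil) (.node [50,55,1] .nil .nil))) (.node [0,47,54,1] (.node [54,48,55,46,1] (.node [58,57,52,0,0] (.node [0,1,56,1] .nil .nil) .nil) (.node [49,58,50,1] .nil .nil)) (.node [52,54,1,0] (.node [55,52,49,1]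 .nil .nil) (.node [55,56,46,0] .nil .nil)))))))

/-- A part. -/
noncomputable def mainWords0_8 : Arr (List ℕ) :=
  (.node [48,51,56,1] (.node [55,47,1,54,1] (.node [56,46,0,47,0] (.node [52,52,47,1,0] (.node [1,57,0,47,0] (.node [46,50,46,0] (.node [1,52,50,1] (.node [47,48,47,1] .nil .nil) .nil) (.node [0,46,0,0,0] .nil .nil)) (.node [54,51,57,49,0] (.node [55,49,0,0] .nil .nil) (.node [46,56,54,1] .nil .nil))) (.node [47,47,49,0,0] (.node [47,51,0,0] (.node [57,50,0,1] (.node [57,53,1,0,0] .nil .nil) .nil) (.node [52,52,0,0,1] .nil .nil)) (.node [53,55,52,0,0] (.node [0,47,49,47,1] .nil .nil) (.node [53,1,0,1,0] .nil .nil)))) (.node [57,0,52,1] (.node [56,56,49,46,1] (.node [50,53,47,0] (.node [47,58,1] (.node [48,0,51,46,0] .nil .nil) .nil) (.node [0,46,51,1] .nil .nil)) (.node [47,57,46,0] (.node [46,48,48,1] .nil .nil) (.node [54,1,50,46,0] .nil .nil))) (.node [51,46,54,1,0] (.node [50,54,46,0] (.node [52,48,50,0,0] (.node [0,53,49,1,0] .nil .nil) .nil) (.node [0,53,51,0,0] .nil .nil))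 (.node [46,0,49,0] (.node [47,49,47,0,0] .nil .nil) (.node [1,55,52,0,1] .nil .nil))))) (.node [56,47,0,0,1] (.node [57,0,55,1,0] (.node [56,46,53,46,0] (.node [58,1,0,56,1] (.node [48,58,55,1] (.node [53,58,46,1] .nil .nil) .nil) (.node [50,47,47,0] .nil .nil)) (.node [48,0,47,1] (.node [55,57,1,0] .nil .nil) (.node [50,48,58,1] .nil .nil))) (.node [49,46,46,0] (.node [55,0,48,1] (.node [50,53,1] (.node [57,54,52,0,0] .nil .nil) .nil) (.node [57,46,52,1] .nil .nil)) (.node [47,50,46,1] (.node [57,46,55,1] .nil .nil) (.node [57,46,50,46,0] .nil .nil)))) (.node [52,50,46,0] (.node [58,52,48,0,0] (.node [48,58,48,47,0] (.node [50,1,46,0,0] (.node [50,57,1,0] .nil .nil) .nil) (.node [48,54,52,46,1] .nil .nil)) (.node [49,49,0,0,1] (.node [57,1] .nil .nil) (.node [46,54,52,48,0] .nil .nil))) (.node [1,53,1,0,0] (.node [55,58,50,0,0] (.node [50,53,1,46,0] (.node [50,55,49,1] .nil .nil) .nil) (.node [55,47,48,0] .nil .nil)) (.node [1,57,58,1] (.node [56,46,1,0] .nil .nil) (.node [51,48,48,1] .nil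 .nil)))))) (.node [0,54,51,1] (.node [57,1,57,1] (.node [46,1,47,1] (.node [48,48,48,0] (.node [56,0,51,1] (.node [1,52,48,1] (.node [54,48,47,0,0] .nil .nil) .nil) (.node [56,46,48,1] .nil .nil)) (.node [53,53,49,1] (.node [0,52,1] .nil .nil) (.node [54,1,50,1,0] .nil .nil))) (.node [0,1,54,1,0] (.node [53,58,46,0] (.node [49,47,48,0,0] (.node [58,47,1] .nil .nil) .nil) (.node [46,52,0,0] .nil .nil)) (.node [1,50,47,1] (.node [55,51,53,46,0] .nil .nil) (.node [46,0,57,0,1] .nil .nil)))) (.node [0,52,51,46,0] (.node [55,48,1,0] (.node [48,48,1,0] (.node [51,54,48,0,0] (.node [0,47,0,48,0] .nil .nil) .nil) (.node [50,55,50,0,0] .nil .nil)) (.node [48,53,56,1,0] (.node [58,48,47,0] .nil .nil) (.node [53,47,1] .nil .nil))) (.node [54,54,51,0,0] (.node [55,57,47,0] (.node [51,48,48,47,0] (.node [47,53,55,1,0] .nil .nil) .nil) (.node [52,49,47,1] .nil .nil)) (.node [1,53,46,0,0] (.node [1,55,47,0,1] .nil .nil) (.node [46,52,0,1] .nil .nil))))) (.node [49,46,49,46,0] (.node [47,58,47,1] (.node [58,55,51,1,0]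 (.node [54,51,1,0] (.node [58,47,52,0,0] (.node [50,46,0,1,0] .nil .nil) .nil) (.node [51,54,0,47,0] .nil .nil)) (.node [54,58,53,0,0] (.node [1,54,49,1] .nil .nil) (.node [1,0,47,48,0] .nil .nil))) (.node [52,1,0,1] (.node [57,50,56,48,0] (.node [54,0,52,1] (.node [58,54,52,1] .nil .nil) .nil) (.node [55,50,1,48,0] .nil .nil)) (.node [54,51,48,48,0] (.node [54,0,58,1] .nil .nil) (.node [58,50,57,1] .nil .nil)))) (.node [51,58,48,0] (.node [49,1,46,0,0] (.node [58,57,0,1] (.node [50,1,49,0,0] (.node [53,1,58,1] .nil .nil) .nil) (.node [55,50,50,1,0] .nil .nil)) (.node [1,56,48,0] (.node [53,53,46,0,0] .nil .nil) (.node [0,51,56,1] .nil .nil))) (.node [58,1,47,1] (.node [0,46,56,1,0] (.node [57,57,46,0] (.node [53,0,46,1] .nil .nil) .nil) (.node [57,49,46,1] .nil .nil)) (.node [1,58,51,0,0] (.node [54,52,49,1] .nil .nil) (.node [1,47,0,1] .nil .nil)))))))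

/-- A part. -/
noncomputable def mainWords0_9 : Arr (List ℕ) :=
  (.node [58,49,1] mainWords0_7 mainWords0_8)

/-- A part. -/
noncomputable def mainWords0_10 : Arr (List ℕ) :=
  (.node [57,47,48,1] (.node [46,48,56,1] (.node [56,52,50,1] (.node [47,53,0,0,0] (.node [51,52,1,54,1] (.node [46,1,57,1] (.node [57,47,55,1,0] (.node [1,48,46,1,0] .nil .nil) .nil) (.node [50,48,51,46,0] .nil .nil)) (.node [48,46,1,0] (.node [57,54,1,0,0] .nil .nil) (.node [0,0,1,48,0] .nil .nil))) (.node [1,51,53,1] (.node [47,48,46,0] (.node [49,50,52,1,0] (.node [54,57,46,0,0] .nil .nil) .nil) (.node [46,1,0,46,0] .nil .nil)) (.node [53,55,1,0] (.node [1,52,57,1] .nil .nil) (.node [51,54,1,0,0] .nil .nil)))) (.node [0,47,52,1] (.node [0,53,55,1] (.node [48,54,49,1,0] (.node [51,0,53,47,0] (.node [50,48,0,0,0] .nil .nil) .nil) (.node [58,47,0,0,1] .nil .nil)) (.node [50,0,58,1] (.node [54,46,0,0,1] .nil .nil) (.node [52,57,46,0] .nil .nil))) (.node [1,49,53,1] (.node [52,47,48,47,0] (.node [51,53,0,0,0] (.node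 [58,50,47,1] .nil .nil) .nil) (.node [52,56,49,47,0] .nil .nil)) (.node [46,54,0,48,0] (.node [48,50,48,46,0] .nil .nil) (.node [0,47,53,46,0] .nil .nil))))) (.node [53,53,49,46,1] (.node [57,55,0,47,0] (.node [56,52,47,1,0] (.node [51,48,47,1] (.node [58,0,49,49,1] (.node [0,1,48,1] .nil .nil) .nil) (.node [55,53,51,0,0] .nil .nil)) (.node [56,56,49,0] (.node [1,58,48,0] .nil .nil) (.node [1,48,48,47,0] .nil .nil))) (.node [55,46,0,0] (.node [53,1,54,49,1] (.node [51,58,53,1] (.node [47,0,50,0,0] .nil .nil) .nil) (.node [53,1,46,49,0] .nil .nil)) (.node [1,53,55,46,1] (.node [0,50,46,0,0] .nil .nil) (.node [50,57,46,1,0] .nil .nil)))) (.node [46,46,46,0] (.node [50,49,50,0,0] (.node [51,49,46,0] (.node [0,48,46,0,0] (.node [1,49,0] .nil .nil) .nil) (.node [51,46,51,1] .nil .nil)) (.node [50,49,1] (.node [49,58,46,1] .nil .nil) (.node [58,52,0,0,0] .nil .nil))) (.node [0,55,49,1] (.node [53,1,0,1] (.node [48,51,51,1,0] (.node [46,46,48,1] .nil .nil) .nil) (.node [48,57,51,0,0] .nil .nil))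 (.node [52,48,0,0] (.node [47,56,1,0] .nil .nil) (.node [1,51,53,1,0] .nil .nil)))))) (.node [51,47,52,0,0] (.node [57,48,0] (.node [49,1,48,0,0] (.node [49,1,0,0,0] (.node [0,0,48,1] (.node [47,53,1,0] (.node [46,54,46,1,0] .nil .nil) .nil) (.node [54,49,1,55,1] .nil .nil)) (.node [55,48,0,0,1] (.node [55,0,47,0] .nil .nil) (.node [0,53,49,1] .nil .nil))) (.node [56,47,0,47,0] (.node [46,49,46,0,0] (.node [49,50,49,1,0] (.node [52,58,1,55,1] .nil .nil) .nil) (.node [58,0,1,0] .nil .nil)) (.node [56,55,53,1,0] (.node [48,51,57,47,0] .nil .nil) (.node [1,50,48,52,1] .nil .nil)))) (.node [47,58,0,46,0] (.node [46,53,49,0] (.node [49,0,1,47,0] (.node [55,47,53,48,0] (.node [58,50,46,1] .nil .nil) .nil) (.node [54,1,49,47,0] .nil .nil)) (.node [52,51,46,0,0] (.node [47,52,51,48,0] .nil .nil) (.node [55,51,46,1] .nil .nil))) (.node [58,50,47,0] (.node [58,46,46,0] (.node [0,0,49,1] (.node [49,46,0,1] .nil .nil) .nil) (.node [47,52,46,1] .nil .nil)) (.node [53,48,1,48,1] (.node [55,51,47,1] .nil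 .nil) (.node [49,54,0,1] .nil .nil))))) (.node [48,1,48,0] (.node [0,56,47,1] (.node [49,54,50,0,0] (.node [55,50,49,0,0] (.node [47,54,1,0,0] (.node [1,51,49,0] .nil .nil) .nil) (.node [57,1,46,48,0] .nil .nil)) (.node [58,57,47,0] (.node [1,57,46,1] .nil .nil) (.node [58,0,49,0] .nil .nil))) (.node [1,53,0,0] (.node [46,58,0,1] (.node [54,49,53,1] (.node [54,49,54,1] .nil .nil) .nil) (.node [55,52,48,0,0] .nil .nil)) (.node [1,56,46,0] (.node [56,48,54,47,0] .nil .nil) (.node [49,55,48,46,1] .nil .nil)))) (.node [50,0,50,1] (.node [53,0,50,0,0] (.node [54,1,0,1] (.node [55,48,50,48,0] (.node [1,49,51,48,0] .nil .nil) .nil) (.node [49,52,46,46,0] .nil .nil)) (.node [46,52,46,0,0] (.node [1,52,58,1,0] .nil .nil) (.node [52,46,53,1] .nil .nil))) (.node [58,46,0,0] (.node [53,46,57,1] (.node [0,48,50,1,0] (.node [58,1,48,0] .nil .nil) .nil) (.node [47,1,51,46,1] .nil .nil)) (.node [54,57,48,0] (.node [1,54,48,47,0] .nil .nil) (.node [53,49,47,0] .nil .nil)))))))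

/-- A part. -/
noncomputable def mainWords0_11 : Arr (List ℕ) :=
  (.node [0,53,0,0] (.node [53,46,1,46,0] (.node [0,56,1,0,0] (.node [54,49,47,0] (.node [54,0,47,1] (.node [56,56,52,1] (.node [54,50,46,0,0] (.node [48,0,52,46,0] .nil .nil) .nil) (.node [53,58,1] .nil .nil)) (.node [50,56,1] (.node [47,58,46,1] .nil .nil) (.node [50,48,0,1,0] .nil .nil))) (.node [48,56,48,1] (.node [54,56,0,1] (.node [51,49,56,48,0] (.node [1,55,49,46,0] .nil .nil) .nil) (.node [51,56,47,1,0] .nil .nil)) (.node [47,50,0,48,0] (.node [57,0,52,47,0] .nil .nil) (.node [1,56,53,49,1] .nil .nil)))) (.node [0,51,46,0] (.node [54,47,0,0] (.node [48,50,0,46,0] (.node [47,57,48,0] (.node [1,50,49,0] .nil .nil) .nil) (.node [55,0,48,48,0] .nil .nil)) (.node [54,50,49,1,0] (.node [47,52,46,0] .nil .nil) (.node [0,58,52,1] .nil .nil))) (.node [57,58,49,0] (.node [58,55,48,1,0] (.node [54,49,0,0,0] (.node [47,0,47,0,0] .nil .nil) .nil) (.node [0,52,49,1,0] .nil .nil)) (.node [53,0,0,47,0] (.node [49,53,0,47,0] .nil .nil)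 (.node [54,52,46,1,0] .nil .nil))))) (.node [56,52,46,0] (.node [52,55,1] (.node [49,53,0,0] (.node [49,57,47,0] (.node [46,1,49,1,0] (.node [1,52,46,0] .nil .nil) .nil) (.node [52,0,47,0] .nil .nil)) (.node [52,46,0,1,0] (.node [52,0,56,1,0] .nil .nil) (.node [47,47,1,0,0] .nil .nil))) (.node [51,48,0,0] (.node [46,46,48,0] (.node [48,52,1] (.node [0,52,47,48,0] .nil .nil) .nil) (.node [54,52,48,0,0] .nil .nil)) (.node [0,1,50,1,0] (.node [47,48,50,0,0] .nil .nil) (.node [50,0,50,1,0] .nil .nil)))) (.node [53,51,47,0,0] (.node [48,50,0,1] (.node [52,47,57,47,0] (.node [55,50,46,0,0] (.node [51,1,0,46,0] .nil .nil) .nil) (.node [54,1,48,46,0] .nil .nil)) (.node [1,53,50,1] (.node [55,47,53,0,0] .nil .nil) (.node [0,49,49,49,0] .nil .nil))) (.node [50,55,49,46,0] (.node [46,1,48,47,0] (.node [58,56,1,0] (.node [46,46,49,0] .nil .nil) .nil) (.node [54,0,0,1] .nil .nil)) (.node [57,50,46,0] (.node [0,54,49,46,1] .nil .nil) (.node [58,55,46,49,0] .nil .nil)))))) (.node [0,47,47,49,0] (.node [1,56,52,48,0]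 (.node [56,54,46,1] (.node [49,55,58,47,0] (.node [47,48,0,47,0] (.node [47,54,1] (.node [0,53,54,1,0] .nil .nil) .nil) (.node [58,48,0,1] .nil .nil)) (.node [55,50,0,0] (.node [56,50,49,0] .nil .nil) (.node [57,0,53,48,0] .nil .nil))) (.node [47,58,53,0,0] (.node [47,57,49,1] (.node [1,49,57,49,1] (.node [56,51,47,0] .nil .nil) .nil) (.node [54,51,51,1] .nil .nil)) (.node [49,54,54,1] (.node [57,51,52,1] .nil .nil) (.node [48,47,47,0,0] .nil .nil)))) (.node [52,47,52,1,0] (.node [54,46,52,1,0] (.node [55,0,52,1,0] (.node [50,54,46,1,0] (.node [53,55,47,1,0] .nil .nil) .nil) (.node [0,49,53,48,0] .nil .nil)) (.node [52,1,48,1] (.node [57,49,0,47,0] .nil .nil) (.node [46,58,50,0,0] .nil .nil))) (.node [51,54,49,1] (.node [47,48,0,0,0] (.node [48,1,49,0] (.node [48,52,51,47,1] .nil .nil) .nil) (.node [56,48,56,1,0] .nil .nil)) (.node [53,54,0,46,0] (.node [51,57,49,0] .nil .nil) (.node [53,53,46,1] .nil .nil))))) (.node [48,58,1,48,0] (.node [48,53,56,1] (.node [53,54,0,51,1] (.node [47,58,49,0,0]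 (.node [0,54,48,1,0] (.node [0,51,52,0,0] .nil .nil) .nil) (.node [50,0,0,1] .nil .nil)) (.node [49,47,0,0] (.node [46,50,0,47,0] .nil .nil) (.node [48,0,58,0,1] .nil .nil))) (.node [47,55,49,0] (.node [51,47,0,1] (.node [56,1,52,1] (.node [48,1,48,1] .nil .nil) .nil) (.node [49,49,0,0] .nil .nil)) (.node [52,46,49,0] (.node [0,54,46,0] .nil .nil) (.node [0,56,55,1] .nil .nil)))) (.node [52,49,50,1] (.node [47,51,46,0] (.node [52,57,1,0] (.node [57,1,49,0] (.node [46,52,0,0,0] .nil .nil) .nil) (.node [47,0,49,1,0] .nil .nil)) (.node [46,55,1,0] (.node [1,56,58,48,0] .nil .nil) (.node [57,55,47,0] .nil .nil))) (.node [47,55,51,0,0] (.node [56,55,49,0] (.node [49,53,49,0] .nil .nil) (.node [1,52,0,0,0] .nil .nil)) (.node [57,46,1,0,0] (.node [1,56,53,47,0] .nil .nil) (.node [48,0,54,1,0] .nil .nil)))))))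

/-- A part. -/
noncomputable def mainWords0_12 : Arr (List ℕ) :=
  (.node [49,0,57,0,1] mainWords0_10 mainWords0_11)

/-- A part. -/
noncomputable def mainWords0_13 : Arr (List ℕ) :=
  (.node [58,51,49,1] mainWords0_9 mainWords0_12)

/-- A part. -/
noncomputable def mainWords0_14 : Arr (List ℕ) :=
  (.node [56,1,49,1] mainWords0_6 mainWords0_13)

/-- A part. -/
noncomputable def mainWords0_15 : Arr (List ℕ) :=
  (.node [56,55,46,1] (.node [57,50,56,1] (.node [0,46,46,48,0] (.node [46,52,47,0,0] (.node [54,53,47,1] (.node [56,47,56,1,0] (.node [55,58,47,0] (.node [54,52,48,0] .nil .nil) .nil) (.node [51,49,50,46,1] .nil .nil)) (.node [47,48,0,0] (.node [46,57,1] .nil .nil) (.node [56,49,57,46,0] .nil .nil))) (.node [46,46,53,0,0] (.node [54,53,46,46,0] (.node [0,53,50,48,0] (.node [1,56,52,1] .nil .nil) .nil) (.node [0,57,47,0,0] .nil .nil)) (.node [57,46,50,0,0] (.node [58,47,47,0] .nil .nil) (.node [46,1,54,49,1] .nil .nil)))) (.node [54,57,1] (.node [57,47,50,1] (.node [49,58,50,0,0] (.node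 [48,1,47,0,0] (.node [56,52,49,1] .nil .nil) .nil) (.node [46,0,50,46,0] .nil .nil)) (.node [56,56,46,46,0] (.node [56,48,47,0] .nil .nil) (.node [58,57,47,1] .nil .nil))) (.node [49,58,1,0,0] (.node [54,46,48,0] (.node [49,0,58,1] (.node [50,47,56,1,0] .nil .nil) .nil) (.node [46,0,0,47,0] .nil .nil)) (.node [46,46,50,0,0] (.node [55,1,49,1] .nil .nil) (.node [55,52,0,1] .nil .nil))))) (.node [1,57,46,0] (.node [53,1,49,1] (.node [49,53,47,0] (.node [49,50,1,55,1] (.node [55,53,47,1] (.node [48,50,1,0,0] .nil .nil) .nil) (.node [0,0,57,1,0] .nil .nil)) (.node [47,54,47,0,0] (.node [1,56,53,0,0] .nil .nil) (.node [53,1,51,1] .nil .nil))) (.node [51,46,1,0,0] (.node [55,57,50,1] (.node [53,48,46,1] (.node [49,0,0,46,1] .nil .nil) .nil) (.node [50,54,48,0,0] .nil .nil)) (.node [57,47,49,1] (.node [58,46,1,0] .nil .nil) (.node [1,46,54,0,1] .nil .nil)))) (.node [57,47,1,0] (.node [58,56,49,1,0] (.node [1,58,53,1,0] (.node [57,49,47,0,0] (.node [47,0,51,52,1] .nil .nil) .nil) (.node [54,57,0,1,0]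 .nil .nil)) (.node [49,1,54,53,1] (.node [53,56,1,0] .nil .nil) (.node [52,57,0,47,0] .nil .nil))) (.node [1,51,46,1,0] (.node [55,56,50,0,0] (.node [49,1,0] (.node [52,48,47,0,0] .nil .nil) .nil) (.node [0,57,52,46,1] .nil .nil)) (.node [49,47,56,48,0] (.node [58,1,0,48,1] .nil .nil) (.node [48,54,57,1,0] .nil .nil)))))) (.node [56,56,52,0,0] (.node [57,46,0,0,0] (.node [48,48,54,1,0] (.node [53,58,53,1,0] (.node [53,1,0,46,0] (.node [48,51,53,1,0] (.node [1,57,55,1] .nil .nil) .nil) (.node [51,55,0,0,0] .nil .nil)) (.node [51,58,1] (.node [46,58,53,0,0] .nil .nil) (.node [1,47,48,46,1] .nil .nil))) (.node [0,46,57,1,0] (.node [49,1,0,1,0] (.node [49,58,55,1,0] (.node [47,58,46,0,0] .nil .nil) .nil) (.node [48,0,53,48,0] .nil .nil)) (.node [52,57,48,0] (.node [47,1,55,1] .nil .nil) (.node [48,53,53,0,0] .nil .nil)))) (.node [46,56,1,0] (.node [55,1,0,0,0] (.node [48,47,1,0,0] (.node [0,56,47,1,0] (.node [46,48,0,0] .nil .nil) .nil) (.node [0,58,56,1,0] .nil .nil)) (.node [1,49,47,0,0] (.node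 [54,50,0,47,0] .nil .nil) (.node [48,1,0] .nil .nil))) (.node [52,57,52,0,0] (.node [54,1,52,1] (.node [49,50,49,0,0] (.node [58,0,49,1,0] .nil .nil) .nil) (.node [49,51,47,0,0] .nil .nil)) (.node [47,0,48,1] (.node [52,1,52,1] .nil .nil) (.node [57,53,0,0,1] .nil .nil))))) (.node [46,57,49,0] (.node [50,1,50,49,0] (.node [1,52,46,1] (.node [58,48,58,1,0] (.node [49,1,58,1,0] (.node [0,0,53,55,1] .nil .nil) .nil) (.node [55,46,46,0,0] .nil .nil)) (.node [58,54,54,47,0] (.node [49,51,46,1,0] .nil .nil) (.node [56,1,57,49,0] .nil .nil))) (.node [47,55,46,0,0] (.node [49,50,46,0] (.node [0,47,49,47,0] (.node [46,49,46,0] .nil .nil) .nil) (.node [0,51,0,1] .nil .nil)) (.node [51,46,0,0,0] (.node [54,53,49,1] .nil .nil) (.node [57,54,0,1,0] .nil .nil)))) (.node [46,58,47,0,0] (.node [53,48,0,46,0] (.node [49,51,56,46,0] (.node [52,48,52,0,0] (.node [58,54,47,1,0] .nil .nil) .nil) (.node [1,52,1,0] .nil .nil)) (.node [46,52,46,48,0] (.node [53,53,1,48,1] .nil .nil) (.node [46,0,47,0,0] .nil .nil)))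 (.node [49,57,46,0] (.node [1,51,47,47,0] (.node [57,53,48,1,0] (.node [47,54,51,1] .nil .nil) .nil) (.node [48,58,51,1,0] .nil .nil)) (.node [56,49,0,1,0] (.node [47,0,47,1] .nil .nil) (.node [52,52,1] .nil .nil)))))))

/-- A part. -/
noncomputable def mainWords0_16 : Arr (List ℕ) :=
  (.node [49,0,0,1] (.node [56,51,47,1] (.node [57,54,1] (.node [49,0,0] (.node [54,1,47,50,1] (.node [48,56,47,0] (.node [0,58,54,1] (.node [1,49,50,1,0] .nil .nil) .nil) (.node [0,48,50,48,0] .nil .nil)) (.node [53,46,56,1,0] (.node [55,1,52,47,1] .nil .nil) (.node [46,46,1,0,0] .nil .nil))) (.node [50,49,0,46,0] (.node [49,57,49,0] (.node [47,49,47,47,0] (.node [46,0,0,1] .nil .nil) .nil) (.node [46,52,58,1,0] .nil .nil)) (.node [57,48,0,0] (.node [47,1,56,1] .nil .nil) (.node [1,54,1,48,0] .nil .nil)))) (.node [0,52,50,49,0] (.node [1,46,58,1] (.node [0,47,1,0,0] (.node [0,1,58,46,0] (.node [47,48,46,1] .nil .nil) .nil) (.node [54,46,49,47,0] .nil .nil)) (.node [48,52,1,0,0] (.node [55,46,1,0] .nil .nil)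 (.node [1,57,50,1,0] .nil .nil))) (.node [48,56,48,0,0] (.node [53,55,48,0] (.node [0,54,49,1,0] (.node [50,56,51,0,0] .nil .nil) .nil) (.node [54,56,49,1] .nil .nil)) (.node [55,49,56,1,0] (.node [53,50,47,1] .nil .nil) (.node [58,47,0,46,0] .nil .nil))))) (.node [57,1,49,49,0] (.node [47,0,47,1,0] (.node [46,49,53,0,0] (.node [50,52,47,1] (.node [48,1,0,46,0] (.node [56,47,47,0,0] .nil .nil) .nil) (.node [46,1,48,0,1] .nil .nil)) (.node [0,56,49,0,0] (.node [1,58,47,51,1] .nil .nil) (.node [52,1,0,0] .nil .nil))) (.node [54,58,51,0,0] (.node [1,55,52,49,0] (.node [48,0,51,1] (.node [52,56,1] .nil .nil) .nil) (.node [1,48,50,1,0] .nil .nil)) (.node [0,46,1,48,1] (.node [53,58,55,48,0] .nil .nil) (.node [56,58,53,1] .nil .nil)))) (.node [54,53,47,0] (.node [56,50,0,48,0] (.node [46,56,0,0,0] (.node [54,53,0,0] (.node [46,52,50,1] .nil .nil) .nil) (.node [52,1,49,0,0] .nil .nil)) (.node [48,48,47,1] (.node [46,52,48,0,0] .nil .nil) (.node [51,47,47,1] .nil .nil))) (.node [46,1,58,1] (.node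 [56,54,52,0,0] (.node [52,50,48,0,0] (.node [48,55,53,46,0] .nil .nil) .nil) (.node [56,0,53,48,0] .nil .nil)) (.node [56,53,49,1,0] (.node [1,58,53,0,0] .nil .nil) (.node [54,46,0,49,0] .nil .nil)))))) (.node [49,51,52,46,0] (.node [55,56,49,0] (.node [50,1,57,1,0] (.node [0,54,53,1,0] (.node [0,50,49,0] (.node [0,54,47,0] (.node [46,50,1] .nil .nil) .nil) (.node [58,51,47,0,0] .nil .nil)) (.node [46,0,53,48,0] (.node [54,53,48,0] .nil .nil) (.node [46,46,51,1] .nil .nil))) (.node [46,46,55,1] (.node [56,58,51,1,0] (.node [55,0,50,46,0] (.node [49,56,58,1,0] .nil .nil) .nil) (.node [0,49,53,49,0] .nil .nil)) (.node [47,49,0] (.node [1,55,48,46,1] .nil .nil) (.node [58,51,47,0] .nil .nil)))) (.node [53,54,1,0,0] (.node [0,57,48,0] (.node [52,1,48,0] (.node [57,0,49,0,0] (.node [47,56,50,0,0] .nil .nil) .nil) (.node [0,49,53,46,0] .nil .nil)) (.node [48,0] (.node [49,51,0,47,0] .nil .nil) (.node [1,47,53,46,0] .nil .nil))) (.node [50,49,0,0] (.node [50,58,49,0] (.node [55,48,52,0,0] (.node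 [48,0,47,1,0] .nil .nil) .nil) (.node [56,47,0,1] .nil .nil)) (.node [47,53,47,1] (.node [1,55,49,1] .nil .nil) (.node [0,52,49,1] .nil .nil))))) (.node [54,1,49,1,0] (.node [1,58,55,1] (.node [53,49,55,1,0] (.node [46,0,49,1] (.node [57,52,47,1,0] (.node [52,46,0,47,0] .nil .nil) .nil) (.node [55,0,0,0] .nil .nil)) (.node [58,56,49,47,0] (.node [54,52,0,1,0] .nil .nil) (.node [1,52,52,1,0] .nil .nil))) (.node [55,1,48,0,0] (.node [57,50,47,0] (.node [51,52,0,47,0] (.node [47,47,47,0,0] .nil .nil) .nil) (.node [49,55,1,49,1] .nil .nil)) (.node [58,1,0,0,0] (.node [0,50,49,49,0] .nil .nil) (.node [55,53,50,1,0] .nil .nil)))) (.node [54,54,47,1,0] (.node [56,56,51,0,0] (.node [54,49,46,0] (.node [46,52,54,1,0] (.node [47,54,0,0,0] .nil .nil) .nil) (.node [47,53,51,1] .nil .nil)) (.node [47,53,53,46,0] (.node [48,54,47,1] .nil .nil) (.node [50,53,46,0,0] .nil .nil))) (.node [50,58,54,0,0,0] (.node [58,53,51,1] (.node [51,47,53,0,0] (.node [47,51,51,1] .nil .nil) .nil) (.node [53,48,46,1,0] .nil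 .nil)) (.node [53,53,0,0,0] (.node [49,55,48,0,0] .nil .nil) (.node [56,51,1] .nil .nil)))))))

/-- A part. -/
noncomputable def mainWords0_17 : Arr (List ℕ) :=
  (.node [58,1,49,1] mainWords0_15 mainWords0_16)

/-- A part. -/
noncomputable def mainWords0_18 : Arr (List ℕ) :=
  (.node [0,54,58,46,0] (.node [1,47,48,46,0] (.node [1,0,50,49,0] (.node [50,53,55,1,0] (.node [49,50,56,1] (.node [49,50,0,0] (.node [1,52,48,0] (.node [0,50,0,1] .nil .nil) .nil) (.node [56,1,54,1] .nil .nil)) (.node [53,57,51,0,0] (.node [50,1,0,46,0] .nil .nil) (.node [57,50,1,0] .nil .nil))) (.node [48,51,0,0,0] (.node [51,53,47,49,0] (.node [46,56,48,0,0] (.node [56,0,56,47,1] .nil .nil) .nil) (.node [55,46,49,0] .nil .nil)) (.node [47,1,48,0] (.node [52,49,1,0] .nil .nil) (.node [58,0,56,1,0] .nil .nil)))) (.node [49,52,46,1] (.node [1,53,49,50,1] (.node [56,0,46,1] (.node [55,57,49,1] (.node [50,1,50,46,1] .nil .nil) .nil) (.node [46,57,47,0,0] .nil .nil)) (.node [56,1,55,1,0] (.node [57,47,1,0,0] .nil .nil)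 (.node [0,49,54,47,0] .nil .nil))) (.node [50,47,1,0,0] (.node [54,47,47,0] (.node [47,56,51,47,0] (.node [51,52,50,0,0] .nil .nil) .nil) (.node [1,56,51,1,0] .nil .nil)) (.node [46,0,0,0,0] (.node [1,56,53,1] .nil .nil) (.node [48,46,1,0,0] .nil .nil))))) (.node [1,47,0,0] (.node [47,57,48,1] (.node [54,48,51,46,0] (.node [1,57,1,0,0] (.node [1,0,52,1,0] (.node [49,53,50,46,0] .nil .nil) .nil) (.node [0,54,47,1] .nil .nil)) (.node [48,48,0,0] (.node [1,57,52,1,0] .nil .nil) (.node [46,56,49,0] .nil .nil))) (.node [47,47,0,1] (.node [57,55,49,1] (.node [58,1,56,49,0] (.node [1,56,47,1] .nil .nil) .nil) (.node [57,55,53,48,0] .nil .nil)) (.node [51,52,48,1] (.node [48,50,1,0] .nil .nil) (.node [1,49,51,46,1] .nil .nil)))) (.node [50,57,47,0] (.node [56,47,1,0] (.node [48,51,47,0,0] (.node [56,46,46,0] (.node [56,49,47,1] .nil .nil) .nil) (.node [47,52,51,47,0] .nil .nil)) (.node [1,51,46,46,0] (.node [49,50,1,48,0] .nil .nil) (.node [48,55,47,1] .nil .nil))) (.node [54,54,46,1] (.node [58,53,49,0]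 (.node [51,1,0] (.node [57,0,1,0] .nil .nil) .nil) (.node [48,51,1,49,1] .nil .nil)) (.node [56,49,1,0] (.node [50,0,54,1,0] .nil .nil) (.node [49,53,46,0,0] .nil .nil)))))) (.node [0,48,1,0,0] (.node [54,50,50,0,0] (.node [50,58,53,48,0] (.node [57,57,47,1,0] (.node [52,51,1] (.node [47,53,49,0,0] (.node [0,0,51,1] .nil .nil) .nil) (.node [53,54,49,47,0] .nil .nil)) (.node [54,46,1] (.node [52,49,46,0] .nil .nil) (.node [0,50,52,49,0] .nil .nil))) (.node [55,52,47,1] (.node [49,1,0,0] (.node [50,46,46,0] (.node [57,53,0,0] .nil .nil) .nil) (.node [50,54,1] .nil .nil)) (.node [50,53,46,0] (.node [58,1,53,0,1] .nil .nil) (.node [57,53,1,46,0] .nil .nil)))) (.node [53,58,55,1,0] (.node [50,49,49,47,0] (.node [57,48,48,0,0] (.node [56,52,48,47,0] (.node [54,54,0,0,0] .nil .nil) .nil) (.node [1,54,52,1] .nil .nil)) (.node [52,47,0,0] (.node [53,1,54,1] .nil .nil) (.node [58,47,0,1] .nil .nil))) (.node [50,56,48,0] (.node [51,0,48,0,0] (.node [51,53,48,0] (.node [58,57,58,1] .nil .nil) .nil) (.node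 [53,53,49,1,0] .nil .nil)) (.node [46,56,47,1] (.node [0,48,58,1] .nil .nil) (.node [54,50,49,1] .nil .nil))))) (.node [52,48,0,1,0] (.node [56,50,50,1] (.node [0,50,1] (.node [49,1,0,1] (.node [47,52,0,0] (.node [56,52,0,0,1] .nil .nil) .nil) (.node [50,46,0,0] .nil .nil)) (.node [56,54,47,49,0] (.node [0,0,48,0] .nil .nil) (.node [53,0,56,1,0] .nil .nil))) (.node [52,0,49,1] (.node [54,48,1,0] (.node [50,50,0,51,1] (.node [0,51,48,0] .nil .nil) .nil) (.node [0,47,55,46,1] .nil .nil)) (.node [58,46,46,0,0] (.node [54,1,52,47,1] .nil .nil) (.node [52,57,49,47,0] .nil .nil)))) (.node [54,52,49,0] (.node [47,0,49,0] (.node [46,0,53,46,0] (.node [57,52,47,0,0] (.node [51,0,56,46,0] .nil .nil) .nil) (.node [46,1,46,48,0] .nil .nil)) (.node [1,56,0,1] (.node [1,58,52,51,1] .nil .nil) (.node [57,51,47,1,0] .nil .nil))) (.node [47,56,46,46,0] (.node [57,58,1,49,1] (.node [51,53,1,0] (.node [1,47,53,49,0] .nil .nil) .nil) (.node [55,0,46,1] .nil .nil)) (.node [52,56,0,48,0] (.node [46,49,47,0] .nil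 .nil) (.node [1,56,51,0,0] .nil .nil)))))))

/-- A part. -/
noncomputable def mainWords0_19 : Arr (List ℕ) :=
  (.node [1,58,0,47,1] (.node [1,55,47,0] (.node [56,46,48,1,0] (.node [51,0,48,1,0] (.node [51,54,49,47,0] (.node [0,1,58,1] (.node [56,1,49,0,0] (.node [52,52,47,1] .nil .nil) .nil) (.node [50,1,47,1] .nil .nil)) (.node [48,0,0,47,0] (.node [49,1,54,1,0] .nil .nil) (.node [49,50,53,1] .nil .nil))) (.node [0,46,1,0,1] (.node [0,49,1] (.node [0,52,0,0] (.node [53,1,46,0] .nil .nil) .nil) (.node [57,48,46,1] .nil .nil)) (.node [1,54,51,1] (.node [50,49,46,1] .nil .nil) (.node [47,57,46,0,0] .nil .nil)))) (.node [56,46,48,0,0] (.node [0,48,48,48,0] (.node [55,56,48,47,0] (.node [49,56,47,0] (.node [53,51,0,1,0] .nil .nil) .nil) (.node [0,57,46,46,1] .nil .nil)) (.node [1,49,0,46,0] (.node [47,53,1,54,1] .nil .nil) (.node [49,53,48,0] .nil .nil))) (.node [54,48,51,0,1] (.node [50,48,47,0] (.node [46,48,47,1,0] (.node [1,49,46,0,1] .nil .nil) .nil) (.node [0,56,0,1] .nil .nil)) (.node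 [1,49,58,49,0] (.node [1,51,1] .nil .nil) (.node [1,54,53,0,0] .nil .nil))))) (.node [49,49,50,0,0] (.node [1,53,58,1,0] (.node [51,1,51,1] (.node [55,51,52,0,0] (.node [55,47,1,0,0] (.node [0,54,50,0,0] .nil .nil) .nil) (.node [52,1,0] .nil .nil)) (.node [58,56,0,0,0] (.node [56,47,48,0] .nil .nil) (.node [50,54,0,47,0] .nil .nil))) (.node [56,46,0,1,0] (.node [54,54,46,46,0] (.node [1,0,56,1] (.node [50,48,48,0] .nil .nil) .nil) (.node [1,0,58,48,0] .nil .nil)) (.node [57,50,46,0,0] (.node [53,1] .nil .nil) (.node [46,51,52,0,0] .nil .nil)))) (.node [55,50,46,1,0] (.node [49,1,46,1,0] (.node [49,58,48,0] (.node [48,52,51,1,0] (.node [55,58,46,0] .nil .nil) .nil) (.node [48,58,54,1] .nil .nil)) (.node [56,50,1,0,0] (.node [55,53,1] .nil .nil) (.node [1,55,58,1] .nil .nil))) (.node [53,56,47,0,0] (.node [51,46,56,1] (.node [50,52,50,0,0] (.node [0,50,53,46,0] .nil .nil) .nil) (.node [52,54,46,0] .nil .nil)) (.node [47,49,0,0,0] (.node [1,58,51,1] .nil .nil) (.node [49,1,50,46,1] .nil .nil))))))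 (.node [47,53,48,1] (.node [51,52,55,1] (.node [1,58,55,0,1] (.node [57,1,0] (.node [46,1] (.node [58,1,47,0,0] (.node [49,54,1,0] .nil .nil) .nil) (.node [50,58,46,1] .nil .nil)) (.node [0,49,57,1,0] (.node [53,46,46,1] .nil .nil) (.node [55,1,51,1] .nil .nil))) (.node [50,0,0] (.node [50,49,0,47,0] (.node [54,50,47,1] (.node [1,47,47,1] .nil .nil) .nil) (.node [55,47,1,0] .nil .nil)) (.node [1,51,52,0,0] (.node [55,50,47,0] .nil .nil) (.node [58,50,54,1] .nil .nil)))) (.node [54,48,46,0] (.node [47,48,54,46,0] (.node [54,54,48,46,0] (.node [1,0,55,1,0] (.node [58,53,1,54,1] .nil .nil) .nil) (.node [0,49,56,1] .nil .nil)) (.node [48,48,46,1] (.node [53,49,46,0,0] .nil .nil) (.node [48,1,53,47,1] .nil .nil))) (.node [52,49,49,1] (.node [57,50,50,0,0] (.node [52,51,49,0] (.node [58,1,53,1] .nil .nil) .nil) (.node [46,1,49,47,1] .nil .nil)) (.node [53,49,0,1,0] (.node [53,55,0,47,0] .nil .nil) (.node [48,47,51,0,0] .nil .nil))))) (.node [54,58,48,0,0] (.node [48,1,52,0,1] (.node [49,50,1] (.node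 [48,57,47,48,0] (.node [50,58,47,1] (.node [0,46,1,47,1] .nil .nil) .nil) (.node [51,0,0,0,0] .nil .nil)) (.node [58,53,46,0,0] (.node [1,56,49,1] .nil .nil) (.node [55,0,56,1,0] .nil .nil))) (.node [58,53,0,1] (.node [46,56,51,0,0] (.node [46,55,47,0] (.node [1,49,49,1] .nil .nil) .nil) (.node [52,49,46,1] .nil .nil)) (.node [57,52,0,0,0] (.node [49,47,50,1] .nil .nil) (.node [51,51,53,0,0] .nil .nil)))) (.node [57,1,55,1] (.node [0,47,58,1] (.node [0,47,49,0,0] (.node [51,47,1,0,0] (.node [49,1,56,52,1] .nil .nil) .nil) (.node [49,47,52,0,0] .nil .nil)) (.node [56,47,47,0] (.node [56,1,53,1] .nil .nil) (.node [1,0,52,49,1] .nil .nil))) (.node [55,48,56,1,0] (.node [48,48,0,1,0] (.node [50,49,47,1] .nil .nil) (.node [58,50,46,0,0] .nil .nil)) (.node [47,52,49,0,0] (.node [51,57,46,1] .nil .nil) (.node [56,48,51,1,0] .nil .nil)))))))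

/-- A part. -/
noncomputable def mainWords0_20 : Arr (List ℕ) :=
  (.node [1,56,50,47,1] mainWords0_18 mainWords0_19)

/-- A part. -/
noncomputable def mainWords0_21 : Arr (List ℕ) :=
  (.node [57,1,0,48,0] mainWords0_17 mainWords0_20)

/-- A part. -/
noncomputable def mainWords0_22 : Arr (List ℕ) :=
  (.node [48,53,54,1] (.node [46,52,46,1] (.node [49,46,51,1] (.node [52,47,51,0,0] (.node [54,51,49,1] (.node [46,57,1,0] (.node [51,53,0,0] (.node [1,57,47,1] .nil .nil) .nil) (.node [49,1,48,0,1] .nil .nil)) (.node [0,52,1,0,0] (.node [56,46,0,0,1] .nil .nil) (.node [53,50,0,1] .nil .nil))) (.node [0,1,48,0,0] (.node [54,47,0] (.node [55,49,47,0,0] (.node [57,1,48,1] .nil .nil) .nil) (.node [58,55,0,0,0] .nil .nil)) (.node [53,0,1] (.node [1,0,48,0,0] .nil .nil) (.node [0,57,51,48,1] .nil .nil)))) (.node [55,52,1,48,1] (.node [0,0,46,1] (.node [52,50,0,0] (.node [52,57,50,1] (.node [58,52,49,1] .nil .nil) .nil) (.node [57,58,0,46,0] .nil .nil)) (.node [52,58,0,1] (.node [48,50,46,0,0] .nil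 .nil) (.node [58,57,46,1] .nil .nil))) (.node [48,46,50,1,0] (.node [57,49,0,1,0] (.node [0,54,51,0,0] (.node [50,46,57,46,0] .nil .nil) .nil) (.node [54,0,46,0,0] .nil .nil)) (.node [52,49,49,47,0] (.node [52,54,1] .nil .nil) (.node [48,52,47,1,0] .nil .nil))))) (.node [47,0,52,1] (.node [0,1,0,47,1] (.node [53,56,47,0] (.node [52,50,0,47,0] (.node [49,1,54,49,1] (.node [57,50,0,1,0] .nil .nil) .nil) (.node [54,1,49,1] .nil .nil)) (.node [51,52,46,0,0] (.node [0,57,57,1,0] .nil .nil) (.node [46,1,50,0,0] .nil .nil))) (.node [46,1,53,0,0] (.node [52,1,52,47,1] (.node [48,1,50,47,0] (.node [47,47,58,1] .nil .nil) .nil) (.node [58,46,49,1,0] .nil .nil)) (.node [1,47,48,57,1] (.node [46,49,0,1] .nil .nil) (.node [49,51,46,1] .nil .nil)))) (.node [54,51,0,0] (.node [51,57,52,1,0] (.node [46,50,1,0,0] (.node [49,46,48,0,0] (.node [52,1,49,49,0] .nil .nil) .nil) (.node [48,57,47,0] .nil .nil)) (.node [48,0,53,51,1] (.node [46,53,55,1,0] .nil .nil) (.node [55,1] .nil .nil))) (.node [0,53,50,1,0]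 (.node [52,51,48,0] (.node [55,52,47,1,0] (.node [47,48,1,0] .nil .nil) .nil) (.node [46,0,55,1,0] .nil .nil)) (.node [51,57,47,0] (.node [50,47,0,47,0] .nil .nil) (.node [50,49,47,0] .nil .nil)))))) (.node [58,49,57,46,0] (.node [50,50,46,0,0] (.node [0,58,48,46,0] (.node [57,58,0,1] (.node [56,55,53,1] (.node [57,53,50,0,0] (.node [55,47,1] .nil .nil) .nil) (.node [56,53,53,0,0] .nil .nil)) (.node [0,55,46,46,0] (.node [1,50,1] .nil .nil) (.node [58,0,55,1] .nil .nil))) (.node [0,52,49,0] (.node [58,49,1,0,0] (.node [46,0] (.node [46,51,0,46,0] .nil .nil) .nil) (.node [54,0,51,1] .nil .nil)) (.node [46,55,48,0,0] (.node [0,57,58,48,0] .nil .nil) (.node [1,46,1,0] .nil .nil)))) (.node [56,53,0,0] (.node [47,1,57,1] (.node [1,57,50,1] (.node [52,54,48,48,0] (.node [54,49,1,0,0] .nil .nil) .nil) (.node [1,46,53,1] .nil .nil)) (.node [52,0,47,1] (.node [46,0,56,1,0] .nil .nil) (.node [0,49,47,1] .nil .nil))) (.node [55,47,0,1] (.node [58,54,0,46,0] (.node [50,55,46,1,0] (.node [52,52,49,1] .nil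 .nil) .nil) (.node [53,49,54,48,0] .nil .nil)) (.node [0,57,48,0,0] (.node [46,1,0,0,0] .nil .nil) (.node [53,55,46,1] .nil .nil))))) (.node [46,50,49,0,0] (.node [1,56,49,0,0] (.node [46,51,47,1,0] (.node [58,47,1,0] (.node [55,47,47,0] (.node [1,47,50,1] .nil .nil) .nil) (.node [1,49,1,0,0] .nil .nil)) (.node [47,55,56,1,0] (.node [57,54,48,0] .nil .nil) (.node [0,56,53,1] .nil .nil))) (.node [51,1,53,1] (.node [52,55,51,0,0] (.node [46,58,52,1] (.node [0,0,46,0] .nil .nil) .nil) (.node [55,50,0,47,0] .nil .nil)) (.node [57,46,0,1,0] (.node [1,48,1] .nil .nil) (.node [50,0,50,48,0] .nil .nil)))) (.node [56,46,0,0] (.node [51,48,1,0,0] (.node [0,0,47,0,0] (.node [1,53,1,0] (.node [56,1,50,1] .nil .nil) .nil) (.node [51,47,56,1] .nil .nil)) (.node [54,1,48,1,0] (.node [52,49,51,1] .nil .nil) (.node [52,55,48,0] .nil .nil))) (.node [57,48,0,1] (.node [55,1,0,48,1] (.node [55,48,46,0] (.node [55,48,51,1] .nil .nil) .nil) (.node [47,0,0,46,0] .nil .nil)) (.node [54,49,46,0,0] (.node [52,49,50,1,0]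 .nil .nil) (.node [47,53,49,1] .nil .nil)))))))

/-- A part. -/
noncomputable def mainWords0_23 : Arr (List ℕ) :=
  (.node [51,1,49,1] (.node [47,1,55,48,0] (.node [0,46,55,48,0] (.node [57,1,50,0,0] (.node [1,53,53,1] (.node [52,52,54,1,0] (.node [51,46,0,1,0] (.node [50,53,0,0] .nil .nil) .nil) (.node [0,53,47,0] .nil .nil)) (.node [54,52,50,1,0] (.node [1,49,54,1] .nil .nil) (.node [55,57,46,0] .nil .nil))) (.node [53,49,1,0] (.node [57,50,49,49,0] (.node [49,51,48,0,0] (.node [54,57,53,1] .nil .nil) .nil) (.node [57,53,50,47,0] .nil .nil)) (.node [1,53,54,1,0] (.node [50,54,48,0] .nil .nil) (.node [49,55,1] .nil .nil)))) (.node [54,56,47,1] (.node [46,54,1] (.node [57,46,0] (.node [54,51,1] (.node [46,55,0,51,1] .nil .nil) .nil) (.node [0,47,47,0] .nil .nil)) (.node [50,0,49,0,0] (.node [50,47,52,0,0] .nil .nil) (.node [46,0,51,1] .nil .nil))) (.node [56,1,51,1] (.node [58,49,1,0] (.node [46,46,56,1,0] (.node [52,1,57,1,0] .nil .nil) .nil) (.node [52,57,1] .nil .nil)) (.node [51,52,0,0]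 (.node [55,48,46,1] .nil .nil) (.node [48,57,48,0] .nil .nil))))) (.node [49,0,47,0] (.node [51,58,52,1] (.node [53,51,46,1,0] (.node [0,53,1,46,0] (.node [52,0,48,1] (.node [52,52,1,0] .nil .nil) .nil) (.node [52,50,50,1] .nil .nil)) (.node [57,46,1,0] (.node [49,57,1] .nil .nil) (.node [47,54,46,0] .nil .nil))) (.node [48,47,49,0] (.node [46,55,53,1] (.node [51,49,47,1] (.node [50,50,53,1] .nil .nil) .nil) (.node [58,56,48,0] .nil .nil)) (.node [54,49,47,1] (.node [50,1,0,1] .nil .nil) (.node [0,1,48,0] .nil .nil)))) (.node [50,58,54,48,0] (.node [55,46,52,1,0] (.node [47,51,47,0] (.node [54,51,52,0,0] (.node [49,49,49,1] .nil .nil) .nil) (.node [51,47,0,1,0] .nil .nil)) (.node [51,53,49,1] (.node [56,1,0,1] .nil .nil) (.node [54,1] .nil .nil))) (.node [0,48,51,48,1] (.node [55,48,0] (.node [55,53,46,0,0] (.node [0,57,1] .nil .nil) .nil) (.node [54,52,51,1] .nil .nil)) (.node [47,58,48,0,0] (.node [53,48,57,1] .nil .nil) (.node [48,52,0,0] .nil .nil)))))) (.node [50,0,0,0,0] (.node [48,0,52,0,0]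 (.node [53,46,51,0,0] (.node [0,51,55,1,0] (.node [56,0,54,46,1] (.node [54,0,1] (.node [47,48,51,1] .nil .nil) .nil) (.node [50,58,47,0] .nil .nil)) (.node [0,57,46,0] (.node [47,0,48,0] .nil .nil) (.node [55,1,49,49,0] .nil .nil))) (.node [52,0,0,46,1] (.node [51,48,1,0] (.node [49,58,54,1,0] (.node [52,56,52,0,0] .nil .nil) .nil) (.node [49,53,1] .nil .nil)) (.node [46,50,0,0,0] (.node [46,52,56,46,1] .nil .nil) (.node [47,50,0,1] .nil .nil)))) (.node [56,48,0,46,0] (.node [54,52,46,0,0] (.node [52,57,47,0,0] (.node [51,55,48,0] (.node [50,49,46,0,0] .nil .nil) .nil) (.node [48,57,49,1] .nil .nil)) (.node [1,56,1,0] (.node [47,1] .nil .nil) (.node [51,57,46,1,0] .nil .nil))) (.node [56,50,1,0] (.node [54,0,51,1,0] (.node [54,1,58,48,0] (.node [58,0,46,46,1] .nil .nil) .nil) (.node [51,49,52,1,0] .nil .nil)) (.node [57,46,0,47,0] (.node [55,57,0,0,0] .nil .nil) (.node [1,49,49,0] .nil .nil))))) (.node [57,0,47,0,0] (.node [48,53,49,1] (.node [46,58,52,47,0] (.node [46,49,0,1,0] (.node [58,49,0]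 (.node [56,58,1] .nil .nil) .nil) (.node [58,1,47,0,1] .nil .nil)) (.node [52,58,48,0] (.node [52,56,0,0,0] .nil .nil) (.node [54,46,46,1] .nil .nil))) (.node [55,58,46,0,0] (.node [52,47,48,0,0] (.node [46,1,48,48,0] (.node [58,49,54,0,1] .nil .nil) .nil) (.node [46,1,52,1,0] .nil .nil)) (.node [47,55,0,1] (.node [0,49,56,47,0] .nil .nil) (.node [46,48,46,0] .nil .nil)))) (.node [52,46,52,0,0] (.node [48,54,46,0] (.node [49,52,50,0,0] (.node [50,49,46,0] (.node [52,0,1] .nil .nil) .nil) (.node [57,46,1] .nil .nil)) (.node [51,0,47,1] (.node [46,58,47,1] .nil .nil) (.node [1,50,50,1] .nil .nil))) (.node [46,56,52,0,0] (.node [46,51,49,1] (.node [47,57,50,0,0] (.node [0,1,57,0,1] .nil .nil) .nil) (.node [50,50,1,0] .nil .nil)) (.node [1,46,56,1] (.node [51,57,51,0,0] .nil .nil) (.node [50,1,58,1] .nil .nil)))))))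

/-- A part. -/
noncomputable def mainWords0_24 : Arr (List ℕ) :=
  (.node [1,51,57,46,1] mainWords0_22 mainWords0_23)

/-- A part. -/
noncomputable def mainWords0_25 : Arr (List ℕ) :=
  (.node [58,53,48,1] (.node [0,0,54,1,0] (.node [55,58,46,1] (.node [1,46,54,1] (.node [57,46,51,1] (.node [57,1,0,0] (.node [56,49,56,46,0] (.node [56,48,0] .nil .nil) .nil) (.node [57,58,0,0,1] .nil .nil)) (.node [50,46,1,0] (.node [1,56,55,46,1] .nil .nil) (.node [54,57,1,0] .nil .nil))) (.node [0,47,47,1] (.node [52,55,1,0] (.node [56,1,50,0,0] (.node [53,49,55,1] .nil .nil) .nil) (.node [49,49,46,46,0] .nil .nil)) (.node [1,57,52,0,0] (.node [52,46,53,0,0] .nil .nil) (.node [58,51,51,1] .nil .nil)))) (.node [0,49,52,1,0] (.node [49,46,55,46,1] (.node [48,1,51,1] (.node [54,50,0,0,1] (.node [52,51,51,1] .nil .nil) .nil) (.node [1,0,53,0,0] .nil .nil)) (.node [56,1,0] (.node [54,51,46,0] .nil .nil) (.node [56,50,46,1] .nil .nil))) (.node [52,54,49,1,0] (.node [57,55,49,0] (.node [51,49,49,0] (.node [49,46,53,1,0]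 .nil .nil) .nil) (.node [0,53,55,1,0] .nil .nil)) (.node [57,1,51,1] (.node [49,1,46,53,1] .nil .nil) (.node [53,56,46,1,0] .nil .nil))))) (.node [52,56,46,1] (.node [47,49,47,1] (.node [1,51,54,1] (.node [1,46,48,0] (.node [50,1,52,1,0] (.node [0,51,0,1,0] .nil .nil) .nil) (.node [48,0,47,51,1] .nil .nil)) (.node [50,56,50,0,0] (.node [48,50,0,47,0] .nil .nil) (.node [47,57,48,0,0] .nil .nil))) (.node [53,50,1,0] (.node [0,49,53,1] (.node [52,46,49,1] (.node [58,0,53,47,0] .nil .nil) .nil) (.node [53,46,52,46,0] .nil .nil)) (.node [0,55,1,47,0] (.node [1,57,53,1] .nil .nil) (.node [57,1,58,1] .nil .nil)))) (.node [49,0,54,47,0] (.node [53,57,46,0] (.node [46,57,47,0] (.node [51,46,0] (.node [48,53,47,1] .nil .nil) .nil) (.node [48,46,48,0,0] .nil .nil)) (.node [46,0,54,1,0] (.node [1,56,49,47,0] .nil .nil) (.node [47,50,50,1] .nil .nil))) (.node [57,50,47,1] (.node [47,1,47,1] (.node [51,55,1,0] (.node [52,54,0,1,0] .nil .nil) .nil) (.node [52,52,48,47,1] .nil .nil)) (.node [1,52,47,1,0]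 (.node [51,51,49,1] .nil .nil) (.node [54,52,58,46,0] .nil .nil)))))) (.node [1,58,57,1] (.node [1,46,50,46,0] (.node [54,0,47,0,0] (.node [51,52,1,48,0] (.node [46,1,53,47,1] (.node [51,49,0,0] (.node [0,47,57,1] .nil .nil) .nil) (.node [51,46,48,0] .nil .nil)) (.node [1,49,46,46,1] (.node [1,52,47,0] .nil .nil) (.node [51,0,49,1,0] .nil .nil))) (.node [55,1,52,0,1] (.node [53,53,46,0] (.node [1,48,47,0,0] (.node [55,49,49,0] .nil .nil) .nil) (.node [1,0,53,1,0] .nil .nil)) (.node [56,0,53,1,0] (.node [47,53,0,51,1] .nil .nil) (.node [46,1,46,0] .nil .nil)))) (.node [0,56,51,0,0] (.node [0,55,49,0] (.node [54,0,0,1,0] (.node [52,58,48,0,0] (.node [52,52,48,0] .nil .nil) .nil) (.node [52,50,46,1] .nil .nil)) (.node [57,1,46,0] (.node [55,52,46,1] .nil .nil) (.node [1,0,1,0] .nil .nil))) (.node [55,57,48,0] (.node [51,54,0,0,0] (.node [49,55,47,0] (.node [1,0,53,1] .nil .nil) .nil) (.node [47,55,48,0] .nil .nil)) (.node [1,54,58,48,0] (.node [57,53,1,0] .nil .nil) (.node [53,58,47,1] .nil .nil)))))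 (.node [0,46,1] (.node [53,1,0,48,0] (.node [47,55,47,0] (.node [55,57,48,1,0] (.node [46,54,52,0,0] (.node [54,49,55,46,1] .nil .nil) .nil) (.node [0,0,52,1,0] .nil .nil)) (.node [56,55,1,0] (.node [46,49,1,0] .nil .nil) (.node [50,50,1] .nil .nil))) (.node [52,57,51,1,0] (.node [53,46,0,1] (.node [52,48,46,1] (.node [48,0,0] .nil .nil) .nil) (.node [58,1,57,49,0] .nil .nil)) (.node [52,50,52,0,0] (.node [1,57,55,46,1] .nil .nil) (.node [50,48,0,0] .nil .nil)))) (.node [50,57,47,1,0] (.node [51,48,47,0] (.node [52,47,52,0,0] (.node [55,56,51,0,0] (.node [55,0,48,0] .nil .nil) .nil) (.node [49,1,55,1] .nil .nil)) (.node [55,48,0,0,0] (.node [46,0,53,47,0] .nil .nil) (.node [48,58,51,0,0] .nil .nil))) (.node [47,1,0,0] (.node [49,1,58,1] (.node [51,53,49,46,0] (.node [53,46,58,46,1] .nil .nil) .nil) (.node [0,0,56,1,0] .nil .nil)) (.node [47,54,52,0,0] (.node [56,48,0,1] .nil .nil) (.node [58,50,52,1] .nil .nil)))))))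

/-- A part. -/
noncomputable def mainWords0_26 : Arr (List ℕ) :=
  (.node [53,57,49,1] (.node [48,55,51,0,0] (.node [58,47,57,48,0] (.node [48,55,47,0] (.node [57,49,55,47,0] (.node [57,1,47,48,0] (.node [57,0,56,0,1] (.node [54,52,0,47,0] .nil .nil) .nil) (.node [55,57,46,0,0] .nil .nil)) (.node [55,51,48,1] (.node [57,48,0,1,0] .nil .nil) (.node [0,49,0,0,1] .nil .nil))) (.node [56,52,52,1] (.node [50,58,46,0] (.node [49,49,0] (.node [58,47,0,0,0] .nil .nil) .nil) (.node [54,53,1] .nil .nil)) (.node [58,1,0] (.node [51,51,49,47,1] .nil .nil) (.node [56,0,47,0,0] .nil .nil)))) (.node [53,47,0,1] (.node [47,47,57,47,0] (.node [56,0,0,0] (.node [0,55,48,0,0] (.node [57,54,53,48,0] .nil .nil) .nil) (.node [0,52,0,47,0] .nil .nil)) (.node [51,0,0,0] (.node [0,57,50,1] .nil .nil) (.node [1,58,47,0] .nil .nil))) (.node [46,58,47,0] (.node [56,47,51,47,0] (.node [46,54,48,0] (.node [46,46,53,1] .nil .nil) .nil) (.node [57,46,52,0,0] .nil .nil)) (.node [48,1,58,1] (.node [58,53,0,1,0] .nil .nil)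 (.node [57,47,47,1] .nil .nil))))) (.node [53,48,48,0] (.node [49,50,55,1] (.node [58,54,53,0,0] (.node [50,50,49,46,0] (.node [57,0,48,0] (.node [0,47,53,0,0] .nil .nil) .nil) (.node [0,54,57,1] .nil .nil)) (.node [49,51,46,0,0] (.node [49,53,0,0,0] .nil .nil) (.node [51,1,48,47,0] .nil .nil))) (.node [0,51,47,0,0] (.node [49,49,50,46,0] (.node [47,53,57,1] (.node [51,0,51,46,0] .nil .nil) .nil) (.node [0,0,47,48,0] .nil .nil)) (.node [48,47,1,0] (.node [52,0,53,47,0] .nil .nil) (.node [53,51,48,0] .nil .nil)))) (.node [1,53,46,0] (.node [46,56,51,1,0] (.node [56,48,1,0] (.node [0,56,49,0] (.node [57,49,46,0] .nil .nil) .nil) (.node [56,48,0,47,0] .nil .nil)) (.node [47,50,49,0,0] (.node [58,1,54,1] .nil .nil) (.node [48,53,46,0] .nil .nil))) (.node [53,0,49,0] (.node [57,51,47,1] (.node [49,46,0,0] (.node [53,1,51,46,1] .nil .nil) .nil) (.node [58,56,0,1] .nil .nil)) (.node [51,49,46,0,0] (.node [58,51,0,1,0] .nil .nil) (.node [0,0,47,0] .nil .nil)))))) (.node [1,50,47,0] (.node [1,58,48,48,1]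 (.node [47,0,56,53,1] (.node [48,58,47,0] (.node [48,46,52,1] (.node [56,48,46,1] (.node [49,54,48,0] .nil .nil) .nil) (.node [53,58,54,1] .nil .nil)) (.node [0,46,50,46,0] (.node [57,52,46,1] .nil .nil) (.node [1,56,58,1] .nil .nil))) (.node [48,53,1,0] (.node [56,51,49,1] (.node [51,1,57,46,0] (.node [46,1,54,1] .nil .nil) .nil) (.node [53,50,47,0] .nil .nil)) (.node [50,48,47,1] (.node [1,57,49,1] .nil .nil) (.node [51,1,0,48,0] .nil .nil)))) (.node [54,52,51,49,0] (.node [1,0,47,1] (.node [51,47,50,0,0] (.node [55,51,1,0] (.node [52,55,49,1] .nil .nil) .nil) (.node [48,0,1,0] .nil .nil)) (.node [53,58,52,46,1] (.node [46,55,46,0,0] .nil .nil) (.node [51,48,56,1] .nil .nil))) (.node [46,49,55,1] (.node [52,1,51,0,0] (.node [56,50,0,0,0] (.node [53,48,46,48,0] .nil .nil) .nil) (.node [54,1,52,1,0] .nil .nil)) (.node [54,53,1,0] (.node [58,0,55,1,0] .nil .nil) (.node [47,0,1] .nil .nil))))) (.node [53,0,53,1] (.node [48,50,50,1] (.node [56,0,49,1,0] (.node [52,46,46,0] (.node [0,57,50,0,0]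 (.node [58,1,55,1] .nil .nil) .nil) (.node [58,0,0,1,0] .nil .nil)) (.node [0,52,1,0] (.node [50,53,48,0] .nil .nil) (.node [51,1,55,1] .nil .nil))) (.node [56,0,47,1] (.node [49,54,48,0,0] (.node [49,49,0,1] (.node [49,1,49,0,0] .nil .nil) .nil) (.node [1,53,51,1] .nil .nil)) (.node [53,51,0,0] (.node [57,1,0,46,0] .nil .nil) (.node [47,57,47,0,0] .nil .nil)))) (.node [56,49,0,0,1] (.node [1,50,0,46,0] (.node [48,1,46,1,0] (.node [58,52,47,0] (.node [1,58,47,1] .nil .nil) .nil) (.node [47,49,50,1,0] .nil .nil)) (.node [51,1,49,47,0] (.node [50,47,58,1,0] .nil .nil) (.node [1,49,49,47,0] .nil .nil))) (.node [55,46,48,0,0] (.node [51,52,46,0] (.node [1,0,57,0,1] .nil .nil) (.node [57,1,47,1] .nil .nil)) (.node [55,49,49,0,0] (.node [52,52,0,47,0] .nil .nil) (.node [47,55,50,0,0] .nil .nil)))))))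

/-- A part. -/
noncomputable def mainWords0_27 : Arr (List ℕ) :=
  (.node [1,53,55,1] mainWords0_25 mainWords0_26)

/-- A part. -/
noncomputable def mainWords0_28 : Arr (List ℕ) :=
  (.node [46,0,50,1,0] mainWords0_24 mainWords0_27)

/-- A part. -/
noncomputable def mainWords0_29 : Arr (List ℕ) :=
  (.node [0,0,50,1,0] mainWords0_21 mainWords0_28)

/-- A part. -/
noncomputable def mainWords0_30 : Arr (List ℕ) :=
  (.node [56,49,1] mainWords0_14 mainWords0_29)

/-- A part. -/
noncomputable def mainWords0_31 : Arr (List ℕ) :=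
  (.node [51,55,52,1] (.node [49,58,1] (.node [54,57,49,1] (.node [54,46,0,0] (.node [0,52,1,46,0] (.node [0,1,51,46,0] (.node [49,53,58,1,0] (.node [58,1,56,1] .nil .nil) .nil) (.node [0,54,46,1] .nil .nil)) (.node [47,1,48,0,0] (.node [1,49,53,51,1] .nil .nil) (.node [46,1,49,0,0] .nil .nil))) (.node [55,56,1,0] (.node [54,54,47,0,0] (.node [47,1,51,0,0] (.node [56,52,1] .nil .nil) .nil) (.node [56,51,51,0,0] .nil .nil)) (.node [53,50,48,0] (.node [50,56,47,0,0] .nil .nil) (.node [54,49,50,1] .nil .nil)))) (.node [0,46,49,0] (.node [49,0,55,1,0] (.node [50,52,47,0,0] (.node [56,1] (.node [1,51,49,0,0] .nil .nil) .nil) (.node [0,46,52,0,0] .nil .nil)) (.node [50,58,1,0,0] (.node [46,58,49,0] .nil .nil) (.node [1,54,46,1] .nil .nil))) (.node [51,57,0,0,0] (.node [46,0,1] (.node [54,57,51,0,0] (.node [55,51,47,0] .nil .nil) .nil) (.node [54,58,49,1] .nil .nil)) (.node [50,1,56,1] (.node [55,49,1] .nil .nil) (.node [47,48,0] .nil .nil))))) (.node [57,48,54,1] (.node [53,49,1] (.node [48,52,48,0]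 (.node [50,52,46,1] (.node [0,55,49,46,0] (.node [52,57,49,0] .nil .nil) .nil) (.node [1,58,0,1] .nil .nil)) (.node [49,52,46,0,0] (.node [50,57,48,1] .nil .nil) (.node [54,0,48,0] .nil .nil))) (.node [53,50,46,0] (.node [47,0,50,1,0] (.node [50,57,0,47,0] (.node [57,49,55,1] .nil .nil) .nil) (.node [56,0,50,0,0] .nil .nil)) (.node [46,0,0,46,1] (.node [53,55,50,0,0] .nil .nil) (.node [56,48,55,1] .nil .nil)))) (.node [56,52,47,0] (.node [53,47,0,0] (.node [49,58,46,0] (.node [57,1,0,1] (.node [0,46,46,1] .nil .nil) .nil) (.node [56,1,56,46,0] .nil .nil)) (.node [54,0,53,46,1] (.node [48,55,48,0] .nil .nil) (.node [51,46,53,46,1] .nil .nil))) (.node [1,58,56,48,0] (.node [49,58,46,0,0] (.node [53,1,47,1,0] (.node [54,57,46,0] .nil .nil) .nil) (.node [0,46,0,47,0] .nil .nil)) (.node [58,57,51,1,0] (.node [54,47,48,1] .nil .nil) (.node [49,51,57,46,0] .nil .nil)))))) (.node [52,56,49,0] (.node [57,51,0,0,0] (.node [52,0,46,0] (.node [49,57,48,0,0] (.node [46,50,47,1] (.node [54,54,53,1,0] (.node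 [57,55,1] .nil .nil) .nil) (.node [1,58,53,1] .nil .nil)) (.node [1,51,53,0,0] (.node [51,58,46,0] .nil .nil) (.node [46,57,57,46,1] .nil .nil))) (.node [46,57,46,1] (.node [49,0,1,0] (.node [51,49,53,0,0] (.node [51,47,56,46,0] .nil .nil) .nil) (.node [0,55,1] .nil .nil)) (.node [57,50,46,1,0] (.node [54,46,58,1] .nil .nil) (.node [46,50,0,1] .nil .nil)))) (.node [50,55,1,0] (.node [51,0,49,0,0] (.node [51,56,49,1,0] (.node [58,46,51,0,0] (.node [46,1,48,0,0] .nil .nil) .nil) (.node [47,52,55,1] .nil .nil)) (.node [0,1] (.node [51,47,52,1] .nil .nil) (.node [46,53,56,46,0] .nil .nil))) (.node [55,57,50,0,0] (.node [52,57,46,1,0] (.node [0,53,46,0] (.node [49,55,46,1] .nil .nil) .nil) (.node [56,50,46,1,0] .nil .nil)) (.node [47,0,1,48,1] (.node [46,0,0,46,0] .nil .nil) (.node [46,55,46,1] .nil .nil))))) (.node [48,46,53,1,0] (.node [0,53,54,1] (.node [49,47,47,0,0] (.node [46,51,48,1,0] (.node [49,58,1,0] (.node [48,0,56,1] .nil .nil) .nil) (.node [46,53,48,48,0] .nil .nil)) (.node [57,47,48,0]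 (.node [48,57,46,0] .nil .nil) (.node [55,50,49,46,1] .nil .nil))) (.node [52,54,47,0] (.node [55,47,0,0] (.node [51,0,50,47,0] (.node [50,48,50,0,0] .nil .nil) .nil) (.node [46,55,0,47,0] .nil .nil)) (.node [53,48,0,1] (.node [52,1,47,0,0] .nil .nil) (.node [53,50,50,0,0] .nil .nil)))) (.node [54,56,1,0] (.node [0,1,57,1] (.node [48,54,48,0,0] (.node [58,46,49,49,0] (.node [58,55,1,0] .nil .nil) .nil) (.node [0,58,49,1] .nil .nil)) (.node [53,1,50,1] (.node [53,53,48,1] .nil .nil) (.node [58,57,48,47,0] .nil .nil))) (.node [56,53,1,0,0] (.node [58,0,46,0,0] (.node [47,56,49,0,0] (.node [0,0,53,49,0] .nil .nil) .nil) (.node [56,46,49,1,0] .nil .nil)) (.node [47,53,49,0] (.node [49,56,50,0,0] .nil .nil) (.node [1,52,52,1] .nil .nil)))))))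

/-- A part. -/
noncomputable def mainWords0_32 : Arr (List ℕ) :=
  (.node [0,54,49,0,0] (.node [49,53,51,1] (.node [48,48,0,0,1] (.node [56,53,46,46,0] (.node [54,47,50,1] (.node [53,48,56,1,0] (.node [46,0,51,1,0] (.node [0,1,56,1,0] .nil .nil) .nil) (.node [54,52,46,1] .nil .nil)) (.node [52,0,50,1] (.node [48,53,53,1] .nil .nil) (.node [52,1,0,47,0] .nil .nil))) (.node [49,56,46,0] (.node [56,46,58,1,0] (.node [56,48,46,0,0] (.node [49,51,1] .nil .nil) .nil) (.node [55,56,47,0] .nil .nil)) (.node [58,50,0,0,0] (.node [0,1,48,1,0] .nil .nil) (.node [1,51,46,0] .nil .nil)))) (.node [54,52,48,1] (.node [52,1,51,48,0] (.node [53,47,49,0,0] (.node [47,50,55,1] (.node [46,52,1,48,1] .nil .nil) .nil) (.node [55,1,56,1] .nil .nil)) (.node [0,57,53,47,0] (.node [54,56,46,1,0] .nil .nil) (.node [53,0,58,50,1] .nil .nil))) (.node [49,52,54,46,0] (.node [48,50,50,1,0] (.node [54,58,48,0] (.node [47,53,0,0] .nil .nil) .nil) (.node [1,54,48,1,0] .nil .nil)) (.node [0,48,56,47,0] (.node [0,1,52,47,0]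 .nil .nil) (.node [57,55,48,0,0] .nil .nil))))) (.node [47,48,0,0,1] (.node [49,0,50,1,0] (.node [55,53,1,0] (.node [50,0,53,48,0] (.node [46,53,48,1] (.node [50,56,47,0] .nil .nil) .nil) (.node [49,0,48,1] .nil .nil)) (.node [51,46,48,1,0] (.node [58,47,51,1] .nil .nil) (.node [1,52,1,0,0] .nil .nil))) (.node [51,0,46,0] (.node [48,57,48,1] (.node [57,51,48,1] (.node [0,57,48,47,0] .nil .nil) .nil) (.node [51,51,0,0] .nil .nil)) (.node [54,49,46,1] (.node [50,55,46,0,0] .nil .nil) (.node [48,1,55,1] .nil .nil)))) (.node [55,47,48,1,0] (.node [57,46,0,1] (.node [56,53,48,0] (.node [50,50,49,0] (.node [0,58,52,46,1] .nil .nil) .nil) (.node [49,0,54,1] .nil .nil)) (.node [55,0,56,47,1] (.node [49,52,55,1,0] .nil .nil) (.node [58,47,0,47,0] .nil .nil))) (.node [58,49,50,1] (.node [53,1,56,1] (.node [0,53,46,1,0] (.node [50,50,0,1] .nil .nil) .nil) (.node [56,52,47,1] .nil .nil)) (.node [47,57,53,0,0] (.node [48,51,1] .nil .nil) (.node [47,50,49,0] .nil .nil)))))) (.node [48,1,56,1] (.node [46,55,52,0,0]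 (.node [57,50,49,0] (.node [52,56,46,0,0] (.node [1,48,54,49,1] (.node [47,52,47,0] (.node [51,0,53,48,0] .nil .nil) .nil) (.node [49,51,53,0,0] .nil .nil)) (.node [51,47,1] (.node [48,47,0] .nil .nil) (.node [1,0,46,0] .nil .nil))) (.node [0,46,46,46,0] (.node [54,49,1,0] (.node [53,47,48,0,0] (.node [46,1,0] .nil .nil) .nil) (.node [58,54,49,1] .nil .nil)) (.node [54,47,56,47,0] (.node [47,51,54,1] .nil .nil) (.node [0,1,54,1] .nil .nil)))) (.node [47,1,0,0,0] (.node [56,54,53,0,0] (.node [57,57,1,0] (.node [46,56,50,1,0] (.node [49,55,48,1,0] .nil .nil) .nil) (.node [53,55,1] .nil .nil)) (.node [57,1,47,0] (.node [50,1] .nil .nil) (.node [0,56,46,0] .nil .nil))) (.node [47,1,48,46,0] (.node [51,55,52,48,0] (.node [49,58,49,0] (.node [48,50,0,0,1] .nil .nil) .nil) (.node [0,50,48,0] .nil .nil)) (.node [51,53,0,47,0] (.node [47,1,52,1] .nil .nil) (.node [0,52,1,49,1] .nil .nil))))) (.node [46,57,51,1,0] (.node [58,52,51,1] (.node [49,55,0,1] (.node [1,48,50,46,0] (.node [47,47,48,0] (.node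 [51,47,49,1] .nil .nil) .nil) (.node [48,56,49,0] .nil .nil)) (.node [0,56,47,0,0] (.node [47,51,46,1,0] .nil .nil) (.node [48,48,52,1] .nil .nil))) (.node [55,48,0,0] (.node [57,51,49,46,0] (.node [47,51,48,1] (.node [52,55,47,0] .nil .nil) .nil) (.node [49,55,49,1] .nil .nil)) (.node [1,55,52,1] (.node [57,0,0,49,0] .nil .nil) (.node [47,57,54,1,0] .nil .nil)))) (.node [1,0] (.node [55,49,0,0,0] (.node [58,55,0,1] (.node [1,49,1,0] (.node [53,1,46,0,0] .nil .nil) .nil) (.node [0,46,54,48,0] .nil .nil)) (.node [1,55,46,1] (.node [1,56,0,0,0] .nil .nil) (.node [46,46,57,48,0] .nil .nil))) (.node [49,53,53,0,0] (.node [58,1,49,47,1] (.node [56,51,0,0] (.node [0,0,55,1,0] .nil .nil) .nil) (.node [56,47,0] .nil .nil)) (.node [54,47,0,1] (.node [58,57,46,0,0] .nil .nil) (.node [0,46,56,49,0] .nil .nil)))))))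

/-- A part. -/
noncomputable def mainWords0_33 : Arr (List ℕ) :=
  (.node [53,1,48,1] mainWords0_31 mainWords0_32)

/-- A part. -/
noncomputable def mainWords0_34 : Arr (List ℕ) :=
  (.node [1,0,0,49,0] (.node [50,1,54,1] (.node [48,54,49,1] (.node [46,0,53,1] (.node [50,0,58,46,1] (.node [49,1,50,0,0] (.node [48,52,47,0] (.node [46,48,1,0] .nil .nil) .nil) (.node [1,53,47,47,0] .nil .nil)) (.node [49,57,1,0,0] (.node [49,47,52,1] .nil .nil) (.node [55,49,1,0,0] .nil .nil))) (.node [55,52,49,0] (.node [53,57,1,0,0] (.node [56,55,46,0,0] (.node [57,47,56,1] .nil .nil) .nil) (.node [57,57,48,0] .nil .nil)) (.node [57,47,48,1,0] (.node [1,47,1,0] .nil .nil) (.node [54,56,46,1] .nil .nil)))) (.node [1,54,0,46,0] (.node [53,50,49,47,1] (.node [47,56,47,0,0] (.node [55,57,1,49,1] (.node [58,54,1] .nil .nil) .nil) (.node [53,55,47,48,0] .nil .nil)) (.node [54,50,0,1] (.node [53,51,0,1] .nil .nil) (.node [51,53,48,1] .nil .nil))) (.node [53,58,49,0,0] (.node [0,58,1] (.node [50,53,49,0] (.node [52,0,1,47,0]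 .nil .nil) .nil) (.node [54,51,56,1] .nil .nil)) (.node [51,48,0,1] (.node [56,58,47,1] .nil .nil) (.node [56,51,49,0] .nil .nil))))) (.node [49,56,1] (.node [47,57,1,48,1] (.node [48,52,0,1] (.node [53,54,53,1] (.node [49,55,0,47,0] (.node [58,53,50,0,0] .nil .nil) .nil) (.node [1,53,53,0,0] .nil .nil)) (.node [48,1,48,0,0] (.node [1,58,1,46,0] .nil .nil) (.node [58,50,53,0,0] .nil .nil))) (.node [58,46,50,1,0] (.node [54,1,56,49,0] (.node [47,54,47,1] (.node [56,47,1] .nil .nil) .nil) (.node [56,46,51,1,0] .nil .nil)) (.node [0,56,47,0,1] (.node [1,51,51,0,0] .nil .nil) (.node [54,52,57,46,1] .nil .nil)))) (.node [54,47,47,0,0] (.node [57,58,1,0] (.node [0,53,0,1] (.node [56,56,1,0,0] (.node [1,54,58,49,0] .nil .nil) .nil) (.node [55,53,49,0,0] .nil .nil)) (.node [48,58,53,1] (.node [49,52,54,1,0] .nil .nil) (.node [48,47,0,0,1] .nil .nil))) (.node [0,50,57,46,0] (.node [51,57,50,0,0] (.node [57,57,49,1,0] (.node [57,1,0,1,0] .nil .nil) .nil) (.node [56,49,46,1] .nil .nil)) (.node [58,53,47,0,0]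 (.node [50,49,58,1] .nil .nil) (.node [54,52,46,0] .nil .nil)))))) (.node [57,49,47,47,0] (.node [53,0,0,0,0] (.node [0,57,1,0,0] (.node [52,47,0] (.node [51,1,56,53,1] (.node [52,50,0,1,0] (.node [56,50,49,46,1] .nil .nil) .nil) (.node [46,56,49,1,0] .nil .nil)) (.node [0,49,50,0,0] (.node [51,51,51,1,0] .nil .nil) (.node [57,50,49,1] .nil .nil))) (.node [0,57,46,48,0] (.node [55,56,0,1] (.node [50,56,1,0,0] (.node [48,47,48,48,0] .nil .nil) .nil) (.node [0,1,52,48,1] .nil .nil)) (.node [1,0,1,49,0] (.node [0,51,49,51,1] .nil .nil) (.node [47,48,56,1,0] .nil .nil)))) (.node [51,1,49,0,0] (.node [0,54,51,1,0] (.node [1,49,57,1] (.node [49,52,50,1,0] (.node [57,0,0,0] .nil .nil) .nil) (.node [54,52,1] .nil .nil)) (.node [47,54,46,0,0] (.node [54,58,1] .nil .nil) (.node [48,1,0,0] .nil .nil))) (.node [50,1,47,0] (.node [54,48,47,0] (.node [57,58,48,0] (.node [47,52,0,51,1] .nil .nil) .nil) (.node [58,52,49,0,0] .nil .nil)) (.node [0,57,50,46,1] (.node [51,57,49,1,0] .nil .nil) (.node [54,50,1,49,1]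 .nil .nil))))) (.node [58,50,1,0] (.node [0,50,50,49,0] (.node [58,1,55,1,0] (.node [49,49,47,0,0] (.node [58,49,56,0,1] (.node [49,52,51,1] .nil .nil) .nil) (.node [58,0,0,0,0] .nil .nil)) (.node [49,46,58,46,0] (.node [0,54,51,49,0] .nil .nil) (.node [49,56,46,1] .nil .nil))) (.node [53,48,48,1,0] (.node [47,57,47,0] (.node [1,57,0,1] (.node [0,52,0,0,0] .nil .nil) .nil) (.node [46,48,52,1] .nil .nil)) (.node [51,46,49,0] (.node [0,54,54,1] .nil .nil) (.node [46,48,0,46,0] .nil .nil)))) (.node [0,0,53,1] (.node [54,51,46,0,0] (.node [58,49,0,0,0] (.node [48,1,55,52,1] (.node [47,56,46,0] .nil .nil) .nil) (.node [1,56,50,47,0] .nil .nil)) (.node [51,46,52,0,0] (.node [58,55,1] .nil .nil) (.node [55,58,1,0,0] .nil .nil))) (.node [50,58,46,1,0] (.node [58,51,1] (.node [54,47,48,1,0] (.node [55,48,48,1] .nil .nil) .nil) (.node [50,1,53,1] .nil .nil)) (.node [46,49,57,46,0] (.node [48,50,0,0] .nil .nil) (.node [56,50,53,1] .nil .nil)))))))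

/-- A part. -/
noncomputable def mainWords0_35 : Arr (List ℕ) :=
  (.node [0,46,52,48,0] (.node [55,47,0] (.node [46,51,0,0] (.node [1,57,54,1] (.node [50,50,0,1,0] (.node [49,57,58,1] (.node [51,53,47,0] (.node [1,46,48,48,0] .nil .nil) .nil) (.node [46,52,48,0] .nil .nil)) (.node [53,50,1] (.node [47,47,48,0,0] .nil .nil) (.node [0,51,49,54,1] .nil .nil))) (.node [48,52,48,1] (.node [0,1,49,1] (.node [50,49,0,0,0] (.node [53,54,46,0] .nil .nil) .nil) (.node [1,51,48,47,0] .nil .nil)) (.node [53,0,46,46,0] (.node [1,55,57,50,1] .nil .nil) (.node [52,46,58,1,0] .nil .nil)))) (.node [52,52,47,0] (.node [54,0,46,0] (.node [58,53,48,47,0] (.node [54,58,50,0,0] (.node [51,49,0,46,0] .nil .nil) .nil) (.node [46,57,53,1] .nil .nil)) (.node [49,0,46,0] (.node [47,54,58,1] .nil .nil) (.node [47,52,46,1,0] .nil .nil))) (.node [58,48,46,0] (.node [47,57,51,1,0] (.node [58,55,48,0] (.node [49,49,46,1] .nil .nil) .nil) (.node [58,55,1,47,0] .nil .nil)) (.node [52,0,47,52,1] (.node [53,58,46,0,0] .nil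 .nil) (.node [49,50,47,1] .nil .nil))))) (.node [48,50,47,47,0] (.node [51,47,50,1] (.node [49,50,0,1] (.node [47,51,49,0] (.node [53,56,50,1,0] (.node [51,53,47,1] .nil .nil) .nil) (.node [50,48,51,1,0] .nil .nil)) (.node [48,50,47,0,0] (.node [57,51,0,1] .nil .nil) (.node [58,48,46,1] .nil .nil))) (.node [57,0,48,1,0] (.node [50,52,47,0] (.node [0,56,1] (.node [0,48,46,0] .nil .nil) .nil) (.node [51,55,0,47,0] .nil .nil)) (.node [54,56,0,0,0] (.node [1,50,50,1,0] .nil .nil) (.node [55,47,0,46,0] .nil .nil)))) (.node [0,51,53,1,0] (.node [0,49,0,0] (.node [56,58,47,48,0] (.node [50,49,0,1,0] (.node [50,56,47,1,0] .nil .nil) .nil) (.node [54,1,57,46,0] .nil .nil)) (.node [48,56,1,0] (.node [56,1,50,47,0] .nil .nil) (.node [55,48,48,47,0] .nil .nil))) (.node [52,48,46,46,0] (.node [0,50,1,0] (.node [52,47,0,1] (.node [55,57,46,1] .nil .nil) .nil) (.node [52,1,46,0] .nil .nil)) (.node [54,1,46,1,0] (.node [50,49,49,0,0] .nil .nil) (.node [49,50,46,1] .nil .nil)))))) (.node [55,50,0,0,1] (.node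 [0,58,49,0,0] (.node [57,46,57,1] (.node [52,47,47,0,0] (.node [0,46,46,1,0] (.node [53,55,49,1] (.node [58,1,52,1] .nil .nil) .nil) (.node [1,52,51,46,1] .nil .nil)) (.node [51,57,48,0] (.node [54,0,50,1,0] .nil .nil) (.node [48,0,46,0] .nil .nil))) (.node [1,50,0,0] (.node [55,0,53,46,1] (.node [52,0,0,1] (.node [51,0,0,1] .nil .nil) .nil) (.node [54,1,0] .nil .nil)) (.node [56,49,55,1] (.node [52,1,53,1] .nil .nil) (.node [55,0,49,1,0] .nil .nil)))) (.node [58,0,1] (.node [54,50,49,0] (.node [54,58,0,1] (.node [0,53,1] (.node [55,46,46,1] .nil .nil) .nil) (.node [47,55,1,0] .nil .nil)) (.node [1,52,51,51,1] (.node [57,1,0,0,0] .nil .nil) (.node [0,53,46,1] .nil .nil))) (.node [1,55,46,0,0] (.node [1,46,1,0,0] (.node [58,46,0,1] (.node [1,58,46,1] .nil .nil) .nil) (.node [46,53,51,1] .nil .nil)) (.node [0,48,57,1] (.node [47,49,49,1] .nil .nil) (.node [46,54,0,0,0] .nil .nil))))) (.node [54,48,48,0] (.node [55,57,1] (.node [47,0,56,49,1] (.node [47,47,51,49,0] (.node [1,46,0,1,0] (.node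 [52,56,51,1] .nil .nil) .nil) (.node [50,46,51,47,0] .nil .nil)) (.node [57,52,0,0] (.node [47,48,51,0,0] .nil .nil) (.node [57,58,46,1] .nil .nil))) (.node [1,57,0,46,0] (.node [52,49,0,1] (.node [48,0,48,0] (.node [50,46,0,1] .nil .nil) .nil) (.node [58,49,1,55,1] .nil .nil)) (.node [0,50,46,0] (.node [0,47,57,49,1] .nil .nil) (.node [46,1,46,1] .nil .nil)))) (.node [47,57,47,1] (.node [55,47,50,1,0] (.node [58,51,53,0,0] (.node [46,50,48,0] (.node [48,53,50,1] .nil .nil) .nil) (.node [58,49,49,0,0] .nil .nil)) (.node [50,52,1,0] (.node [51,47,0,0] .nil .nil) (.node [51,54,49,46,1] .nil .nil))) (.node [54,57,47,0] (.node [51,57,1,0] (.node [53,48,0,47,0] .nil .nil) (.node [0,0,0,0] .nil .nil)) (.node [0,54,1] (.node [51,51,0,47,0] .nil .nil) (.node [56,51,52,1,0] .nil .nil)))))))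

/-- A part. -/
noncomputable def mainWords0_36 : Arr (List ℕ) :=
  (.node [46,51,1,47,0,0] mainWords0_34 mainWords0_35)

/-- A part. -/
noncomputable def mainWords0_37 : Arr (List ℕ) :=
  (.node [47,1,49,1] mainWords0_33 mainWords0_36)

/-- A part. -/
noncomputable def mainWords0_38 : Arr (List ℕ) :=
  (.node [0,47,49,1] (.node [50,52,49,1] (.node [0,55,50,49,0] (.node [1,53,49,1] (.node [52,1,54,46,1] (.node [0,56,46,1] (.node [46,48,47,0] (.node [51,56,48,48,0] .nil .nil) .nil) (.node [1,48,48,48,0] .nil .nil)) (.node [57,55,46,49,0] (.node [55,58,47,1] .nil .nil) (.node [49,50,1,0] .nil .nil))) (.node [0,48,0,0] (.node [1,54,47,0] (.node [55,1,0,1] (.node [57,48,1] .nil .nil) .nil) (.node [55,48,0,46,0] .nil .nil)) (.node [51,1,46,0,0] (.node [57,0,46,1] .nil .nil) (.node [57,49,47,1] .nil .nil)))) (.node [57,50,1] (.node [52,58,1] (.node [52,1,50,0,0] (.node [1,53,57,1] (.node [1,53,47,1] .nil .nil) .nil) (.node [51,46,57,47,0] .nil .nil)) (.node [54,47,0,1,0] (.node [57,46,0,0] .nil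 .nil) (.node [58,51,0,47,0] .nil .nil))) (.node [54,49,49,0,0] (.node [54,53,46,0] (.node [1,0,0,0] (.node [46,50,48,0,0] .nil .nil) .nil) (.node [49,0,47,48,1] .nil .nil)) (.node [55,46,50,0,0] (.node [53,0,0,1] .nil .nil) (.node [47,1,56,1,0] .nil .nil))))) (.node [0,49,49,1] (.node [56,58,49,1] (.node [48,58,46,1,0] (.node [51,54,1] (.node [49,46,52,1] (.node [0,47,48,0] .nil .nil) .nil) (.node [54,49,1] .nil .nil)) (.node [50,0,1,46,0] (.node [48,51,48,1] .nil .nil) (.node [46,50,0,0] .nil .nil))) (.node [50,50,46,0] (.node [46,50,57,1] (.node [0,54,52,1] (.node [0,56,52,50,1] .nil .nil) .nil) (.node [48,51,46,0,0] .nil .nil)) (.node [47,48,57,1] (.node [58,53,0,0] .nil .nil) (.node [57,1,57,46,0] .nil .nil)))) (.node [0,49,53,0,0] (.node [51,58,1,46,0] (.node [51,48,48,46,0] (.node [53,53,0,1,0] (.node [53,0,0,48,1] .nil .nil) .nil) (.node [46,46,55,47,0] .nil .nil)) (.node [53,46,50,1] (.node [51,56,46,0] .nil .nil) (.node [53,58,0,0,1] .nil .nil))) (.node [46,0,48,1] (.node [0,58,48,0]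 (.node [53,54,47,0] (.node [53,56,46,0] .nil .nil) .nil) (.node [49,54,49,46,1] .nil .nil)) (.node [49,51,0,1] (.node [58,50,1] .nil .nil) (.node [49,51,0,1,0] .nil .nil)))))) (.node [56,53,47,0] (.node [48,48,52,1,0] (.node [50,52,48,0,0] (.node [47,57,0,1,0] (.node [53,48,0,51,1] (.node [51,46,51,0,0] (.node [47,0,0,1] .nil .nil) .nil) (.node [46,49,46,46,0] .nil .nil)) (.node [49,58,47,1] (.node [49,55,46,0,0] .nil .nil) (.node [47,0,47,52,1] .nil .nil))) (.node [1,0,52,49,0] (.node [51,54,52,1,0] (.node [54,1,46,0] (.node [51,1,56,46,0] .nil .nil) .nil) (.node [55,49,54,1] .nil .nil)) (.node [52,0,57,1] (.node [48,46,50,1] .nil .nil) (.node [47,52,47,0,0] .nil .nil)))) (.node [58,51,46,0,0] (.node [50,57,0,0,0] (.node [0,47,56,1] (.node [57,52,50,0,0] (.node [56,0,1] .nil .nil) .nil) (.node [54,46,53,1] .nil .nil)) (.node [56,53,49,46,0] (.node [54,47,57,47,1] .nil .nil) (.node [52,46,48,0,0] .nil .nil))) (.node [57,49,0] (.node [52,50,0,48,0] (.node [46,54,0,1] (.node [55,0,0,1] .nil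 .nil) .nil) (.node [52,58,51,48,0] .nil .nil)) (.node [51,49,51,1] (.node [54,46,46,0,0] .nil .nil) (.node [51,56,1,48,1] .nil .nil))))) (.node [1,48,46,0] (.node [48,50,53,1] (.node [1,48,46,0,0] (.node [58,54,54,1,0] (.node [50,52,1,0,0] (.node [47,50,1] .nil .nil) .nil) (.node [52,0,50,48,0] .nil .nil)) (.node [46,53,0,0] (.node [49,0,52,0,0] .nil .nil) (.node [51,1,53,0,1] .nil .nil))) (.node [50,1,0] (.node [0,52,46,0] (.node [1,55,48,51,1] (.node [46,1,49,47,0] .nil .nil) .nil) (.node [56,56,46,1] .nil .nil)) (.node [57,53,0,46,0] (.node [48,1] .nil .nil) (.node [47,53,47,0] .nil .nil)))) (.node [57,54,48,0,0] (.node [58,51,52,0,0] (.node [46,49,49,0] (.node [53,1,0] (.node [49,57,48,0] .nil .nil) .nil) (.node [0,58,50,1] .nil .nil)) (.node [0,50,50,0,0] (.node [0,57,46,0,0] .nil .nil) (.node [50,52,49,0] .nil .nil))) (.node [55,50,48,0] (.node [47,52,48,1] (.node [49,1,46,0] (.node [0,55,0,47,0] .nil .nil) .nil) (.node [1,49,47,0] .nil .nil)) (.node [51,0,0] (.node [50,0,1] .nil .nil)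 (.node [50,58,0,47,0] .nil .nil)))))))

/-- A part. -/
noncomputable def mainWords0_39 : Arr (List ℕ) :=
  (.node [0,0,54,46,0] (.node [1,53,58,1] (.node [51,52,1] (.node [57,50,0,0] (.node [0,46,54,1] (.node [52,50,1,48,0] (.node [54,0,52,0,0] (.node [53,55,53,0,0] .nil .nil) .nil) (.node [58,56,46,1] .nil .nil)) (.node [48,46,58,1,0] (.node [49,54,1] .nil .nil) (.node [48,58,49,0] .nil .nil))) (.node [56,54,48,1,0] (.node [50,0,58,1,0] (.node [48,58,48,46,0] (.node [1,57,50,0,1] .nil .nil) .nil) (.node [53,48,47,0,0] .nil .nil)) (.node [49,51,1,0] (.node [0,50,49,46,0] .nil .nil) (.node [1,49,55,1] .nil .nil)))) (.node [1,55,52,46,0] (.node [0,51,48,47,0] (.node [57,54,1,46,0] (.node [58,0,53,48,0] (.node [50,46,51,1] .nil .nil) .nil) (.node [49,47,52,1,0] .nil .nil)) (.node [51,49,53,47,0] (.node [58,47,53,0,0] .nil .nil) (.node [48,57,50,1] .nil .nil))) (.node [1,0,1,46,0] (.node [54,0,49,1] (.node [46,50,55,1,0] (.node [53,55,46,0,0] .nil .nil) .nil) (.node [1,46,55,1] .nil .nil)) (.node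 [53,46,0,48,0] (.node [56,0,0,1] .nil .nil) (.node [58,57,0,1,0] .nil .nil))))) (.node [46,0,47,1,0] (.node [54,46,0,47,0] (.node [52,49,0] (.node [1,48,52,1,0] (.node [47,1,58,1] (.node [53,50,48,46,0] .nil .nil) .nil) (.node [48,0,0,1] .nil .nil)) (.node [47,53,46,0] (.node [50,52,0,47,0] .nil .nil) (.node [56,52,1,0] .nil .nil))) (.node [53,1,57,1] (.node [0,58,53,49,0] (.node [51,1,53,51,1] (.node [0,56,1,0] .nil .nil) .nil) (.node [51,46,1,0] .nil .nil)) (.node [0,50,52,47,1] (.node [50,49,47,0,0] .nil .nil) (.node [47,1,52,1,0] .nil .nil)))) (.node [46,58,46,0] (.node [0,53,1,0] (.node [56,1,57,1] (.node [52,0,0,0,0] (.node [1,47,52,0,0] .nil .nil) .nil) (.node [0,54,53,1] .nil .nil)) (.node [52,1,50,47,0] (.node [56,49,47,0,0] .nil .nil) (.node [53,53,0,0,1] .nil .nil))) (.node [47,0,55,1] (.node [49,53,56,1,0] (.node [49,53,50,1,0] (.node [54,1,53,1] .nil .nil) .nil) (.node [53,1,0,48,1] .nil .nil)) (.node [47,48,48,0] (.node [54,0,58,46,1] .nil .nil) (.node [54,49,58,49,0] .nil .nil))))))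 (.node [57,47,51,1,0] (.node [51,52,0,1,0] (.node [1,53,48,0] (.node [53,51,46,0,0] (.node [47,58,55,1] (.node [56,49,46,0] (.node [53,0,47,0] .nil .nil) .nil) (.node [55,49,50,1,0] .nil .nil)) (.node [1,56,56,49,0] (.node [0,1,52,46,0] .nil .nil) (.node [46,49,0,47,0] .nil .nil))) (.node [57,46,46,1] (.node [46,53,46,0,0] (.node [0,48,0,1,0] (.node [57,51,46,0,0] .nil .nil) .nil) (.node [50,48,0,0,1] .nil .nil)) (.node [47,51,1,0] (.node [1,0,49,53,1] .nil .nil) (.node [55,58,1,0] .nil .nil)))) (.node [47,55,49,47,0] (.node [57,57,50,0,0] (.node [50,48,48,1,0] (.node [55,48,0,1] (.node [56,48,0,0] .nil .nil) .nil) (.node [52,1,58,1] .nil .nil)) (.node [50,0,47,0,0] (.node [1,50,52,0,0] .nil .nil) (.node [55,57,49,0] .nil .nil))) (.node [57,49,1,0,0] (.node [57,52,48,47,0] (.node [53,49,0] (.node [1,50,47,48,1] .nil .nil) .nil) (.node [46,52,46,0] .nil .nil)) (.node [47,47,1] (.node [54,0,0,0] .nil .nil) (.node [0,55,57,50,1] .nil .nil))))) (.node [49,49,1,0,0] (.node [1,50,46,0,0] (.node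 [46,51,47,48,0] (.node [49,56,53,1,0] (.node [55,47,57,46,0] (.node [51,1,50,47,0] .nil .nil) .nil) (.node [53,53,0,0] .nil .nil)) (.node [1,55,47,1] (.node [53,47,0,46,0] .nil .nil) (.node [58,46,1,54,1] .nil .nil))) (.node [56,50,46,0,0] (.node [50,48,0,48,0] (.node [0,58,46,1] (.node [57,0,47,1] .nil .nil) .nil) (.node [54,56,48,1] .nil .nil)) (.node [50,47,0,1] (.node [58,57,48,1] .nil .nil) (.node [49,49,49,0] .nil .nil)))) (.node [47,58,1,46,0] (.node [0,57,1,0] (.node [56,54,1,0] (.node [55,0,1] (.node [54,47,48,0] .nil .nil) .nil) (.node [51,0,47,0] .nil .nil)) (.node [47,0,58,1] (.node [1,46,58,47,1] .nil .nil) (.node [58,52,46,0,0] .nil .nil))) (.node [49,0,49,0,0] (.node [46,51,1,49,1] (.node [48,57,1,0] (.node [47,53,55,46,1] .nil .nil) .nil) (.node [1,53,1] .nil .nil)) (.node [52,58,46,0] (.node [0,52,47,0] .nil .nil) (.node [56,46,56,1] .nil .nil)))))))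

/-- A part. -/
noncomputable def mainWords0_40 : Arr (List ℕ) :=
  (.node [0,50,1,46,1] mainWords0_38 mainWords0_39)

/-- A part. -/
noncomputable def mainWords0_41 : Arr (List ℕ) :=
  (.node [49,1] (.node [50,48,0,47,0] (.node [0,54,47,0,0] (.node [52,0,52,1,0] (.node [0,48,56,1] (.node [57,57,46,46,0] (.node [51,55,52,49,0] (.node [1,47,0] .nil .nil) .nil) (.node [47,51,1] .nil .nil)) (.node [0,52,0,1] (.node [50,1,51,48,0] .nil .nil) (.node [47,0,51,1,0] .nil .nil))) (.node [57,46,54,1,0] (.node [52,54,47,1,0] (.node [56,50,0,0] (.node [53,1,49,55,1] .nil .nil) .nil) (.node [54,51,51,0,0] .nil .nil)) (.node [48,52,48,0,0] (.node [57,51,46,46,0] .nil .nil) (.node [0,49,56,48,0] .nil .nil)))) (.node [55,56,47,1] (.node [50,52,1,47,0,0] (.node [0,47,48,46,0] (.node [51,47,54,1] (.node [54,0,49,1,0] .nil .nil) .nil) (.node [58,0,47,1] .nil .nil)) (.node [53,47,50,1,0] (.node [46,48,46,0,0] .nil .nil) (.node [1,0,54,1] .nil .nil))) (.node [48,58,52,47,0] (.node [1,50,1,0] (.node [56,53,50,0,0]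 (.node [48,52,46,0,0] .nil .nil) .nil) (.node [1,58,56,47,0] .nil .nil)) (.node [54,56,46,0,0] (.node [56,54,51,1] .nil .nil) (.node [1,48,54,1] .nil .nil))))) (.node [56,1,55,1] (.node [50,1,0,48,0] (.node [55,0,53,1] (.node [56,50,52,1] (.node [46,58,49,1] (.node [50,48,0] .nil .nil) .nil) (.node [54,46,51,1] .nil .nil)) (.node [56,46,46,0,0] (.node [56,0,48,1] .nil .nil) (.node [54,51,46,1,0] .nil .nil))) (.node [1,53,50,1,0] (.node [50,47,49,46,1] (.node [0,50,48,1] (.node [56,46,1] .nil .nil) .nil) (.node [46,57,49,47,0] .nil .nil)) (.node [58,54,57,1] (.node [50,0,48,48,0] .nil .nil) (.node [47,57,53,1] .nil .nil)))) (.node [0,50,1,0,0] (.node [57,50,1,46,0] (.node [1,52,58,1] (.node [54,1,48,0] (.node [53,1,52,47,1] .nil .nil) .nil) (.node [49,51,47,0] .nil .nil)) (.node [56,56,47,1] (.node [54,46,49,0] .nil .nil) (.node [0,49,0,1] .nil .nil))) (.node [50,56,0,0,1] (.node [47,50,52,0,0] (.node [47,56,48,0] (.node [49,47,1,0] .nil .nil) .nil) (.node [1,51,47,0,1] .nil .nil)) (.node [52,47,1,0]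 (.node [0,58,46,46,0] .nil .nil) (.node [46,49,52,1,0] .nil .nil)))))) (.node [54,56,49,0,0] (.node [54,53,0,1,0] (.node [57,55,50,0,0] (.node [58,56,46,0] (.node [0,48,0,47,0] (.node [49,0,50,0,0] (.node [49,0,52,1] .nil .nil) .nil) (.node [52,54,46,1,0] .nil .nil)) (.node [49,46,46,1] (.node [51,1,49,0] .nil .nil) (.node [47,49,50,1] .nil .nil))) (.node [56,53,1] (.node [58,54,49,1,0] (.node [48,47,0,0] (.node [56,48,1,0,0] .nil .nil) .nil) (.node [58,51,46,1] .nil .nil)) (.node [48,48,47,0] (.node [53,0,52,1] .nil .nil) (.node [47,47,0] .nil .nil)))) (.node [54,58,48,47,0] (.node [57,46,48,0] (.node [46,0,58,1] (.node [52,48,48,0] (.node [0,0,0,48,0] .nil .nil) .nil) (.node [58,53,0,0,1] .nil .nil)) (.node [56,53,1,0] (.node [47,57,0,47,0] .nil .nil) (.node [0,1,0] .nil .nil))) (.node [57,58,51,0,0] (.node [0,1,46,1] (.node [51,1,46,1] (.node [0,55,1,0] .nil .nil) .nil) (.node [55,46,46,1,0] .nil .nil)) (.node [58,48,48,46,1] (.node [49,1,47,1,0] .nil .nil) (.node [1,53,58,47,1] .nil .nil)))))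 (.node [53,48,46,0] (.node [0,54,48,0] (.node [50,47,0,0] (.node [47,55,49,0,0] (.node [53,55,47,0,0] (.node [53,56,1,54,1] .nil .nil) .nil) (.node [50,49,54,1,0] .nil .nil)) (.node [51,1,46,0] (.node [49,0,48,0] .nil .nil) (.node [53,48,0,0,1] .nil .nil))) (.node [49,55,52,0,0] (.node [1,52,54,1] (.node [50,1,55,1] (.node [1,48,0,0] .nil .nil) .nil) (.node [49,52,52,1] .nil .nil)) (.node [52,1,47,1] (.node [47,49,46,1] .nil .nil) (.node [50,1,48,0,0] .nil .nil)))) (.node [57,54,47,0,0] (.node [50,56,46,0,0] (.node [54,48,1,0,0] (.node [48,48,47,0,0] (.node [51,49,0] .nil .nil) .nil) (.node [50,47,50,1] .nil .nil)) (.node [58,47,0] (.node [55,57,54,1] .nil .nil) (.node [56,50,52,1,0] .nil .nil))) (.node [53,57,0,1] (.node [57,55,46,1] (.node [48,50,48,0,0] (.node [49,1,54,1] .nil .nil) .nil) (.node [47,49,49,0,0] .nil .nil)) (.node [53,55,47,0] (.node [52,49,0,0,0] .nil .nil) (.node [57,1,55,48,0] .nil .nil)))))))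

/-- A part. -/
noncomputable def mainWords0_42 : Arr (List ℕ) :=
  (.node [54,54,49,1] (.node [46,0,0] (.node [49,54,0,0,0] (.node [53,58,53,0,0] (.node [47,48,1,0,0] (.node [51,48,1,54,1] (.node [49,1,55,46,1] (.node [52,50,1] .nil .nil) .nil) (.node [49,1,46,1] .nil .nil)) (.node [55,51,1,48,1] (.node [1,47,49,1] .nil .nil) (.node [47,50,52,1] .nil .nil))) (.node [54,1,46,49,0] (.node [47,49,0,1] (.node [48,46,48,46,0] (.node [58,1,49,0] .nil .nil) .nil) (.node [0,49,57,46,0] .nil .nil)) (.node [1,58,1,0] (.node [58,0,56,53,1] .nil .nil) (.node [57,1,52,1] .nil .nil)))) (.node [58,53,48,0] (.node [47,54,48,1,0] (.node [57,57,46,1,0] (.node [49,46,55,1,0] (.node [57,48,47,0] .nil .nil) .nil) (.node [50,0,48,1] .nil .nil)) (.node [46,0,0,0] (.node [46,48,51,1] .nil .nil) (.node [48,53,50,0,0] .nil .nil))) (.node [49,51,0,0,0] (.node [46,52,57,46,0] (.node [0,48,50,46,0] (.node [57,1,47,0,0] .nil .nil) .nil) (.node [46,55,49,0] .nil .nil)) (.node [54,0,55,1] (.node [51,58,52,0,0] .nil .nil)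 (.node [0,46,52,1,0] .nil .nil))))) (.node [55,1,47,1] (.node [58,0,0,48,1] (.node [48,54,1,0] (.node [50,55,0,1] (.node [47,0,0,0,0] (.node [50,47,1] .nil .nil) .nil) (.node [55,1,49,0,0] .nil .nil)) (.node [53,48,47,0] (.node [57,57,47,0] .nil .nil) (.node [50,52,48,1] .nil .nil))) (.node [49,56,1,0] (.node [54,1,0,0,0] (.node [48,1,54,1] (.node [56,52,0,0] .nil .nil) .nil) (.node [47,56,52,1] .nil .nil)) (.node [57,51,49,0] (.node [47,55,47,1] .nil .nil) (.node [0,0,0] .nil .nil)))) (.node [53,49,0,1] (.node [58,0,47,0,0] (.node [52,49,1,0,0] (.node [54,52,0,0] (.node [52,46,0] .nil .nil) .nil) (.node [51,1,51,48,0] .nil .nil)) (.node [58,50,49,0] (.node [49,1,51,48,0] .nil .nil) (.node [52,49,49,0] .nil .nil))) (.node [54,57,53,0,0] (.node [50,47,0,51,1] (.node [55,51,0,0] (.node [53,51,46,1] .nil .nil) .nil) (.node [47,54,47,0] .nil .nil)) (.node [1,0,57,1] (.node [52,48,47,0] .nil .nil) (.node [57,0,48,1] .nil .nil)))))) (.node [48,58,1] (.node [0,57,0,1] (.node [50,47,57,1] (.node [49,50,47,48,0]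 (.node [0,1,48,48,1] (.node [54,57,0,47,0] (.node [0,56,46,0,0] .nil .nil) .nil) (.node [1,54,56,1] .nil .nil)) (.node [1,57,0,0,0] (.node [46,0,47,0] .nil .nil) (.node [0,57,57,48,0] .nil .nil))) (.node [55,48,48,0] (.node [47,0,54,1,0] (.node [1,56,51,49,0] (.node [48,54,46,1] .nil .nil) .nil) (.node [53,51,49,46,0] .nil .nil)) (.node [0,54,54,46,1] (.node [46,57,48,0,0] .nil .nil) (.node [57,57,54,1] .nil .nil)))) (.node [0,0,48,0,0] (.node [50,58,48,0] (.node [56,46,57,1,0] (.node [49,51,1,46,0] (.node [0,0,52,0,0] .nil .nil) .nil) (.node [52,58,1,0] .nil .nil)) (.node [49,0,0,47,0] (.node [49,52,1,0] .nil .nil) (.node [1,49,53,47,1] .nil .nil))) (.node [55,48,0,47,0] (.node [54,48,0,1] (.node [1,51,0,0] (.node [54,53,50,1,0] .nil .nil) .nil) (.node [57,46,56,46,1] .nil .nil)) (.node [54,1,53,1,0] (.node [53,53,47,1] .nil .nil) (.node [54,57,49,0] .nil .nil))))) (.node [46,1,56,0,1] (.node [51,1,58,1] (.node [0,50,47,0] (.node [52,56,1,0,0] (.node [50,53,50,1] (.node [53,57,58,1] .nil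 .nil) .nil) (.node [47,58,57,47,0] .nil .nil)) (.node [58,56,51,0,0] (.node [51,1,56,1] .nil .nil) (.node [55,47,47,1] .nil .nil))) (.node [47,0,48,1,0] (.node [50,48,52,0,0] (.node [1,53,49,0] (.node [52,55,52,0,0] .nil .nil) .nil) (.node [49,47,1] .nil .nil)) (.node [46,53,50,0,0] (.node [49,47,48,1] .nil .nil) (.node [55,0,55,48,0] .nil .nil)))) (.node [55,56,53,1] (.node [50,0,46,0] (.node [47,51,58,1,0] (.node [51,47,48,0] (.node [0,49,47,0] .nil .nil) .nil) (.node [58,50,48,0,0] .nil .nil)) (.node [49,0,50,1] (.node [46,50,0,1,0] .nil .nil) (.node [48,57,1] .nil .nil))) (.node [53,51,49,0,0] (.node [53,1,54,1,0] (.node [58,48,48,1] .nil .nil) (.node [50,57,48,0,0] .nil .nil)) (.node [46,46,52,0,0] (.node [56,54,1] .nil .nil) (.node [51,1,48,0] .nil .nil)))))))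

/-- A part. -/
noncomputable def mainWords0_43 : Arr (List ℕ) :=
  (.node [1,46,49,0] mainWords0_41 mainWords0_42)

/-- A part. -/
noncomputable def mainWords0_44 : Arr (List ℕ) :=
  (.node [0,48,56,46,1] mainWords0_40 mainWords0_43)

/-- A part. -/
noncomputable def mainWords0_45 : Arr (List ℕ) :=
  (.node [0,56,49,1] mainWords0_37 mainWords0_44)

/-- A part. -/
noncomputable def mainWords0_46 : Arr (List ℕ) :=
  (.node [1,55,50,46,0] (.node [0,54,1,0] (.node [1,51,57,47,1] (.node [55,46,0,1] (.node [47,47,50,1] (.node [57,48,58,1,0] (.node [50,52,49,46,0] (.node [55,46,51,1] .nil .nil) .nil) (.node [47,55,52,1,0] .nil .nil)) (.node [48,55,48,1,0] (.node [52,54,1,0,0] .nil .nil) (.node [57,47,1] .nil .nil))) (.node [1,50,57,1] (.node [1,58,49,1] (.node [55,48,1,0,0] (.node [51,46,0,1] .nil .nil) .nil) (.node [50,57,1] .nil .nil)) (.node [0,50,0,0] (.node [50,0,52,1] .nil .nil) (.node [49,46,50,0,0] .nil .nil)))) (.node [0,52,55,1] (.node [1,0,50,1] (.node [57,54,53,0,0] (.node [46,1,55,1]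 (.node [52,1,57,1] .nil .nil) .nil) (.node [1,47,48,47,0] .nil .nil)) (.node [0,50,0,47,0] (.node [53,0,55,1,0] .nil .nil) (.node [53,46,46,0,0] .nil .nil))) (.node [52,47,50,1,0] (.node [1,49,0,1] (.node [1,46,46,0,0] (.node [51,47,1,48,1] .nil .nil) .nil) (.node [53,55,56,1,0] .nil .nil)) (.node [50,0,50,46,0] (.node [48,1,51,0,0] .nil .nil) (.node [1,50,46,1] .nil .nil))))) (.node [0,46,57,46,0] (.node [47,1,48,1] (.node [57,58,49,1,0] (.node [1,55,49,47,0] (.node [49,53,47,1] (.node [52,55,0,47,0] .nil .nil) .nil) (.node [46,0,49,0,0] .nil .nil)) (.node [0,46,48,0] (.node [46,48,53,1,0] .nil .nil) (.node [1,55,1] .nil .nil))) (.node [55,49,0] (.node [55,57,47,1] (.node [46,50,48,1] (.node [51,1,47,0] .nil .nil) .nil) (.node [0,50,57,1] .nil .nil)) (.node [54,48,58,46,1] (.node [46,55,49,1] .nil .nil) (.node [56,58,48,0,0] .nil .nil)))) (.node [1,48,48,1,0] (.node [57,49,1,0] (.node [48,52,1,0] (.node [1,57,48,1] (.node [1,47,53,1] .nil .nil) .nil) (.node [55,48,54,1] .nil .nil)) (.node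 [54,1,54,46,1] (.node [46,57,48,1] .nil .nil) (.node [55,51,46,0] .nil .nil))) (.node [46,1,49,49,0] (.node [49,1,52,1] (.node [53,46,52,0,0] (.node [52,0,51,1] .nil .nil) .nil) (.node [52,56,0,1] .nil .nil)) (.node [56,49,0] (.node [53,48,0,48,0] .nil .nil) (.node [53,53,0,47,0] .nil .nil)))))) (.node [1,47,1] (.node [54,0,48,0,0] (.node [52,51,1,47,0] (.node [50,57,0,49,0] (.node [1,46,53,46,0] (.node [52,52,48,48,0] (.node [52,56,53,0,0] .nil .nil) .nil) (.node [46,53,1] .nil .nil)) (.node [58,51,47,1] (.node [48,52,50,1] .nil .nil) (.node [49,47,57,46,0] .nil .nil))) (.node [1,49,47,1] (.node [54,47,0,0,0] (.node [53,50,52,48,0] (.node [49,1,49,1] .nil .nil) .nil) (.node [46,48,47,49,0] .nil .nil)) (.node [47,0,50,1] (.node [55,48,48,46,0] .nil .nil) (.node [54,47,0,51,1] .nil .nil)))) (.node [53,49,0,0,0] (.node [58,47,47,0,0] (.node [48,48,46,0,0] (.node [1,58,49,0] (.node [58,0,47,0] .nil .nil) .nil) (.node [55,50,46,0] .nil .nil)) (.node [49,51,48,0] (.node [49,52,0,1] .nil .nil) (.node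 [1,48,56,1,0] .nil .nil))) (.node [55,46,46,0] (.node [58,56,50,47,0] (.node [53,57,0,0,0] (.node [46,53,0,1] .nil .nil) .nil) (.node [48,53,46,1] .nil .nil)) (.node [55,46,50,1] (.node [51,51,1] .nil .nil) (.node [57,49,54,1,0] .nil .nil))))) (.node [54,54,48,0] (.node [1,46,46,1] (.node [50,0,1,47,0] (.node [51,1,47,1,0] (.node [56,0,58,1] (.node [0,1,49,0] .nil .nil) .nil) (.node [50,48,57,1] .nil .nil)) (.node [51,56,47,0] (.node [49,1,48,48,0] .nil .nil) (.node [48,51,47,1,0] .nil .nil))) (.node [56,52,51,1,0] (.node [1,55,56,1] (.node [1,54,47,0,1] (.node [56,53,47,1] .nil .nil) .nil) (.node [56,1,47,0] .nil .nil)) (.node [52,46,53,48,0] (.node [0,46,55,1,0] .nil .nil) (.node [47,56,47,1] .nil .nil)))) (.node [54,49,47,1,0] (.node [51,0,48,0] (.node [46,1,0,1] (.node [51,55,47,0,0] (.node [56,48,1,48,1] .nil .nil) .nil) (.node [53,47,0] .nil .nil)) (.node [57,1,56,1] (.node [55,52,48,0] .nil .nil) (.node [58,1,56,47,1] .nil .nil))) (.node [53,47,49,0] (.node [1,55,48,0] (.node [53,46,0,0]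 (.node [53,55,0,0,0] .nil .nil) .nil) (.node [53,0,49,49,1] .nil .nil)) (.node [50,1,48,0] (.node [58,46,0,0,1] .nil .nil) (.node [49,56,48,0] .nil .nil)))))))

/-- A part. -/
noncomputable def mainWords0_47 : Arr (List ℕ) :=
  (.node [51,51,46,1] (.node [1,46,57,1] (.node [52,46,1] (.node [48,51,0,1] (.node [55,57,0,47,0] (.node [49,50,48,0] (.node [55,49,0,1,0] (.node [49,47,0,47,0] .nil .nil) .nil) (.node [0,51,0,0,0] .nil .nil)) (.node [0,57,0,1,0] (.node [53,47,47,0,0] .nil .nil) (.node [58,1,52,1,0] .nil .nil))) (.node [54,49,52,0,0] (.node [1,47,51,0,0] (.node [47,49,53,0,0] (.node [57,47,0,1,0] .nil .nil) .nil) (.node [53,56,1] .nil .nil)) (.node [50,46,49,0] (.node [51,48,55,1] .nil .nil) (.node [53,0,1,0] .nil .nil)))) (.node [1,57,54,48,0] (.node [1,54,51,1,0] (.node [49,56,52,0,0] (.node [1,48,0,46,0] (.node [51,49,0,0,0] .nil .nil) .nil) (.node [1,58,51,49,1] .nil .nil)) (.node [54,58,49,0] (.node [0,52,58,1] .nil .nil) (.node [52,48,0] .nil .nil))) (.node [55,0,50,1] (.node [50,1,46,0]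 (.node [49,57,0,0,0] (.node [53,57,46,1] .nil .nil) .nil) (.node [52,1,0,0,0] .nil .nil)) (.node [48,48,51,1,0] (.node [47,1,0,1] .nil .nil) (.node [1,47,48,0] .nil .nil))))) (.node [0,53,49,0] (.node [48,47,50,1] (.node [0,55,50,46,0] (.node [49,46,1] (.node [0,46,48,47,1] (.node [55,0,55,1,0] .nil .nil) .nil) (.node [55,52,46,0] .nil .nil)) (.node [1,0,0,0,0] (.node [49,53,46,0] .nil .nil) (.node [1,54,1] .nil .nil))) (.node [49,56,1,0,0] (.node [53,1,57,46,0] (.node [51,0,56,1,0] (.node [50,48,0,1] .nil .nil) .nil) (.node [55,1,50,47,0] .nil .nil)) (.node [1,51,1,0,1] (.node [1,51,48,0,0] .nil .nil) (.node [0,55,56,1,0] .nil .nil)))) (.node [46,54,46,0,0] (.node [0,49,49,0] (.node [56,46,46,46,0] (.node [52,51,46,0] (.node [46,56,48,0] .nil .nil) .nil) (.node [0,52,57,50,1] .nil .nil)) (.node [51,56,1] (.node [1,48,56,46,0] .nil .nil) (.node [55,47,52,0,0] .nil .nil))) (.node [47,57,55,1] (.node [47,57,1,0] (.node [0,55,52,1] (.node [49,49,0,47,0] .nil .nil) .nil) (.node [57,53,0,1] .nil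 .nil)) (.node [56,48,58,1,0] (.node [51,49,52,0,0] .nil .nil) (.node [47,50,0,47,0] .nil .nil)))))) (.node [1,0,52,1] (.node [49,53,1,46,0] (.node [47,53,47,0,0] (.node [48,58,48,0,0] (.node [57,1,51,46,0] (.node [50,53,56,46,0] (.node [56,54,47,0] .nil .nil) .nil) (.node [46,0,56,47,1] .nil .nil)) (.node [58,1,0,48,0] (.node [50,0,0,47,0] .nil .nil) (.node [49,0,48,1,0] .nil .nil))) (.node [53,56,48,1] (.node [51,49,1,0,0] (.node [46,57,46,0] (.node [0,58,46,1,0] .nil .nil) .nil) (.node [0,51,49,0] .nil .nil)) (.node [48,58,50,46,0] (.node [52,50,1,46,0] .nil .nil) (.node [0,46,57,1] .nil .nil)))) (.node [53,53,49,0] (.node [49,51,48,46,0] (.node [54,54,47,0] (.node [46,56,54,1,0] (.node [1,58,1] .nil .nil) .nil) (.node [56,52,48,0] .nil .nil)) (.node [46,58,52,0,0] (.node [57,0,50,0,0] .nil .nil) (.node [1,58,52,49,1] .nil .nil))) (.node [55,49,46,0,0] (.node [51,47,47,0] (.node [57,54,51,0,0] (.node [50,58,49,49,0] .nil .nil) .nil) (.node [1,47,0,49,0] .nil .nil)) (.node [49,47,49,1] (.node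 [1,57,49,0] .nil .nil) (.node [50,49,49,0] .nil .nil))))) (.node [47,50,50,0,0] (.node [49,1,0,48,0] (.node [51,47,54,46,0] (.node [56,49,50,46,0] (.node [49,56,0,1] (.node [47,58,47,0] .nil .nil) .nil) (.node [54,56,1] .nil .nil)) (.node [49,55,50,0,0] (.node [46,52,1] .nil .nil) (.node [50,48,0,46,0] .nil .nil))) (.node [52,49,47,0,0] (.node [49,51,51,0,0] (.node [1,58,46,0,1] (.node [1,48,54,46,1] .nil .nil) .nil) (.node [54,58,1,0,0] .nil .nil)) (.node [1,0,51,1] (.node [46,1,0,0] .nil .nil) (.node [1,50,49,47,0] .nil .nil)))) (.node [57,49,46,0,0] (.node [56,0,49,0,0] (.node [1,58,46,0] (.node [56,51,57,46,0] (.node [48,0,52,1] .nil .nil) .nil) (.node [55,1,53,1] .nil .nil)) (.node [47,0] (.node [48,56,52,0,0] .nil .nil) (.node [1,53,0,1] .nil .nil))) (.node [47,50,47,0] (.node [48,56,46,1] (.node [47,58,51,1,0] (.node [49,58,53,0,0] .nil .nil) .nil) (.node [52,0,0,47,0] .nil .nil)) (.node [58,51,0,0] (.node [0,53,0,1,0] .nil .nil) (.node [58,53,53,0,0] .nil .nil)))))))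

/-- A part. -/
noncomputable def mainWords0_48 : Arr (List ℕ) :=
  (.node [53,48,1] mainWords0_46 mainWords0_47)

/-- A part. -/
noncomputable def mainWords0_49 : Arr (List ℕ) :=
  (.node [53,58,52,1] (.node [47,50,49,1] (.node [51,54,0,0,1] (.node [49,1,48,0] (.node [52,58,46,1] (.node [52,0,48,0] (.node [58,54,47,0] (.node [1,56,58,1,0] .nil .nil) .nil) (.node [46,51,1,0] .nil .nil)) (.node [56,58,1,0] (.node [56,48,46,1,0] .nil .nil) (.node [58,0,0,47,0] .nil .nil))) (.node [49,49,58,48,0] (.node [0,51,0,0] (.node [47,47,52,0,0] (.node [53,49,52,0,0] .nil .nil) .nil) (.node [47,52,47,1] .nil .nil)) (.node [53,54,47,1,0] (.node [46,55,1] .nil .nil) (.node [50,47,1,0] .nil .nil)))) (.node [54,1,51,48,0] (.node [57,1,52,1,0] (.node [58,55,52,0,0] (.node [56,46,50,1] (.node [0,52,51,1] .nil .nil) .nil) (.node [51,54,46,1] .nil .nil)) (.node [47,50,46,0] (.node [56,50,47,1] .nil .nil) (.node [1,56,55,1,0] .nil .nil))) (.node [57,53,55,48,0] (.node [52,48,1,47,0] (.node [54,50,0,0] (.node [53,51,1,49,1]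 .nil .nil) .nil) (.node [0,54,0,1,0] .nil .nil)) (.node [49,53,0,48,0] (.node [1,58,54,1,0] .nil .nil) (.node [0,57,46,1,0] .nil .nil))))) (.node [1,58,52,1] (.node [46,58,1] (.node [0,52,46,1] (.node [1,46,53,1,0] (.node [54,48,57,1] (.node [0,48,1] .nil .nil) .nil) (.node [47,58,46,1,0] .nil .nil)) (.node [51,56,46,1,0] (.node [55,53,49,0] .nil .nil) (.node [56,1,49,49,0] .nil .nil))) (.node [58,55,49,0] (.node [53,46,52,1] (.node [58,52,0,0,1] (.node [51,53,50,0,0] .nil .nil) .nil) (.node [51,55,47,1] .nil .nil)) (.node [46,51,51,46,1] (.node [53,0,53,0,0] .nil .nil) (.node [57,48,47,1,0] .nil .nil)))) (.node [46,56,1,0,0] (.node [1,57,47,0,0] (.node [50,47,0] (.node [47,57,49,0] (.node [47,0,0,0] .nil .nil) .nil) (.node [47,1,46,48,0] .nil .nil)) (.node [50,1,49,1] (.node [53,58,1,49,1] .nil .nil) (.node [58,51,48,0] .nil .nil))) (.node [1,52,0,49,1] (.node [53,49,47,0,0] (.node [58,1,50,1,0] (.node [1,56,1,47,1] .nil .nil) .nil) (.node [58,0,0,46,0] .nil .nil)) (.node [52,1,48,0,0] (.node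 [49,47,0,1] .nil .nil) (.node [54,1,58,1] .nil .nil)))))) (.node [53,48,52,0,0] (.node [47,49,52,0,0] (.node [0,0] (.node [57,47,57,1,0] (.node [46,50,46,1] (.node [55,50,1,0] (.node [52,46,0,0] .nil .nil) .nil) (.node [0,47,53,1] .nil .nil)) (.node [56,0,55,47,0] (.node [58,47,53,1] .nil .nil) (.node [56,47,1,0,0] .nil .nil))) (.node [0,46,0,0] (.node [46,55,51,0,0] (.node [51,58,49,0] (.node [57,58,1] .nil .nil) .nil) (.node [47,47,0,0,0] .nil .nil)) (.node [54,57,47,1,0] (.node [51,0,1] .nil .nil) (.node [48,53,55,46,1] .nil .nil)))) (.node [50,46,52,1,0] (.node [57,48,47,0,0] (.node [56,49,47,0] (.node [48,48,48,0,0] (.node [1,47,56,1] .nil .nil) .nil) (.node [49,58,53,1,0] .nil .nil)) (.node [49,1,47,1] (.node [53,58,46,1,0] .nil .nil) (.node [52,1,55,1] .nil .nil))) (.node [0,0,49,1,0] (.node [58,56,1,0,0] (.node [53,46,1,0] (.node [47,54,0,1,0] .nil .nil) .nil) (.node [0,52,48,48,0] .nil .nil)) (.node [46,56,46,1] (.node [50,1,47,0,0] .nil .nil) (.node [51,57,46,0] .nil .nil))))) (.node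 [0,48,0,1] (.node [1,0,49,1] (.node [50,0,48,1,0] (.node [52,1,52,46,0] (.node [55,53,46,0] (.node [48,52,0,46,0] .nil .nil) .nil) (.node [50,52,1] .nil .nil)) (.node [50,50,48,46,0] (.node [50,48,1] .nil .nil) (.node [58,51,1,47,0] .nil .nil))) (.node [57,48,46,0] (.node [55,0,46,0] (.node [53,47,0,47,0] (.node [55,0,51,1] .nil .nil) .nil) (.node [48,55,1,0] .nil .nil)) (.node [0,52,54,47,0] (.node [46,1,51,0,0] .nil .nil) (.node [1,57,0,1,0] .nil .nil)))) (.node [58,50,48,46,0] (.node [57,51,48,47,0] (.node [54,49,47,0,0] (.node [48,56,0,1] (.node [58,0,51,1] .nil .nil) .nil) (.node [46,55,53,0,0] .nil .nil)) (.node [51,48,0,0,0] (.node [51,47,0] .nil .nil) (.node [0,58,47,0,0] .nil .nil))) (.node [52,1,51,1] (.node [55,46,0,47,0] (.node [51,48,52,0,0] (.node [52,55,51,1,0] .nil .nil) .nil) (.node [1,52,0,0] .nil .nil)) (.node [49,50,53,47,0] (.node [48,54,51,1] .nil .nil) (.node [46,50,47,0] .nil .nil)))))))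

/-- A part. -/
noncomputable def mainWords0_50 : Arr (List ℕ) :=
  (.node [47,54,46,1] (.node [53,47,47,0] (.node [0,46,46,0] (.node [55,56,0,46,0] (.node [51,52,47,1,0] (.node [0,48,47,1,0] (.node [58,52,50,0,0] (.node [55,51,51,0,0] .nil .nil) .nil) (.node [54,1,50,47,0] .nil .nil)) (.node [46,1,50,47,0] (.node [1,53,51,48,1] .nil .nil) (.node [49,46,49,0] .nil .nil))) (.node [48,56,1,48,1] (.node [49,46,49,1,0] (.node [51,55,56,46,0] (.node [46,57,47,1] .nil .nil) .nil) (.node [56,51,49,0,0] .nil .nil)) (.node [48,57,49,0] (.node [58,50,50,0,0] .nil .nil) (.node [51,57,49,46,1] .nil .nil)))) (.node [50,56,52,0,0] (.node [53,46,46,0] (.node [58,0,46,0] (.node [53,50,49,0] (.node [46,54,0,47,0] .nil .nil) .nil) (.node [52,52,0,1,0] .nil .nil)) (.node [52,49,51,1,0] (.node [47,57,49,46,0] .nil .nil) (.node [48,46,0,47,0] .nil .nil))) (.node [56,51,48,0,0] (.node [49,47,58,47,0] (.node [48,54,1,0,0] (.node [55,53,48,0] .nil .nil) .nil) (.node [48,56,52,1] .nil .nil)) (.node [47,56,46,1] (.node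 [53,50,46,1] .nil .nil) (.node [47,47,53,46,0] .nil .nil))))) (.node [49,46,0] (.node [58,0,0,1] (.node [47,55,53,1,0] (.node [48,46,0,0] (.node [49,0,46,1] (.node [50,53,48,1,0] .nil .nil) .nil) (.node [55,52,50,1] .nil .nil)) (.node [0,46,0] (.node [50,58,50,1] .nil .nil) (.node [50,47,47,0,0] .nil .nil))) (.node [51,1,48,0,0] (.node [47,50,1,0,0] (.node [0,54,54,0,0,0] (.node [49,52,48,1] .nil .nil) .nil) (.node [48,54,51,0,0] .nil .nil)) (.node [0,57,55,49,0] (.node [49,47,0] .nil .nil) (.node [46,56,1] .nil .nil)))) (.node [58,47,49,0] (.node [1,48,0,0,0] (.node [54,51,0,1] (.node [49,52,46,0] (.node [57,48,48,1] .nil .nil) .nil) (.node [50,49,1,0] .nil .nil)) (.node [49,49,53,1,0] (.node [48,53,48,0] .nil .nil) (.node [58,49,57,1] .nil .nil))) (.node [54,1,50,1] (.node [0,55,47,0] (.node [48,46,48,0] (.node [54,57,58,1,0] .nil .nil) .nil) (.node [52,49,58,1] .nil .nil)) (.node [54,46,46,0] (.node [49,49,53,1] .nil .nil) (.node [51,54,46,0,0] .nil .nil)))))) (.node [47,58,49,1] (.node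 [47,55,52,46,1] (.node [56,0,49,50,0,0] (.node [46,55,48,0] (.node [49,46,54,46,1] (.node [57,0,54,1,0] (.node [47,53,1] .nil .nil) .nil) (.node [49,1,56,1] .nil .nil)) (.node [55,1,50,0,0] (.node [49,54,52,0,0] .nil .nil) (.node [57,52,47,1] .nil .nil))) (.node [49,0,1] (.node [1,48,47,0,1] (.node [57,52,1] (.node [47,51,48,0] .nil .nil) .nil) (.node [1,55,50,48,0] .nil .nil)) (.node [47,52,0,47,0] (.node [51,1,53,47,1] .nil .nil) (.node [57,48,1,0] .nil .nil)))) (.node [56,55,0,1] (.node [0,58,1,0] (.node [1,57,1,0] (.node [47,49,0,0] (.node [53,54,1,0] .nil .nil) .nil) (.node [48,52,49,1] .nil .nil)) (.node [52,48,1] (.node [48,57,48,46,1] .nil .nil) (.node [48,47,53,46,0] .nil .nil))) (.node [57,0,49,1,0] (.node [0,57,51,0,0] (.node [48,47,0,0,0] (.node [53,0,51,1] .nil .nil) .nil) (.node [57,53,47,0] .nil .nil)) (.node [47,48,50,1,0] (.node [57,49,49,0,0] .nil .nil) (.node [0,50,47,0,1] .nil .nil))))) (.node [58,49,49,0] (.node [57,0,51,1] (.node [58,48,47,1] (.node [1,57,46,0,0] (.node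 [54,58,46,1] (.node [56,0,51,0,0] .nil .nil) .nil) (.node [0,47,1,0] .nil .nil)) (.node [1,0,1] (.node [58,52,1] .nil .nil) (.node [57,1,46,1] .nil .nil))) (.node [49,47,50,1,0] (.node [0,56,50,0,0] (.node [0,47,50,0,0] (.node [48,48,1] .nil .nil) .nil) (.node [53,0,1,46,0] .nil .nil)) (.node [48,51,46,0] (.node [0,1,46,0] .nil .nil) (.node [49,53,49,1] .nil .nil)))) (.node [1,48,1,48,0] (.node [51,53,0,1] (.node [46,54,1,0] (.node [55,49,46,0] (.node [46,51,48,0] .nil .nil) .nil) (.node [55,56,1] .nil .nil)) (.node [0,54,49,1] (.node [57,0,55,1] .nil .nil) (.node [51,49,1,0] .nil .nil))) (.node [47,49,46,0,0] (.node [53,51,48,0,0] (.node [51,49,47,47,0] .nil .nil) (.node [1,51,48,0] .nil .nil)) (.node [48,0,49,1] (.node [54,52,0,1] .nil .nil) (.node [58,1] .nil .nil)))))))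

/-- A part. -/
noncomputable def mainWords0_51 : Arr (List ℕ) :=
  (.node [49,47,51,1] mainWords0_49 mainWords0_50)

/-- A part. -/
noncomputable def mainWords0_52 : Arr (List ℕ) :=
  (.node [47,49,1] mainWords0_48 mainWords0_51)

/-- A part. -/
noncomputable def mainWords0_53 : Arr (List ℕ) :=
  (.node [47,0,47,48,1] (.node [48,1,49,47,1] (.node [48,51,58,1] (.node [57,52,58,46,0] (.node [56,48,58,46,1] (.node [55,48,47,0] (.node [57,55,0,0,0] (.node [1,53,48,47,0] .nil .nil) .nil) (.node [51,58,48,0,0] .nil .nil)) (.node [49,46,48,0] (.node [58,46,1,0,0] .nil .nil) (.node [0,58,52,0,0] .nil .nil))) (.node [46,52,47,48,0] (.node [50,57,49,47,0] (.node [53,53,48,0] (.node [49,52,0,0] .nil .nil) .nil) (.node [50,48,46,1] .nil .nil)) (.node [50,49,57,1,0] (.node [52,48,47,1] .nil .nil) (.node [52,50,47,1,0] .nil .nil)))) (.node [0,53,51,1] (.node [0,57,46,46,0] (.node [51,58,49,0,0] (.node [51,46,52,1] (.node [1,50,56,1] .nil .nil) .nil) (.node [54,0,47,0] .nil .nil)) (.node [53,54,57,47,0]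 (.node [47,0,51,1] .nil .nil) (.node [47,58,47,0,0] .nil .nil))) (.node [49,0,58,1,0] (.node [1,48,47,1] (.node [47,47,48,1,0] (.node [56,53,49,1] .nil .nil) .nil) (.node [57,47,47,0] .nil .nil)) (.node [52,54,0,0,0] (.node [58,54,1,0] .nil .nil) (.node [52,47,52,46,1] .nil .nil))))) (.node [50,55,47,1] (.node [47,0,0,47,0] (.node [47,53,48,0] (.node [48,1,52,1,0] (.node [1,52,0,1] (.node [1,0,48,1] .nil .nil) .nil) (.node [50,0,52,1,0] .nil .nil)) (.node [50,46,48,1,0] (.node [53,50,0,46,0] .nil .nil) (.node [58,1,57,46,1] .nil .nil))) (.node [48,48,0,0,0] (.node [0,55,51,47,1] (.node [1,47,49,0,0] (.node [0,0,1,0] .nil .nil) .nil) (.node [47,1,0,46,0] .nil .nil)) (.node [52,1,50,52,1] (.node [1,56,46,1,0] .nil .nil) (.node [57,46,46,0,0] .nil .nil)))) (.node [53,0,0,0] (.node [56,50,47,0,0] (.node [55,0,0,0,0] (.node [51,47,49,0] (.node [49,54,47,1,0] .nil .nil) .nil) (.node [0,51,54,1] .nil .nil)) (.node [46,1,49,1] (.node [1,52,55,1] .nil .nil) (.node [1,46,46,1,0] .nil .nil))) (.node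 [54,46,49,1] (.node [47,52,49,0] (.node [50,0,48,0] (.node [47,51,0,47,0] .nil .nil) .nil) (.node [54,49,0,0] .nil .nil)) (.node [0,48,48,0,0] (.node [1,57,48,46,0] .nil .nil) (.node [1,49,46,0,0] .nil .nil)))))) (.node [48,1,0,1] (.node [56,52,0,0,0] (.node [52,0,1,0] (.node [50,50,50,0,0] (.node [48,51,51,1] (.node [51,1,52,46,0] (.node [58,52,0,0] .nil .nil) .nil) (.node [0,49,0,49,1] .nil .nil)) (.node [46,57,0,47,0] (.node [53,46,1,58,1] .nil .nil) (.node [50,49,53,0,0] .nil .nil))) (.node [51,1] (.node [47,58,1,0] (.node [49,49,47,0] (.node [1,57,52,1] .nil .nil) .nil) (.node [53,46,0,0,0] .nil .nil)) (.node [57,53,49,0,0] (.node [47,57,0,46,0] .nil .nil) (.node [50,47,1,48,1] .nil .nil)))) (.node [53,58,1,0] (.node [47,50,1,0] (.node [52,50,1,0] (.node [46,53,48,0] (.node [57,1,54,1] .nil .nil) .nil) (.node [54,58,46,0] .nil .nil)) (.node [47,0,49,1] (.node [1,46,0,0] .nil .nil) (.node [56,53,0,0,1] .nil .nil))) (.node [53,51,47,1,0] (.node [58,54,47,0,0] (.node [0,1,47,1] (.node [1,48,48,1]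 .nil .nil) .nil) (.node [46,1,56,49,0] .nil .nil)) (.node [52,1,54,1] (.node [51,0,54,1,0] .nil .nil) (.node [56,46,0,0,0] .nil .nil))))) (.node [1,46,1] (.node [47,1,54,1] (.node [1,54,46,0,0] (.node [55,47,48,0,0] (.node [53,54,48,48,0] (.node [50,0,1,0] .nil .nil) .nil) (.node [46,58,53,1] .nil .nil)) (.node [51,47,1,0] (.node [51,49,54,1] .nil .nil) (.node [50,58,0,1,0] .nil .nil))) (.node [56,54,46,0] (.node [48,0,48,0,0] (.node [58,46,1] (.node [52,51,0,47,0] .nil .nil) .nil) (.node [50,1,50,0,0] .nil .nil)) (.node [1,54,1,0,0] (.node [48,58,52,0,0] .nil .nil) (.node [1,47,48,1,0] .nil .nil)))) (.node [50,46,1,0,0] (.node [47,48,0,1,0] (.node [55,50,53,0,0] (.node [55,51,53,0,0] (.node [58,49,54,1] .nil .nil) .nil) (.node [57,55,47,48,0] .nil .nil)) (.node [56,48,48,1,0] (.node [55,51,48,0,0] .nil .nil) (.node [55,58,1] .nil .nil))) (.node [49,49,56,1,0] (.node [1,53,56,47,0,0] (.node [58,47,57,46,0] (.node [48,46,46,46,0] .nil .nil) .nil) (.node [49,58,0,0,1] .nil .nil)) (.node [53,57,49,0]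 (.node [56,1,48,1] .nil .nil) (.node [49,49,46,0,0] .nil .nil)))))))

/-- A part. -/
noncomputable def mainWords0_54 : Arr (List ℕ) :=
  (.node [58,47,49,1] (.node [52,47,50,1] (.node [0,53,48,0] (.node [54,54,50,0,0] (.node [55,1,46,48,0] (.node [51,46,0,0] (.node [48,0,53,1] (.node [54,1,51,46,1] .nil .nil) .nil) (.node [46,52,1,0] .nil .nil)) (.node [56,49,49,0] (.node [52,52,49,1,0] .nil .nil) (.node [48,0,47,0] .nil .nil))) (.node [47,1,0] (.node [54,0,54,1] (.node [50,55,47,0,0] (.node [55,1,0] .nil .nil) .nil) (.node [0,47,1,0,1] .nil .nil)) (.node [49,1,51,1] (.node [1,51,56,1,0] .nil .nil) (.node [49,47,50,0,0] .nil .nil)))) (.node [46,49,49,1] (.node [47,51,49,1] (.node [49,51,57,48,0] (.node [56,51,46,1] (.node [52,0,0,0] .nil .nil) .nil) (.node [55,48,47,1] .nil .nil)) (.node [58,48,57,1,0] (.node [49,46,49,1] .nil .nil) (.node [49,58,50,47,0] .nil .nil))) (.node [53,53,1,0] (.node [52,52,48,0,0] (.node [58,48,47,1,0] (.node [50,48,52,1] .nil .nil) .nil) (.node [58,52,48,0] .nil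 .nil)) (.node [50,1,52,1] (.node [54,0,1,0] .nil .nil) (.node [58,52,50,1] .nil .nil))))) (.node [46,1,48,1] (.node [51,57,47,1] (.node [50,58,47,0,0] (.node [46,51,48,1] (.node [55,47,50,1] (.node [52,50,49,1] .nil .nil) .nil) (.node [51,47,47,0,0] .nil .nil)) (.node [57,0,0,0,0] (.node [57,52,1,0] .nil .nil) (.node [55,46,53,1] .nil .nil))) (.node [46,50,1,0] (.node [47,47,49,1] (.node [55,49,47,1] (.node [57,58,0,1,0] .nil .nil) .nil) (.node [0,46,53,0,0] .nil .nil)) (.node [55,50,47,1] (.node [0,56,51,47,0] .nil .nil) (.node [0,57,53,1,0] .nil .nil)))) (.node [58,51,0,0,0] (.node [55,50,49,0] (.node [57,46,46,0] (.node [1,55,1,0] (.node [1,57,48,0,0] .nil .nil) .nil) (.node [51,1,54,53,1] .nil .nil)) (.node [51,0,48,1] (.node [0,48,53,49,0] .nil .nil) (.node [54,1,57,1] .nil .nil))) (.node [57,53,1] (.node [46,1,53,1] (.node [57,51,52,1,0] (.node [56,51,52,1] .nil .nil) .nil) (.node [49,0,51,0,0] .nil .nil)) (.node [49,54,47,0] (.node [50,57,53,0,0] .nil .nil) (.node [56,48,47,1] .nil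 .nil)))))) (.node [48,50,46,48,0] (.node [51,46,58,46,0] (.node [55,49,47,0] (.node [53,49,0,0] (.node [1,55,56,53,1] (.node [0,55,48,0] (.node [58,54,1,0,0] .nil .nil) .nil) (.node [49,1,48,1] .nil .nil)) (.node [58,54,46,1] (.node [1,47,51,1] .nil .nil) (.node [54,52,50,0,0] .nil .nil))) (.node [58,1,55,48,0] (.node [0] (.node [48,53,1,0,0] (.node [48,55,46,1] .nil .nil) .nil) (.node [0,55,52,1,0] .nil .nil)) (.node [47,0,48,0,0] (.node [56,47,51,0,0] .nil .nil) (.node [48,54,1] .nil .nil)))) (.node [46,57,46,1,0] (.node [46,58,49,0,0] (.node [54,48,0,0,0] (.node [54,47,53,47,0] (.node [53,54,1] .nil .nil) .nil) (.node [48,48,0] .nil .nil)) (.node [0,51,46,1] (.node [54,49,49,0] .nil .nil) (.node [47,48,53,1] .nil .nil))) (.node [48,58,53,0,0] (.node [58,47,50,1,0] (.node [53,50,48,0,0] (.node [0,58,51,0,0] .nil .nil) .nil) (.node [1,54,53,1] .nil .nil)) (.node [1,48,53,1] (.node [0,51,52,1] .nil .nil) (.node [51,49,47,0,0] .nil .nil))))) (.node [49,53,1,0] (.node [47,49,53,1] (.node [56,56,48,1,0]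 (.node [50,54,58,48,0] (.node [48,52,49,0] (.node [56,0,48,0] .nil .nil) .nil) (.node [0,54,57,49,0] .nil .nil)) (.node [0,54,52,0,0] (.node [0,0,52,0,1] .nil .nil) (.node [58,57,0,0,0] .nil .nil))) (.node [52,56,50,0,0] (.node [58,51,48,46,0] (.node [54,50,48,1] (.node [0,49,47,1,0] .nil .nil) .nil) (.node [53,1,0,0] .nil .nil)) (.node [55,56,0,0,0] (.node [48,51,48,0] .nil .nil) (.node [1,46,54,47,1] .nil .nil)))) (.node [51,48,47,0,0] (.node [56,1,46,1] (.node [58,1,53,1,0] (.node [51,0,52,0,0] (.node [53,57,1] .nil .nil) .nil) (.node [53,49,53,1,0] .nil .nil)) (.node [51,54,53,0,0] (.node [46,50,52,48,0] .nil .nil) (.node [49,53,46,1] .nil .nil))) (.node [48,52,46,0] (.node [51,56,46,1] (.node [48,0,50,1] (.node [47,56,47,0] .nil .nil) .nil) (.node [46,58,46,1] .nil .nil)) (.node [52,46,1,0,0] (.node [53,56,46,1] .nil .nil) (.node [50,54,46,0,0] .nil .nil)))))))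

/-- A part. -/
noncomputable def mainWords0_55 : Arr (List ℕ) :=
  (.node [50,58,1] mainWords0_53 mainWords0_54)

/-- A part. -/
noncomputable def mainWords0_56 : Arr (List ℕ) :=
  (.node [1,49,1] (.node [55,46,48,48,1] (.node [53,54,46,1] (.node [48,50,46,0] (.node [47,58,52,1] (.node [55,1,52,1] (.node [55,53,49,47,0] (.node [0,56,53,1,0] .nil .nil) .nil) (.node [49,57,57,47,0] .nil .nil)) (.node [1,48,51,0,0] (.node [56,1,48,0] .nil .nil) (.node [52,0,51,54,1] .nil .nil))) (.node [48,0,58,1] (.node [54,51,0,0,0] (.node [1,57,53,0,0] (.node [51,0,1,0] .nil .nil) .nil) (.node [1,0,47,47,1] .nil .nil)) (.node [0,55,46,0,0] (.node [50,0,49,1,0] .nil .nil) (.node [54,46,0] .nil .nil)))) (.node [49,55,0,0,1] (.node [52,46,48,1] (.node [52,48,46,1,0] (.node [50,0,55,1,0] (.node [54,47,49,0] .nil .nil) .nil) (.node [0,49,46,0,0] .nil .nil)) (.node [54,57,0,1] (.node [0,55,47,49,0] .nil .nil) (.node [54,58,49,0,0] .nil .nil))) (.node [50,0,0,0] (.node [49,0,57,1] (.node [52,57,53,0,0] (.node [1,48,55,1]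 .nil .nil) .nil) (.node [46,0,47,1] .nil .nil)) (.node [54,0,52,47,0] (.node [47,47,0,1,0] .nil .nil) (.node [0,50,48,1,0] .nil .nil))))) (.node [46,58,50,1] (.node [47,48,48,1] (.node [49,49,53,0,0] (.node [1,52,47,1] (.node [58,49,0,47,0] (.node [51,0,58,46,1] .nil .nil) .nil) (.node [55,1,47,0] .nil .nil)) (.node [55,58,48,0] (.node [0,53,46,0,0] .nil .nil) (.node [50,49,1,49,1] .nil .nil))) (.node [58,1,50,0,0] (.node [0,48,0,0,1] (.node [48,55,1] (.node [46,0,48,0] .nil .nil) .nil) (.node [46,53,46,1] .nil .nil)) (.node [56,49,1,55,1] (.node [52,51,47,1] .nil .nil) (.node [56,0,49,0] .nil .nil)))) (.node [58,48,0] (.node [57,51,1,0] (.node [48,46,0] (.node [54,47,48,0,0] (.node [48,57,50,0,0] .nil .nil) .nil) (.node [1,50,52,1] .nil .nil)) (.node [54,0,1,48,1] (.node [0,53,50,46,0] .nil .nil) (.node [1,51,0,0,0] .nil .nil))) (.node [1,52,58,49,0] (.node [0,46,0,1] (.node [0,49,0,0,0] (.node [48,0,46,0,0] .nil .nil) .nil) (.node [51,0,53,1,0] .nil .nil)) (.node [52,51,48,48,0] (.node [50,47,0,0,0]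 .nil .nil) (.node [58,54,53,1] .nil .nil)))))) (.node [58,47,1,0,0] (.node [48,53,47,49,0] (.node [46,53,46,0] (.node [48,1,47,0] (.node [0,0,1] (.node [1,46,49,1] (.node [50,49,52,0,0] .nil .nil) .nil) (.node [49,53,53,1] .nil .nil)) (.node [55,47,0,47,0] (.node [55,56,55,1] .nil .nil) (.node [46,0,54,1] .nil .nil))) (.node [0,1,53,0,0] (.node [56,49,0,0] (.node [58,54,46,0,0] (.node [48,48,0,47,0] .nil .nil) .nil) (.node [48,0,1] .nil .nil)) (.node [48,0,47,0,0] (.node [48,48,52,46,0] .nil .nil) (.node [55,1,52,1,0] .nil .nil)))) (.node [47,52,48,0,0] (.node [46,46,0] (.node [55,52,0,0,0] (.node [49,0,47,1] (.node [54,58,50,1] .nil .nil) .nil) (.node [56,0,46,0] .nil .nil)) (.node [47,56,50,1,0] (.node [50,1,51,1] .nil .nil) (.node [57,53,53,1] .nil .nil))) (.node [1,58,1,0,0] (.node [53,57,1,0] (.node [46,54,46,46,0] (.node [50,47,49,0] .nil .nil) .nil) (.node [1,51,46,1] .nil .nil)) (.node [47,1,57,49,0] (.node [58,54,0,47,0] .nil .nil) (.node [53,0,47,1] .nil .nil))))) (.node [58,55,48,0,0]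 (.node [47,53,0,47,0] (.node [46,58,1,0] (.node [0,48,1,0] (.node [1,47,0,0,0] (.node [53,0,46,0] .nil .nil) .nil) (.node [51,1,48,1] .nil .nil)) (.node [1,51,56,1] (.node [1,0,51,46,0] .nil .nil) (.node [58,54,0,0,0] .nil .nil))) (.node [47,1,50,0,0] (.node [50,52,1,48,0] (.node [46,54,47,1] (.node [51,0,0,47,0] .nil .nil) .nil) (.node [53,57,46,0,0] .nil .nil)) (.node [56,58,0,1,0] (.node [50,55,46,0,1] .nil .nil) (.node [49,1,47,0,0] .nil .nil)))) (.node [50,50,53,0,0] (.node [58,53,51,0,0] (.node [49,53,0,1,0] (.node [52,47,1,0,0] (.node [50,48,1,48,1] .nil .nil) .nil) (.node [49,56,50,1,0] .nil .nil)) (.node [47,58,1,0,0] (.node [53,53,47,0] .nil .nil) (.node [48,56,1,55,1] .nil .nil))) (.node [55,57,49,1,0] (.node [56,1,54,49,1] (.node [46,53,47,0,0] (.node [1,49,55,47,0] .nil .nil) .nil) (.node [1,58,49,1,0] .nil .nil)) (.node [51,1,58,1,0] (.node [48,1,50,46,1] .nil .nil) (.node [0,0,56,46,0] .nil .nil)))))))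

/-- A part. -/
noncomputable def mainWords0_57 : Arr (List ℕ) :=
  (.node [1,48,47,0] (.node [0,1,47,0] (.node [53,1,49,1,0] (.node [51,56,49,0] (.node [48,54,48,0] (.node [0,49,51,1] (.node [47,57,0,1] (.node [51,0,49,0] .nil .nil) .nil) (.node [55,50,50,1] .nil .nil)) (.node [54,51,48,1] (.node [53,0,55,1] .nil .nil) (.node [54,52,49,1,0] .nil .nil))) (.node [58,48,56,46,1] (.node [0,58,51,1] (.node [53,46,55,1,0] (.node [48,58,46,46,1] .nil .nil) .nil) (.node [54,56,48,1,0] .nil .nil)) (.node [49,53,58,46,0] (.node [47,0,46,0] .nil .nil) (.node [56,46,51,1] .nil .nil)))) (.node [52,54,53,1,0] (.node [48,55,47,0,0] (.node [0,54,57,0,1] (.node [54,48,0] (.node [48,1,51,46,1] .nil .nil) .nil) (.node [49,58,47,0] .nil .nil)) (.node [53,47,52,1,0] (.node [48,0,0,0,0] .nil .nil) (.node [0,0,50,47,0] .nil .nil))) (.node [56,58,48,0] (.node [54,46,48,0,0] (.node [0,53,55,48,0] (.node [53,1,50,0,0] .nil .nil) .nil) (.node [0,50,0,46,0] .nil .nil)) (.node [0,47,56,47,1] (.node [52,54,0,0,1] .nil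 .nil) (.node [57,50,0,0,0] .nil .nil))))) (.node [52,57,47,0] (.node [0,47,53,49,0] (.node [56,50,46,0] (.node [55,53,0,0] (.node [55,0,49,1] (.node [50,1,50,1] .nil .nil) .nil) (.node [56,46,46,1] .nil .nil)) (.node [55,50,0,1,0] (.node [49,46,48,1] .nil .nil) (.node [50,47,52,1,0] .nil .nil))) (.node [46,52,49,0] (.node [0,50,56,1] (.node [57,49,54,1] (.node [1,48,46,49,0] .nil .nil) .nil) (.node [51,1,47,1] .nil .nil)) (.node [0,46,58,46,0] (.node [52,50,49,0] .nil .nil) (.node [48,0,53,47,0] .nil .nil)))) (.node [50,53,0,0,0] (.node [51,51,49,0] (.node [53,57,52,1,0] (.node [47,51,55,1,0] (.node [0,48,52,1] .nil .nil) .nil) (.node [53,54,51,1,0] .nil .nil)) (.node [57,54,1,0] (.node [50,52,46,0,0] .nil .nil) (.node [0,47,0] .nil .nil))) (.node [57,48,1,0,0] (.node [57,49,1] (.node [53,50,49,0,0] (.node [0,49,46,1] .nil .nil) .nil) (.node [51,58,46,1] .nil .nil)) (.node [56,46,0,1] (.node [48,55,52,1] .nil .nil) (.node [49,51,49,49,0] .nil .nil)))))) (.node [57,0,47,0] (.node [51,49,0,47,0]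 (.node [0,51,46,0,0] (.node [57,47,49,0] (.node [55,46,49,1] (.node [47,57,1] (.node [57,50,46,1] .nil .nil) .nil) (.node [1,50,1,0,0] .nil .nil)) (.node [57,54,49,49,0] (.node [47,47,51,0,0] .nil .nil) (.node [51,54,53,1] .nil .nil))) (.node [50,57,46,0] (.node [1,46,58,47,0] (.node [46,1,47,51,1] (.node [54,56,47,0] .nil .nil) .nil) (.node [52,49,1] .nil .nil)) (.node [47,50,47,1] (.node [1,55,49,0] .nil .nil) (.node [49,1,49,1,0] .nil .nil)))) (.node [1,57,1] (.node [53,57,50,0,0] (.node [48,46,52,1,0] (.node [51,56,0,0,0] (.node [57,48,0,0,0] .nil .nil) .nil) (.node [1,53,47,0,1] .nil .nil)) (.node [49,49,47,1] (.node [50,0,50,48,1] .nil .nil) (.node [56,54,51,48,0] .nil .nil))) (.node [0,57,46,0,0,0] (.node [1,56,48,1] (.node [48,46,46,0] (.node [47,57,0,51,1] .nil .nil) .nil) (.node [54,51,47,0] .nil .nil)) (.node [46,58,49,1,0] (.node [1,52,1] .nil .nil) (.node [49,1,57,46,0] .nil .nil))))) (.node [58,46,0] (.node [48,50,47,1] (.node [48,53,0,47,0] (.node [56,54,48,0] (.node [48,53,0,0,1]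 (.node [53,49,49,0,0] .nil .nil) .nil) (.node [50,57,47,1] .nil .nil)) (.node [54,48,0,0] (.node [1,48,48,0] .nil .nil) (.node [46,58,50,1,0] .nil .nil))) (.node [47,50,57,46,0] (.node [1,54,1,0] (.node [55,51,1,47,0] (.node [0,51,1] .nil .nil) .nil) (.node [54,53,49,0] .nil .nil)) (.node [56,55,51,0,0] (.node [47,51,47,1,0] .nil .nil) (.node [51,1,52,1,0] .nil .nil)))) (.node [54,1,57,49,0] (.node [47,56,46,0,0] (.node [51,52,1,0] (.node [56,46,0] (.node [52,47,50,47,0] .nil .nil) .nil) (.node [55,47,51,1] .nil .nil)) (.node [56,50,48,0] (.node [51,1,49,49,0] .nil .nil) (.node [50,50,47,1,0] .nil .nil))) (.node [0,54,0,1] (.node [48,57,0,1] (.node [46,49,0] .nil .nil) (.node [1,51,57,1,0] .nil .nil)) (.node [0,48,0] (.node [58,47,48,1,0] .nil .nil) (.node [0,1,53,1] .nil .nil)))))))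

/-- A part. -/
noncomputable def mainWords0_58 : Arr (List ℕ) :=
  (.node [0,47,54,47,0] mainWords0_56 mainWords0_57)

/-- A part. -/
noncomputable def mainWords0_59 : Arr (List ℕ) :=
  (.node [57,48,55,1] mainWords0_55 mainWords0_58)

/-- A part. -/
noncomputable def mainWords0_60 : Arr (List ℕ) :=
  (.node [51,46,49,1] mainWords0_52 mainWords0_59)

/-- A part. -/
noncomputable def mainWords0_61 : Arr (List ℕ) :=
  (.node [1,49,1,48,1] mainWords0_45 mainWords0_60)

/-- A part. -/
noncomputable def mainWords0_62 : Arr (List ℕ) :=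
  (.node [] mainWords0_30 mainWords0_61)

/-- The array. -/
noncomputable def mainWords0 : Arr (List ℕ) := mainWords0_62

/-- A part. -/
noncomputable def mainWords1_0 : Arr (List ℕ) :=
  (.node [55,53,46,46] (.node [48,50,46,48] (.node [51,46,58,46] (.node [46,55,53,47] (.node [48,48,53,48] (.node [54,58,48,46] (.node [51,53,54,48] (.node [51,47,49,46] .nil .nil) .nil) (.node [56,48,53,48] (.node [47,50,48] .nil .nil) .nil)) (.node [50,57,46,46] (.node [55,49,50,48] (.node [52,56,54,46] .nil .nil) .nil) (.node [58,47,50,46] (.node [55,47,49] .nil .nil) .nil))) (.node [51,57,48,46] (.node [48,52,46] (.node [57,50,48,48] (.node [55,46,46,46] .nil .nil) .nil) (.node [57,52,47] (.node [58,55,51,47] .nil .nil) .nil)) (.node [46,51,51,49,46] (.node [47,49,52,46] (.node [47,54,50,46] .nil .nil) .nil) (.node [48,51,57,48] .nil .nil)))) (.node [48,51,51,46] (.node [53,55,57,47] (.node [54,58,47] (.node [50,46,48,48] (.node [57,46,49,46,46] .nil .nil) .nil) (.node [48,56,48,46] (.node [48,56,49,46]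 .nil .nil) .nil)) (.node [54,58,46,46] (.node [48,46,56,48,46] (.node [54,46,52,46] .nil .nil) .nil) (.node [55,50,49,47] .nil .nil))) (.node [46,57,57,49] (.node [50,54,58,48] (.node [50,49] (.node [53,57,46,46] .nil .nil) .nil) (.node [52,49,47] (.node [47,58,53,46,46] .nil .nil) .nil)) (.node [46,52,51,46] (.node [50,55,49] (.node [46,48,46] .nil .nil) .nil) (.node [56,56,51,47] .nil .nil))))) (.node [57,52,46,46] (.node [55,49,47] (.node [57,46,46,46] (.node [46,48,52,48] (.node [46,48,57,46] (.node [50,58,47] .nil .nil) .nil) (.node [50,48,52,46] (.node [51,46,46] .nil .nil) .nil)) (.node [57,46,46] (.node [50,57,49] (.node [56,56,48,48] .nil .nil) .nil) (.node [57,47,48,46,46] .nil .nil))) (.node [55,50,49] (.node [57,57,49] (.node [51,48,46,46] (.node [50,48,48,47] .nil .nil) .nil) (.node [52,46,57,47] (.node [53,48,53,48] .nil .nil) .nil)) (.node [54,49,46,46] (.node [58,47,48,46] (.node [53,47,54,47] .nil .nil) .nil) (.node [48,47,56,46,46] .nil .nil)))) (.node [47,49,50,46] (.node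 [53,51,52,46] (.node [46,56,46,46] (.node [57,53,58,49] (.node [49,49,46,48,46] .nil .nil) .nil) (.node [52,47,48] (.node [54,47,51,47] .nil .nil) .nil)) (.node [50,54,51,46] (.node [56,49,50,49,46] (.node [46,50,56,47] .nil .nil) .nil) (.node [46,55,58,47] .nil .nil))) (.node [52,47,47] (.node [49,51,57,48] (.node [48,53,50,47] (.node [46,57,49,46] .nil .nil) .nil) (.node [50,50,47,47] (.node [47,57,51,47] .nil .nil) .nil)) (.node [52,54,53,46] (.node [47,56,56,46] (.node [47,53,53,48] .nil .nil) .nil) (.node [54,53,51,48] .nil .nil)))))) (.node [48,48,46,50,46] (.node [55,56,54,48] (.node [49,50,52,48] (.node [56,51,49,47] (.node [56,54,46] (.node [55,52,47] (.node [52,56,48] .nil .nil) .nil) (.node [53,57,57,46] (.node [56,52,46,49] .nil .nil) .nil)) (.node [48,52,48,53,46] (.node [57,46,49,47] (.node [55,57,46] .nil .nil) .nil) (.node [48,57,48,47] .nil .nil))) (.node [54,49,58,46] (.node [55,48,47] (.node [50,58,52,48] (.node [57,53,50,47] .nil .nil) .nil) (.node [47,53,56,46] (.node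 [54,52,47,47] .nil .nil) .nil)) (.node [57,58,55,46,46] (.node [50,46,49,46] (.node [50,48,53,46,46] .nil .nil) .nil) (.node [50,54,48] .nil .nil)))) (.node [49,56,48,47] (.node [57,47,48,46] (.node [52,49,50,46] (.node [53,57,47] (.node [48,53,53,46] .nil .nil) .nil) (.node [53,55,48,47] (.node [51,48] .nil .nil) .nil)) (.node [50,57,49,47] (.node [51,46,50,46] (.node [53,54,48,47] .nil .nil) .nil) (.node [46,51,52,46] .nil .nil))) (.node [46,52,47,48] (.node [52,57,50,46] (.node [51,54,53,46] (.node [52,52,51,49] .nil .nil) .nil) (.node [49,57,50,46] (.node [52,46,54,47] .nil .nil) .nil)) (.node [58,53,46,46] (.node [56,54,48,48] (.node [48,57,48] .nil .nil) .nil) (.node [52,46,51,46] .nil .nil))))) (.node [57,52,58,46] (.node [57,53,51,46] (.node [47,53,48] (.node [50,47,50,46] (.node [47,55,49,46,46] (.node [49,51,58,48] .nil .nil) .nil) (.node [55,46,48,47] (.node [54,48,51,47] .nil .nil) .nil)) (.node [58,49,52,46] (.node [46,50,52,49] (.node [47,54,46] .nil .nil) .nil) (.node [56,50,55,46,46]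 .nil .nil))) (.node [51,48,46,49] (.node [48,46,49,47] (.node [56,54,54,47] (.node [58,56,48] .nil .nil) .nil) (.node [48,50,54,46] (.node [58,48,53,46] .nil .nil) .nil)) (.node [52,58,49] (.node [54,51,58,46] (.node [57,49,47] .nil .nil) .nil) (.node [47,48,54,47] .nil .nil)))) (.node [52,51,46,46] (.node [56,52,52,46,46] (.node [47,53,56,48] (.node [58,48,48,46] (.node [51,53,57,46,46] .nil .nil) .nil) (.node [55,47,56,51,46] (.node [48,53,49] .nil .nil) .nil)) (.node [47,51,54,47] (.node [47,57,53,49] (.node [48,53,46,46] .nil .nil) .nil) (.node [47,55,52,46] .nil .nil))) (.node [53,48,50,46] (.node [57,58,47] (.node [50,48,46] (.node [49,47,48,46] .nil .nil) .nil) (.node [47,47,49,46] (.node [56,50,56,46] .nil .nil) .nil)) (.node [53,53,48,47] (.node [46,55,48,47] (.node [57,51,46,49] .nil .nil) .nil) (.node [46,51,46,50,46] .nil .nil)))))))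

/-- A part. -/
noncomputable def mainWords1_1 : Arr (List ℕ) :=
  (.node [46,51,56,49] (.node [53,57,55,48] (.node [52,57,47] (.node [51,56,49] (.node [48,54,48] (.node [46,52,49] (.node [52,48,56,49] (.node [51,48,48] .nil .nil) .nil) (.node [46,53,47,49] (.node [48,46,51,48,46] .nil .nil) .nil)) (.node [50,47,54,49,46] (.node [48,54,47] (.node [57,52,57,47] .nil .nil) .nil) (.node [51,52,51,47] .nil .nil))) (.node [49,46,57,46] (.node [52,57,46,48] (.node [48,57,51,47] (.node [53,51,57,48] .nil .nil) .nil) (.node [56,49,58,47] (.node [46,57,48] .nil .nil) .nil)) (.node [57,47,51,46] (.node [54,51,49] (.node [54,58,50,47] .nil .nil) .nil) (.node [57,53,48,46] .nil .nil)))) (.node [50,53,46,49] (.node [56,50,46] (.node [56,58,48] (.node [52,50,49,47] (.node [48,50,49,49] .nil .nil) .nil) (.node [54,49,56,48] (.node [54,50,49,47] .nil .nil) .nil)) (.node [50,58,54,46] (.node [52,49,55,47] (.node [51,51,58,48] .nil .nil) .nil) (.node [50,54,50,48] .nil .nil))) (.node [56,46,58,48] (.node [56,54,48]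 (.node [56,48,46,50,46] (.node [47,49,53,46] .nil .nil) .nil) (.node [58,54,53,46] (.node [50,46,57,46] .nil .nil) .nil)) (.node [58,50,46] (.node [48,46,48,46,46] (.node [53,46,53,47] .nil .nil) .nil) (.node [57,49,53,46] .nil .nil))))) (.node [58,46] (.node [56,51,53,46] (.node [57,47,49] (.node [47,50,57,46] (.node [54,49,56,46] (.node [46,50,56,46] .nil .nil) .nil) (.node [58,57,58,46] (.node [52,47,50,48,46] .nil .nil) .nil)) (.node [47,53,48,46] (.node [47,58,53,47] (.node [49,54,48,46] .nil .nil) .nil) (.node [56,46,49,46] .nil .nil))) (.node [51,51,49] (.node [52,56,48,51,46] (.node [50,47,48] (.node [46,51,48,47] .nil .nil) .nil) (.node [46,48,51,47] (.node [53,56,49] .nil .nil) .nil)) (.node [53,51,51,46] (.node [58,57,46] (.node [46,57,52,48] .nil .nil) .nil) (.node [47,51,58,46] .nil .nil)))) (.node [55,51,49,49] (.node [56,54,46,46] (.node [46,53,58,47] (.node [54,58,48,48] (.node [48,57,47] .nil .nil) .nil) (.node [56,53,46] (.node [50,54,54,48] .nil .nil) .nil)) (.node [53,50,53,47]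 (.node [49,46,46,48] (.node [57,53,46] .nil .nil) .nil) (.node [55,56,47,47] .nil .nil))) (.node [50,57,46] (.node [46,52,58,46,46] (.node [54,46,53,49] (.node [46,53,54,46] .nil .nil) .nil) (.node [48,48,46] (.node [51,47,53,49,46] .nil .nil) .nil)) (.node [46,54,50,46] (.node [52,48,50,46] (.node [50,49,47] .nil .nil) .nil) (.node [49,46,56,46] .nil .nil)))))) (.node [48,53,47,49] (.node [49,55,48,46] (.node [46,53,46] (.node [49,52,50,46] (.node [58,53,48,46] (.node [52,46,48,46] (.node [50,55,57,48] .nil .nil) .nil) (.node [50,47,57,46] (.node [46,48,48] .nil .nil) .nil)) (.node [48,46] (.node [52,54,50,48] (.node [57,57,48,46,46] .nil .nil) .nil) (.node [56,51,56,46] .nil .nil))) (.node [55,52,51,46] (.node [50,46,53,46] (.node [48,51,58,46] (.node [49,53,50,47] .nil .nil) .nil) (.node [50,53,53,49] (.node [46,53,46,50,46] .nil .nil) .nil)) (.node [54,48,52,47] (.node [55,46,50,47] (.node [57,58,53,47] .nil .nil) .nil) (.node [51,55,57,46] .nil .nil)))) (.node [58,48] (.node [47,48,50,47]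 (.node [58,57,46,46] (.node [51,52,46,46] (.node [57,53,47,48] .nil .nil) .nil) (.node [58,47,48,47] (.node [58,47,54,47] .nil .nil) .nil)) (.node [55,53,48,48] (.node [48,52,58,46] (.node [55,52,58,46] .nil .nil) .nil) (.node [51,52,51,46] .nil .nil))) (.node [56,52,54,47] (.node [55,50,46,46] (.node [54,50,48] (.node [53,49,54,48] .nil .nil) .nil) (.node [49,47,47] (.node [55,57,50,49] .nil .nil) .nil)) (.node [50,57,52,49,46] (.node [49] (.node [46,46,49,46] .nil .nil) .nil) (.node [49,58,57,48] .nil .nil))))) (.node [48,50,46] (.node [53,50,46,46] (.node [58,49,53,47] (.node [51,49,51,49,46] (.node [49,52,48,47] (.node [57,49,55,48,46] .nil .nil) .nil) (.node [53,51,47] (.node [55,52,58,48] .nil .nil) .nil)) (.node [50,49,53,47] (.node [47,56,47,48] (.node [57,49,58,47] .nil .nil) .nil) (.node [57,54,48] .nil .nil))) (.node [52,54,54,48] (.node [54,46,49,46] (.node [55,50,57,49] (.node [53,53,46,49,46] .nil .nil) .nil) (.node [46,57,50,46] (.node [48,57,53,51,46] .nil .nil) .nil)) (.node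 [46,50,49] (.node [48,51,54,46] (.node [48,53,46,48,46] .nil .nil) .nil) (.node [48,46,48,48] .nil .nil)))) (.node [57,50,48,47] (.node [46,46] (.node [50,46,56,48] (.node [56,48,46] (.node [54,51,53,46] .nil .nil) .nil) (.node [48,56,55,48,46] (.node [52,54,53,47] .nil .nil) .nil)) (.node [57,55,53,46] (.node [53,56,50,47] (.node [52,55,48] .nil .nil) .nil) (.node [48,58,52,46,46] .nil .nil))) (.node [54,46,56,47] (.node [46,52,52,47] (.node [53,55,48,48] (.node [51,47,57,49,46] .nil .nil) .nil) (.node [49,50,52,49,46] (.node [54,50,56,49] .nil .nil) .nil)) (.node [52,51,57,48] (.node [58,57,48] (.node [58,53,47] .nil .nil) .nil) (.node [54,50,52,46,46] .nil .nil)))))))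

/-- A part. -/
noncomputable def mainWords1_2 : Arr (List ℕ) :=
  (.node [46,58,46,46] mainWords1_0 mainWords1_1)

/-- A part. -/
noncomputable def mainWords1_3 : Arr (List ℕ) :=
  (.node [54,56,53,48] (.node [53,49,49,47] (.node [49,46] (.node [51,51,55,48] (.node [51,55,48,46,46] (.node [51,58,48,48] (.node [56,55,49] (.node [58,53,56,46] .nil .nil) .nil) (.node [53,46,50,47] (.node [51,55,51,46] .nil .nil) .nil)) (.node [46,54,47] (.node [56,46,52,46] (.node [54,53,49,49] .nil .nil) .nil) (.node [53,48,51,46] .nil .nil))) (.node [54,52,56,48] (.node [53,57,51,49] (.node [54,56,51,46,46] (.node [48,54,50,46] .nil .nil) .nil) (.node [57,48,53,47] (.node [47,48,51,46] .nil .nil) .nil)) (.node [46,46,48] (.node [47,57,52,48] (.node [48,50,53,48] .nil .nil) .nil) (.node [54,56,47,48] .nil .nil)))) (.node [48,52,46,49] (.node [46,54,46,48,46] (.node [58,47,51,47] (.node [52,58,46,49] (.node [49,46,51,46,46] .nil .nil) .nil) (.node [46,51,49] (.node [50,46,53,48] .nil .nil) .nil)) (.node [53,55,46,46]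 (.node [58,55,50,49] (.node [48,50,57,49] .nil .nil) .nil) (.node [50,53,48] .nil .nil))) (.node [49,53,46,46] (.node [52,50,52,47] (.node [49,47,48] (.node [47,51,52,46] .nil .nil) .nil) (.node [48,52,52,46] (.node [56,46,49,46,46] .nil .nil) .nil)) (.node [54,47,49,47] (.node [49,53,48,46] (.node [55,50,55,49] .nil .nil) .nil) (.node [47,53,57,47] .nil .nil))))) (.node [58,49,49] (.node [53,49,52,46] (.node [46,55,48] (.node [54,46,50,47] (.node [57,46,49] (.node [53,46,52,48] .nil .nil) .nil) (.node [49,57,49,46] (.node [49,54,48] .nil .nil) .nil)) (.node [55,46,48,46] (.node [52,46,49] (.node [47,50,46,48] .nil .nil) .nil) (.node [52,48,47,53,46] .nil .nil))) (.node [57,57,51,48] (.node [56,54,53,47] (.node [55,52,49,47] (.node [53,50,47] .nil .nil) .nil) (.node [49,57,49,47] (.node [58,47,48] .nil .nil) .nil)) (.node [57,53,57,49] (.node [51,48,50,48] (.node [51,53,46] .nil .nil) .nil) (.node [49,57,54,48] .nil .nil)))) (.node [58,47,49] (.node [53,46,46] (.node [52,54,50,47] (.node [47,47,56,51,46]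 (.node [47,55,56,47] .nil .nil) .nil) (.node [51,49,56,48] (.node [54,51,53,47] .nil .nil) .nil)) (.node [53,53,46,46] (.node [57,50,46] (.node [55,46,51,47] .nil .nil) .nil) (.node [50,46,52,46] .nil .nil))) (.node [56,52,56,46] (.node [54,54,50,49] (.node [54,46,52,48] (.node [50,54,48,46] .nil .nil) .nil) (.node [56,51,46] (.node [53,48,46,48] .nil .nil) .nil)) (.node [58,52,49,47] (.node [47,57,48] (.node [58,48,57,46,46] .nil .nil) .nil) (.node [47,53,53,47] .nil .nil)))))) (.node [56,55,46,49] (.node [48,55,51,46] (.node [50,48,58,48] (.node [57,46,56,47] (.node [57,48,46] (.node [51,56,46,46] (.node [56,51,48,48] .nil .nil) .nil) (.node [46,57,58,47] (.node [58,46,51,47] .nil .nil) .nil)) (.node [50,47] (.node [55,53,53,48] (.node [58,54,52,46] .nil .nil) .nil) (.node [52,54,47,49] .nil .nil))) (.node [57,58,47,49] (.node [46,48,56,46] (.node [58,46,58,46] (.node [57,52,58,46,46] .nil .nil) .nil) (.node [50,48,50,48] (.node [56,56,49,46] .nil .nil) .nil)) (.node [49,55,53,46] (.node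 [52,56,49,46] (.node [58,46,49,46] .nil .nil) .nil) (.node [49,51,53,48] .nil .nil)))) (.node [53,51,47,48] (.node [51,54,57,48] (.node [58,51,49,46] (.node [58,57,47] (.node [52,46,58,49] .nil .nil) .nil) (.node [53,58,53,48] (.node [57,54,53,48] .nil .nil) .nil)) (.node [50,48,47,49] (.node [46,53,50,46,46] (.node [51,49,58,47] .nil .nil) .nil) (.node [46,49,58,47] .nil .nil))) (.node [49,49,58,48] (.node [56,47,57,48] (.node [50,46,48,46] (.node [57,51,52,48] .nil .nil) .nil) (.node [57,49,50,47] (.node [46,46,49,47] .nil .nil) .nil)) (.node [58,46,46] (.node [51,58,46,46] (.node [52,55,57,48] .nil .nil) .nil) (.node [51,46,48,48] .nil .nil))))) (.node [52,56,50,47] (.node [58,46,50,46] (.node [55,58,57,47] (.node [57,53,55,48] (.node [56,56,49] (.node [55,52,57,47] .nil .nil) .nil) (.node [55,48,50,48] (.node [52,55,52,46,46] .nil .nil) .nil)) (.node [51,46,53,46] (.node [47,49,58,46,46] (.node [47,49,57,46] .nil .nil) .nil) (.node [53,54,53,46,46] .nil .nil))) (.node [57,51,48,47] (.node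 [47,55,57,46] (.node [51,54,58,47] (.node [53,55,49] .nil .nil) .nil) (.node [58,46,56,47] (.node [48,50,53,47] .nil .nil) .nil)) (.node [52,47,48,47] (.node [56,55,48,46] (.node [53,51,48] .nil .nil) .nil) (.node [47,52,54,48] .nil .nil)))) (.node [58,50,48,46] (.node [58,51,47,47] (.node [55,49,55,48] (.node [52,56,52,47] (.node [56,58,46,46] .nil .nil) .nil) (.node [58,54,48,48] (.node [57,49,46] .nil .nil) .nil)) (.node [56,53,53,46] (.node [54,57,48] (.node [48,53,46] .nil .nil) .nil) (.node [56,54,58,49] .nil .nil))) (.node [58,55,49] (.node [56,49,47] (.node [55,56,51,46] (.node [53,58,50,46] .nil .nil) .nil) (.node [47,48,50,46] (.node [58,47,54,46] .nil .nil) .nil)) (.node [47,53,47,47] (.node [55,47,53,48] (.node [48,46,49] .nil .nil) .nil) (.node [49,54,53,47] .nil .nil)))))))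

/-- A part. -/
noncomputable def mainWords1_4 : Arr (List ℕ) :=
  (.node [46,56,50,46] (.node [49,54,56,47] (.node [54,54,48] (.node [49,49,50,48] (.node [55,46,55,49] (.node [50,52,51,46] (.node [51,48,46] (.node [56,47,58,47] .nil .nil) .nil) (.node [46,54,54,47] (.node [56,48] .nil .nil) .nil)) (.node [58,46,56,46,46] (.node [51,55,58,48] (.node [56,55,52,47] .nil .nil) .nil) (.node [54,50,46] .nil .nil))) (.node [57,46,56,46] (.node [53,56,51,49] (.node [57,48,50,48,46] (.node [49,49,46,46] .nil .nil) .nil) (.node [49,51,49] (.node [58,52,48,47] .nil .nil) .nil)) (.node [54,51,46,48] (.node [57,46,48,46] (.node [54,53,57,49,46] .nil .nil) .nil) (.node [46,51,48,46] .nil .nil)))) (.node [52,50,58,46] (.node [54,52,48,47] (.node [55,46,46] (.node [47,55,53,46] (.node [54,52,52,46,46] .nil .nil) .nil) (.node [49,46,48,48] (.node [49,50,46,49] .nil .nil) .nil)) (.node [49,51,49,46] (.node [55,48,51,46] (.node [50,48,56,46,46] .nil .nil) .nil) (.node [54,51,46] .nil .nil))) (.node [55,48,48,48]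 (.node [53,49,56,50,46] (.node [56,58,48,47] (.node [55,49,50,56,46] .nil .nil) .nil) (.node [54,58,50,48] (.node [58,52,50,49] .nil .nil) .nil)) (.node [53,58,48,46] (.node [50,50,46,46] (.node [49,49,47,50,46] .nil .nil) .nil) (.node [48,54,46,46] .nil .nil))))) (.node [49,56,51,46] (.node [55,47,52,46] (.node [52,51,48,46] (.node [48,51,49,46] (.node [47,51,54,48] (.node [57,52,48] .nil .nil) .nil) (.node [53,49,46] (.node [48,46,50,46] .nil .nil) .nil)) (.node [54,49,49,47] (.node [47,55,51,47] (.node [58,55,52,48] .nil .nil) .nil) (.node [47,47,53,47] .nil .nil))) (.node [55,50,52,48] (.node [54,50,50,46] (.node [54,51,48] (.node [53,46,52,46] .nil .nil) .nil) (.node [57,49,58,49] (.node [46,54,51,49] .nil .nil) .nil)) (.node [53,48,52,46] (.node [57,47,52,46] (.node [47,52,47,48] .nil .nil) .nil) (.node [58,47,52,46] .nil .nil)))) (.node [48,46,56,50,46] (.node [53,53,53,46,46] (.node [53,47,49] (.node [52,51,47] (.node [57,53,49,46] .nil .nil) .nil) (.node [47,52,46,46] (.node [47,49,47]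 .nil .nil) .nil)) (.node [54,48,55,49] (.node [56,58,46] (.node [49,58,56,46] .nil .nil) .nil) (.node [55,56,52,48] .nil .nil))) (.node [55,49] (.node [54,51,47,47] (.node [52,55,51,49] (.node [46,58,56,46] .nil .nil) .nil) (.node [48,54,52,46] (.node [49,46,50,49,46] .nil .nil) .nil)) (.node [51,46,52,46] (.node [56,50,52,48] (.node [54,52,58,46] .nil .nil) .nil) (.node [50,52,52,46] .nil .nil)))))) (.node [57,48,56,46] (.node [51,53,53,46] (.node [57,48,55,47] (.node [49,46,48,46] (.node [46,57,46,48] (.node [54,51,57,49] (.node [51,46,48] .nil .nil) .nil) (.node [49,47,47,49] (.node [52,46,48] .nil .nil) .nil)) (.node [56,46,46,46] (.node [54,51,48,48] (.node [47,58,46,46] .nil .nil) .nil) (.node [48,50,50,46] .nil .nil))) (.node [50,49,47,56,46] (.node [49,50,48] (.node [58,50,57,47] (.node [56,55,50,48] .nil .nil) .nil) (.node [47,49,54,48] (.node [55,49,49] .nil .nil) .nil)) (.node [57,50,56,48] (.node [50,46,50,49] (.node [51,55,52,46] .nil .nil) .nil) (.node [58,56,47] .nil .nil))))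 (.node [48,47,48,47] (.node [51,47,54,46] (.node [46,48,46,48] (.node [57,51,48,48] (.node [54,54,49,47] .nil .nil) .nil) (.node [54,46,48,46] (.node [52,52,48] .nil .nil) .nil)) (.node [56,55,47,47] (.node [49,55,47,47] (.node [55,52,46,51,46] .nil .nil) .nil) (.node [49,52,52,48] .nil .nil))) (.node [56,46,52,49] (.node [48,54,57,48] (.node [51,46,54,48] (.node [47,55,48] .nil .nil) .nil) (.node [49,50,48,46] (.node [54,58,46,46,46] .nil .nil) .nil)) (.node [55,57,47] (.node [46,53,49,46] (.node [46,52,47] .nil .nil) .nil) (.node [54,56,46] .nil .nil))))) (.node [49,52,49,46] (.node [53,53,49] (.node [52,57,53,49] (.node [54,50,53,46] (.node [46,56,48,48] (.node [55,58,53,48] .nil .nil) .nil) (.node [52,56,52,49,46] (.node [58,46,49] .nil .nil) .nil)) (.node [57,50,46,46] (.node [57,57,48,47] (.node [46,48,53,46] .nil .nil) .nil) (.node [46,46,56,46] .nil .nil))) (.node [46,55,46,46] (.node [56,49,50,46] (.node [51,51,49,46] (.node [58,56,46,49,46] .nil .nil) .nil) (.node [51,48,48,47] (.node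 [49,51,53,49] .nil .nil) .nil)) (.node [50,54,46] (.node [47,53,49,46] (.node [57,55,52,48] .nil .nil) .nil) (.node [50,46,48] .nil .nil)))) (.node [55,58,51,48] (.node [49,51,48,46] (.node [47,50,47] (.node [47,57,46] (.node [55,50,48,47] .nil .nil) .nil) (.node [52,57,48,46,46] (.node [47,55,49,46] .nil .nil) .nil)) (.node [49,47,54,46] (.node [53,46,51,46] (.node [56,56,47,47] .nil .nil) .nil) (.node [47,57,54,48] .nil .nil))) (.node [57,47,57,47] (.node [54,54,47] (.node [51,51,48,46] (.node [56,53,48,46,46] .nil .nil) .nil) (.node [57,57,46] (.node [58,50,58,47] .nil .nil) .nil)) (.node [58,48,58,46] (.node [57,48,51,46] (.node [52,54,48] .nil .nil) .nil) (.node [56,49,56,49] .nil .nil)))))))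

/-- A part. -/
noncomputable def mainWords1_5 : Arr (List ℕ) :=
  (.node [49,49,54,47] mainWords1_3 mainWords1_4)

/-- A part. -/
noncomputable def mainWords1_6 : Arr (List ℕ) :=
  (.node [53,47,47] mainWords1_2 mainWords1_5)

/-- A part. -/
noncomputable def mainWords1_7 : Arr (List ℕ) :=
  (.node [57,49,47,47] (.node [49,46,46,46] (.node [48,50,47,47] (.node [58,46,53,46] (.node [56,50,56,49] (.node [49,54,53,46] (.node [52,54,51,46,46] (.node [54,54,47,48] .nil .nil) .nil) (.node [48,55,57,46] (.node [54,50,50,46,46] .nil .nil) .nil)) (.node [52,50,56,46] (.node [58,51,49,49] (.node [46,56,46,48] .nil .nil) .nil) (.node [49,53,49] .nil .nil))) (.node [54,50,49] (.node [54,57,47] (.node [51,49,56,46] (.node [46,48,51,46] .nil .nil) .nil) (.node [46,55,47] (.node [56,51,53,49] .nil .nil) .nil)) (.node [54,54,46,46] (.node [56,47,51,46] (.node [57,55,47] .nil .nil) .nil) (.node [52,58,47,49] .nil .nil)))) (.node [46,53,46,46] (.node [46,49,52,46] (.node [58,48,46] (.node [48,47,55,47] (.node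 [47,57,47,48] .nil .nil) .nil) (.node [48,53,49,46] (.node [56,47,48,46] .nil .nil) .nil)) (.node [56,52,51,49] (.node [50,47,48,48] (.node [58,49,52,46,46] .nil .nil) .nil) (.node [53,53,48,48] .nil .nil))) (.node [57,54,53,46,46] (.node [47,47,51,49] (.node [56,47,47] (.node [47,51,48,46] .nil .nil) .nil) (.node [52,51,49] (.node [51,56,48,47] .nil .nil) .nil)) (.node [50,48,47] (.node [47,50,56,46] (.node [54,53,50,48] .nil .nil) .nil) (.node [58,56,52,48] .nil .nil))))) (.node [54,48,48] (.node [52,52,47] (.node [54,49,53,46] (.node [52,47,50,46] (.node [56,46,55,47] (.node [58,49,56,49] .nil .nil) .nil) (.node [57,50,57,47] (.node [46,46,51,47] .nil .nil) .nil)) (.node [56,58,47,48] (.node [58,48,54,46] (.node [56,46,50,47] .nil .nil) .nil) (.node [56,50,49] .nil .nil))) (.node [58,49,51,46,46] (.node [47,51,49] (.node [53,53,50,46] (.node [46,55,51,46] .nil .nil) .nil) (.node [56,47,48,47] (.node [56,51,47] .nil .nil) .nil)) (.node [55,57,47,48] (.node [50,52,47,50,46] (.node [51,51,47,47]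 .nil .nil) .nil) (.node [55,50,47] .nil .nil)))) (.node [51,55,48,48] (.node [46,50,46,46] (.node [52,48,46,46] (.node [47,57,49,49] (.node [56,58,54,47] .nil .nil) .nil) (.node [51,49,47] (.node [48,56,54,47] .nil .nil) .nil)) (.node [50,55,48,46] (.node [58,52,52,46,46] (.node [54,48,47,49] .nil .nil) .nil) (.node [49,52,55,47] .nil .nil))) (.node [49,46,49,47] (.node [58,53,48,47] (.node [50,56,49,47] (.node [56,47,58,46] .nil .nil) .nil) (.node [49,54,57,47] (.node [53,49,46,49,46] .nil .nil) .nil)) (.node [46,51,51,46] (.node [49,56,47] (.node [47,58,46,46,46] .nil .nil) .nil) (.node [51,57,49] .nil .nil)))))) (.node [50,57,54,48] (.node [48,50,53,46] (.node [47,53,56,47] (.node [52,47] (.node [50,54,46,46] (.node [53,47,49,46] (.node [47,53,48,47] .nil .nil) .nil) (.node [56,46,46] (.node [58,46,48,46,46] .nil .nil) .nil)) (.node [58,56,58,48] (.node [46,50,47,47] (.node [56,52,49,46] .nil .nil) .nil) (.node [52,52,55,47] .nil .nil))) (.node [51,55,58,46] (.node [52,50,57,48,46] (.node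 [48,47,48] (.node [54,47,57,47] .nil .nil) .nil) (.node [47,56,51,47] (.node [54,57,47,49] .nil .nil) .nil)) (.node [56,49,46,46] (.node [52,54,47,48] (.node [54,50,48,48] .nil .nil) .nil) (.node [55,46,54,50,46] .nil .nil)))) (.node [57,52,48,48,46] (.node [52,54,49,46] (.node [58,56,53,48] (.node [56,54,47,49] (.node [46,56,55,46,46] .nil .nil) .nil) (.node [56,58,55,49] (.node [52,46,58,46] .nil .nil) .nil)) (.node [50,54,52,46] (.node [56,46,56,46] (.node [49,53,48] .nil .nil) .nil) (.node [47,52,46] .nil .nil))) (.node [55,52,49] (.node [53,54,46,46] (.node [57,53,56,46] (.node [50,58,50,48] .nil .nil) .nil) (.node [52,50,47] (.node [54,54,48,47] .nil .nil) .nil)) (.node [49,55,46,46] (.node [55,50,53,48] (.node [46,46,54,49,46] .nil .nil) .nil) (.node [55,52,50,49] .nil .nil))))) (.node [56,54,49,46] (.node [52,58,46,46] (.node [46,48,55,47] (.node [53,56,53,46] (.node [51,53,49] (.node [56,58,54,46] .nil .nil) .nil) (.node [53,54,51,46] (.node [52,55,46,46] .nil .nil) .nil)) (.node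 [58,48,56,48,46] (.node [57,46,52,48] (.node [53,58,56,46] .nil .nil) .nil) (.node [56,47,48] .nil .nil))) (.node [56,53,48,48] (.node [54,58,46,49,46] (.node [49,55,50,46] (.node [55,48,52,48] .nil .nil) .nil) (.node [51,53,48] (.node [50,48,48] .nil .nil) .nil)) (.node [54,47,47] (.node [51,57,58,48] (.node [56,50,48,47] .nil .nil) .nil) (.node [52,46,50,47] .nil .nil)))) (.node [47,57,49,47] (.node [53,46,49,49] (.node [51,46,54,47] (.node [50,56,58,46,46] (.node [51,51,57,46] .nil .nil) .nil) (.node [50,46,46] (.node [55,58,46] .nil .nil) .nil)) (.node [49,57,46,46] (.node [48,54,52,49] (.node [49,46,52,49] .nil .nil) .nil) (.node [48,55,48,47] .nil .nil))) (.node [48,46,54,47] (.node [49,49,55,48] (.node [50,53,46] (.node [52,54,46] .nil .nil) .nil) (.node [55,53,47] (.node [46,46,49] .nil .nil) .nil)) (.node [58,53,49] (.node [56,52,48,47] (.node [58,55,46,49] .nil .nil) .nil) (.node [49,46,49,49] .nil .nil)))))))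

/-- A part. -/
noncomputable def mainWords1_8 : Arr (List ℕ) :=
  (.node [51,54,50,46] (.node [53,49,54,48,46] (.node [49,54,51,46] (.node [53,46,49] (.node [54,50,46,46] (.node [52,54,47] (.node [51,52,54,48] (.node [50,48,51,46] .nil .nil) .nil) (.node [48,58,46,50,46] (.node [53,58,50,49] .nil .nil) .nil)) (.node [49,58,46] (.node [46,54,56,46] (.node [48,46,50,47] .nil .nil) .nil) (.node [48,48,48,46] .nil .nil))) (.node [54,57,51,47] (.node [50,52,58,46] (.node [58,54,48,46] (.node [55,46,49] .nil .nil) .nil) (.node [54,56,58,48] (.node [53,46,57,48] .nil .nil) .nil)) (.node [49,50,46] (.node [55,58,47] (.node [56,54,51,46] .nil .nil) .nil) (.node [57,57,48,46] .nil .nil)))) (.node [56,52,47] (.node [50,57,47,47] (.node [51,57,48,47] (.node [58,54,54,47] (.node [48,54,50,47] .nil .nil) .nil) (.node [52,54,52,48] (.node [51,53,47,47] .nil .nil) .nil)) (.node [47,52,58,46] (.node [49,47,56,48] (.node [52,57,46] .nil .nil) .nil) (.node [52,49,56,48] .nil .nil))) (.node [47,54,46,46] (.node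 [51,52,50,46] (.node [52,46,52,46] (.node [52,56,49,47] .nil .nil) .nil) (.node [46,56,46] (.node [49,56,49,47] .nil .nil) .nil)) (.node [48,53,50,46] (.node [46,55,49,46] (.node [50,47,50,48] .nil .nil) .nil) (.node [48,50,48,46] .nil .nil))))) (.node [55,47,48,46] (.node [57,51,46] (.node [48,52,48] (.node [50,54,46,49] (.node [46,56,56,46] (.node [48,57,51,46] .nil .nil) .nil) (.node [46,49,56,47] (.node [49,53,50,46] .nil .nil) .nil)) (.node [54,58,57,48] (.node [54,54,57,48] (.node [46,56,49] .nil .nil) .nil) (.node [53,46,49,46] .nil .nil))) (.node [46,58,48,46] (.node [54,46,58,48] (.node [46,52,46,48] (.node [57,55,53,48] .nil .nil) .nil) (.node [46,52,58,46] (.node [56,58,53,49] .nil .nil) .nil)) (.node [54,46,48] (.node [58,52,46,46] (.node [57,57,51,49] .nil .nil) .nil) (.node [58,50,48] .nil .nil)))) (.node [55,56,54,46] (.node [47,48,56,47] (.node [58,56,53,47] (.node [56,56,46,46] (.node [47,52,51,47] .nil .nil) .nil) (.node [54,52,49,46] (.node [52,52,46] .nil .nil) .nil)) (.node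 [49,54,56,48] (.node [52,52,46,46] (.node [49,58,57,46] .nil .nil) .nil) (.node [57,48,46,49] .nil .nil))) (.node [53,50,46] (.node [47,53,57,49] (.node [52,57,48] (.node [48,47,49,46] .nil .nil) .nil) (.node [56,52,51,46] (.node [49,55,49,47] .nil .nil) .nil)) (.node [58,51,53,48] (.node [54,48,53,47] (.node [54,57,49,46] .nil .nil) .nil) (.node [49,54,57,49] .nil .nil)))))) (.node [57,52,49,47] (.node [55,47,52,47] (.node [57,50,49] (.node [55,51,53,48] (.node [50,49,54,47] (.node [54,47,51,46] (.node [53,54,49,47] .nil .nil) .nil) (.node [52,48,51,46] (.node [56,52,58,48] .nil .nil) .nil)) (.node [56,53,48] (.node [47,52,49,47] (.node [58,51,53,46] .nil .nil) .nil) (.node [52,49,46] .nil .nil))) (.node [48,58,56,47] (.node [53,47,58,46] (.node [48] (.node [47,52,52,46] .nil .nil) .nil) (.node [57,46,53,46] (.node [58,49,54,48] .nil .nil) .nil)) (.node [57,50,47] (.node [50,46,58,47] (.node [53,55,47,47] .nil .nil) .nil) (.node [48,51,57,47] .nil .nil)))) (.node [48,52,48,47] (.node [57,49,54,47]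 (.node [52,48,48,46] (.node [58,56,49,47] (.node [47,50,57,49] .nil .nil) .nil) (.node [47,49,47,47] (.node [49,55,49,46] .nil .nil) .nil)) (.node [47,53,50,56,46] (.node [51,55,48,46] (.node [48,57,46,46] .nil .nil) .nil) (.node [47,52,51,48] .nil .nil))) (.node [49,56,46] (.node [51,55,51,48] (.node [53,50,49,49] (.node [55,57,47,47] .nil .nil) .nil) (.node [56,47,53,48] (.node [52,52,54,46] .nil .nil) .nil)) (.node [50,58,49] (.node [48,54,46,48] (.node [52,50,47,47] .nil .nil) .nil) (.node [46,54,50,46,46] .nil .nil))))) (.node [56,53,46,46] (.node [52,55,48,46] (.node [50,46,51,46,46] (.node [49,52,54,46] (.node [50,57,57,48] (.node [46,48,57,46,46] .nil .nil) .nil) (.node [48,51,53,46] (.node [58,47,56,46] .nil .nil) .nil)) (.node [52,50,50,46] (.node [47,57,47,47] (.node [52,56,53,48] .nil .nil) .nil) (.node [48,57,52,47] .nil .nil))) (.node [46,54,49,46] (.node [46,50,55,48,46] (.node [47,53,53,46] (.node [49,52,46,48] .nil .nil) .nil) (.node [48,46,48,47] (.node [52,48,53,46] .nil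 .nil) .nil)) (.node [53,55,48] (.node [49,47,51,47] (.node [52,57,49,47] .nil .nil) .nil) (.node [56,48,54,47] .nil .nil)))) (.node [48,46,56,46] (.node [55,51,46,48] (.node [47,52,51,46,46] (.node [47,54,49,46] (.node [49,52,46,46] .nil .nil) .nil) (.node [52,55,50,48] (.node [49,47,54,47] .nil .nil) .nil)) (.node [54,46,56,46] (.node [46,55,52,49] (.node [50,49,46,48] .nil .nil) .nil) (.node [57,47,51,48] .nil .nil))) (.node [53,46,50,46] (.node [48,53,48,46] (.node [47,49] (.node [48,55,58,46] .nil .nil) .nil) (.node [54,47,48,46,46] (.node [48,46,46,48] .nil .nil) .nil)) (.node [52,57,48,47] (.node [56,47,53,47] (.node [53,49,47] .nil .nil) .nil) (.node [46,49,47] .nil .nil)))))))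

/-- A part. -/
noncomputable def mainWords1_9 : Arr (List ℕ) :=
  (.node [52,56,49] mainWords1_7 mainWords1_8)

/-- A part. -/
noncomputable def mainWords1_10 : Arr (List ℕ) :=
  (.node [55,50,58,46] (.node [53,55,53,48] (.node [58,46,52,49] (.node [57,54,51,48] (.node [55,46,56,49] (.node [57,58,47,49,46] (.node [51,52,46] (.node [46,58,48,47] .nil .nil) .nil) (.node [49,51,54,46] (.node [54,52,48] .nil .nil) .nil)) (.node [48,55,46,46] (.node [48,52,47,47] (.node [56,49,57,46] .nil .nil) .nil) (.node [50,53,47,49] .nil .nil))) (.node [50,58,48] (.node [58,57,51,46] (.node [53,58,48,48] (.node [57,50,54,48] .nil .nil) .nil) (.node [52,58,57,49] (.node [50,52,48] .nil .nil) .nil)) (.node [49,49,50,46] (.node [54,57,48,47] (.node [56,51,56,47] .nil .nil) .nil) (.node [58,47,47] .nil .nil)))) (.node [54,48,58,46,46] (.node [56,51,54,48] (.node [47,55,53,47] (.node [46,46,52,48] (.node [46,57,51,48] .nil .nil) .nil) (.node [58,52,47] (.node [46,54,52,46] .nil .nil) .nil)) (.node [50,52,57,48]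 (.node [52,57,53,46] (.node [56,47,50,47] .nil .nil) .nil) (.node [56,48,47] .nil .nil))) (.node [54,58,51,48] (.node [54,52,52,47] (.node [48,55,51,48] (.node [52,50,47,49] .nil .nil) .nil) (.node [52,49,51,48] (.node [47,48,52,46] .nil .nil) .nil)) (.node [56,47,51,47] (.node [56,46,48] (.node [52,57,51,46] .nil .nil) .nil) (.node [54,54,51,47] .nil .nil))))) (.node [56,52,58,46,46] (.node [58,53,48] (.node [49,50,47,48] (.node [52,55,49,46] (.node [47,50,53,47] (.node [57,50,48] .nil .nil) .nil) (.node [53,47,51,47] (.node [53,55,52,48] .nil .nil) .nil)) (.node [58,53,49,46] (.node [48,55,57,48] (.node [51,53,49,49] .nil .nil) .nil) (.node [49,50,47,47] .nil .nil))) (.node [53,47,53,47] (.node [52,50,53,46] (.node [53,47,52,46] (.node [53,54,58,49] .nil .nil) .nil) (.node [46,54,48] (.node [51,56,48] .nil .nil) .nil)) (.node [48,52,46,46] (.node [55,46,54,49,46] (.node [56,48,48] .nil .nil) .nil) (.node [48,47,55,48] .nil .nil)))) (.node [47,51,46,46] (.node [47,56,49,46,46] (.node [56,47,56,46]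 (.node [47,56,54,48] (.node [51,47,51,47] .nil .nil) .nil) (.node [49,49] (.node [48,58,51,47] .nil .nil) .nil)) (.node [52,51,47,47] (.node [58,54,57,48] (.node [56,56,58,46,46] .nil .nil) .nil) (.node [58,57,55,47] .nil .nil))) (.node [55,48,48] (.node [56,53,51,48] (.node [51,54,47] (.node [53,51,58,46,46] .nil .nil) .nil) (.node [51,54,47,51,47] (.node [51,48,55,46,46] .nil .nil) .nil)) (.node [50,56,48,48] (.node [46,54,57,47] (.node [50,47,51,49] .nil .nil) .nil) (.node [53,46,55,47] .nil .nil)))))) (.node [47,48,57,46] (.node [53,48,46] (.node [56,49,54,47] (.node [58,56,46] (.node [51,57,47,47] (.node [51,58,57,49] (.node [58,50,48,48] .nil .nil) .nil) (.node [51,46] (.node [48,51,55,48] .nil .nil) .nil)) (.node [58,55,57,48] (.node [49,54,52,46] (.node [53,58,47] .nil .nil) .nil) (.node [50,47,58,46] .nil .nil))) (.node [47,53,50,49] (.node [57,57,46,46] (.node [54,50,47,48] (.node [54,52,48,48] .nil .nil) .nil) (.node [51,49,49] (.node [57,46,55,47] .nil .nil) .nil)) (.node [52,46,50,46,46]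 (.node [56,49,56,46] (.node [50,56,50,46] .nil .nil) .nil) (.node [54,46,46,46] .nil .nil)))) (.node [48,54,51,47] (.node [51,57,50,46] (.node [58,46,57,47] (.node [51,54,46] (.node [58,46,46,49] .nil .nil) .nil) (.node [52,47,49,46] (.node [50,53,47,47] .nil .nil) .nil)) (.node [50,49,47,49] (.node [54,53,54,47] (.node [51,58,53,47] .nil .nil) .nil) (.node [52,52,52,46] .nil .nil))) (.node [47,49,58,46] (.node [53,47,58,47] (.node [50,46,46,48] (.node [49,50,56,46] .nil .nil) .nil) (.node [46,55,51,46,46] (.node [48,52,57,47] .nil .nil) .nil)) (.node [52,50,48,48] (.node [49,53,49,46] (.node [47,51,46,48] .nil .nil) .nil) (.node [57,47,56,51,46] .nil .nil))))) (.node [58,47,52,46,46] (.node [54,58,48,47] (.node [52,49,46,46] (.node [48,58,52,47] (.node [46,55,56,46] (.node [58,47,53,47] .nil .nil) .nil) (.node [50,57,48,47] (.node [49,56,51,48,46] .nil .nil) .nil)) (.node [55,49,53,48] (.node [51,51,53,49] (.node [46,51,47] .nil .nil) .nil) (.node [50,56,58,48] .nil .nil))) (.node [58,48,51,46]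 (.node [57,48,48,48] (.node [57,58,47,48] (.node [56,56,48] .nil .nil) .nil) (.node [49,55,47] (.node [46,49,46] .nil .nil) .nil)) (.node [57,55,49] (.node [48,51,47] (.node [49,47,52,46] .nil .nil) .nil) (.node [51,54,52,48] .nil .nil)))) (.node [55,48,52,46] (.node [57,46,48] (.node [47,57,46,46] (.node [58,56,51,46] (.node [48,48,52,48] .nil .nil) .nil) (.node [53,54,57,46] (.node [51,58,47,49] .nil .nil) .nil)) (.node [54,53,47,49] (.node [57,47,50,46] (.node [53,53,46,48,47] .nil .nil) .nil) (.node [48,54,57,47] .nil .nil))) (.node [57,51,48,46] (.node [49,57,53,49] (.node [48,54,53,48] (.node [52,54,49,47] .nil .nil) .nil) (.node [51,53,49,46] (.node [48,58,47,48] .nil .nil) .nil)) (.node [57,46,49,46] (.node [51,47,57,46] (.node [55,56,46] .nil .nil) .nil) (.node [52,50,47,48] .nil .nil)))))))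

/-- A part. -/
noncomputable def mainWords1_11 : Arr (List ℕ) :=
  (.node [56,49,53,49] (.node [49,53,57,46] (.node [54,58,54,46] (.node [57,58,50,49] (.node [50,53,48,46] (.node [55,53,51,47] (.node [57,57,57,48] (.node [55,56,46,48] .nil .nil) .nil) (.node [55,46,49,46] (.node [50,49,47,47] .nil .nil) .nil)) (.node [51,48,48,46] (.node [57,58,46,49] (.node [50,53,58,47] .nil .nil) .nil) (.node [48,50,49] .nil .nil))) (.node [57,50,48,46] (.node [50,50,55,47] (.node [58,46,46,46] (.node [51,51,46,46] .nil .nil) .nil) (.node [52,50,52,48] (.node [56,58,56,47] .nil .nil) .nil)) (.node [54,48,54,50,46] (.node [56,58,49] (.node [48,51,54,48] .nil .nil) .nil) (.node [49,47,51,46] .nil .nil)))) (.node [51,52,57,49] (.node [53,53,54,46] (.node [57,49] (.node [49,49,51,48] (.node [54,46,49,47] .nil .nil) .nil) (.node [50,50,49,47] (.node [57,52,55,48] .nil .nil) .nil)) (.node [53,50,52,46,46] (.node [51,57,47] (.node [46,55,52,47] .nil .nil) .nil) (.node [48,51,48,48] .nil .nil))) (.node [56,46,58,46]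 (.node [48,57,58,46] (.node [57,51,47] (.node [48,47,48,46] .nil .nil) .nil) (.node [56,53,47,47] (.node [54,48,53,48] .nil .nil) .nil)) (.node [58,46,50,46,46] (.node [55,47,47] (.node [49,50,53,46] .nil .nil) .nil) (.node [48,53,54,46] .nil .nil))))) (.node [56,52,46,46] (.node [50,53,48,47] (.node [54,48,46,46] (.node [55,57,48,47] (.node [46,57,48,47] (.node [50,47,47] .nil .nil) .nil) (.node [47,56,50,46] (.node [53,49,57,47] .nil .nil) .nil)) (.node [46,49,49] (.node [52,49,49,47] (.node [54,54,52,46] .nil .nil) .nil) (.node [51,51,46] .nil .nil))) (.node [46,49,50,48] (.node [54,54,51,46] (.node [50,53,49,47] (.node [50,53,50,49] .nil .nil) .nil) (.node [46,56,49,46] (.node [48,55,49,46] .nil .nil) .nil)) (.node [58,48,46,46] (.node [55,56,50,48] (.node [57,46,50,46] .nil .nil) .nil) (.node [53,58,55,48] .nil .nil)))) (.node [51,51,48,47] (.node [47,48,56,46] (.node [55,50,48] (.node [51,51,51,46] (.node [54,57,47,47] .nil .nil) .nil) (.node [46] (.node [54,50,47] .nil .nil) .nil))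 (.node [53,50,54,46] (.node [56,56,58,48] (.node [46,54,52,48] .nil .nil) .nil) (.node [50,47,52,46] .nil .nil))) (.node [50,50,46] (.node [48,57,51,48] (.node [49,57,51,46] (.node [55,47,48] .nil .nil) .nil) (.node [55,48,46] (.node [48,55,53,46] .nil .nil) .nil)) (.node [52,51,48] (.node [52,54,48,48] (.node [56,49,55,46,46] .nil .nil) .nil) (.node [57,48,54,47] .nil .nil)))))) (.node [56,58,52,48] (.node [54,48,54,46] (.node [51,54,54,48] (.node [49,55,56,47] (.node [49,47,54,48] (.node [57,51,58,46] (.node [58,50,56,46] .nil .nil) .nil) (.node [48,54,49,46] (.node [53,56,46,46] .nil .nil) .nil)) (.node [49,52,57,46] (.node [56,51,46,48] (.node [54,46,51,46] .nil .nil) .nil) (.node [54,53,48] .nil .nil))) (.node [55,52,56,48] (.node [48,48,54,48] (.node [54,47,50,47] (.node [51,52,48] .nil .nil) .nil) (.node [53,49,56,46] (.node [56,47,53,46] .nil .nil) .nil)) (.node [54,56,49,47] (.node [46,54,46,49] (.node [58,51,47] .nil .nil) .nil) (.node [55,51,53,46] .nil .nil)))) (.node [46,58,46]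 (.node [46,51,47,48] (.node [55,57,48,46] (.node [52,58,48] (.node [54,54,46,49] .nil .nil) .nil) (.node [53,53,53,46] (.node [54,50,48,47] .nil .nil) .nil)) (.node [55,57,50,48] (.node [56,56,50,46] (.node [50,47,56,46] .nil .nil) .nil) (.node [58,48,47] .nil .nil))) (.node [50,49,51,47] (.node [54,48,58,49] (.node [48,50,58,47] (.node [47,52,48,47] .nil .nil) .nil) (.node [49,57,51,48,46] (.node [46,55,58,46] .nil .nil) .nil)) (.node [47,52,47,50,46] (.node [58,49] (.node [55,48,54,47] .nil .nil) .nil) (.node [57,46,51,52,46] .nil .nil))))) (.node [58,49,49,47] (.node [47,55,49,47] (.node [52,49] (.node [52,58,55,49] (.node [48,57,58,47] (.node [51,56,53,48] .nil .nil) .nil) (.node [50,49,46] (.node [54,46,55,47] .nil .nil) .nil)) (.node [57,58,46] (.node [51,53,55,49] (.node [55,48,46,49] .nil .nil) .nil) (.node [47,58,56,48] .nil .nil))) (.node [58,57,51,48] (.node [58,47,51,46] (.node [47,54,47,47] (.node [52,55,51,46,46] .nil .nil) .nil) (.node [46,52,52,46,46] (.node [49,55,56,46] .nil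 .nil) .nil)) (.node [58,46,56,46] (.node [56,56,52,46] (.node [51,53,54,47] .nil .nil) .nil) (.node [46,57,46,46] .nil .nil)))) (.node [55,46,57,48] (.node [47,54,57,47] (.node [57,53,48,46,46] (.node [47,57,58,46] (.node [52,51,54,46] .nil .nil) .nil) (.node [58,48,50,46] (.node [56,53,56,46] .nil .nil) .nil)) (.node [53,54,48,46,46] (.node [57,48,48,46] (.node [53,47,47,48,46] .nil .nil) .nil) (.node [49,52,58,46] .nil .nil))) (.node [51,47,48,46] (.node [57,57,47,49] (.node [51,47,52,47] (.node [55,58,47,48] .nil .nil) .nil) (.node [51,57,57,48] (.node [58,54,51,47] .nil .nil) .nil)) (.node [55,48] (.node [51,55,48] (.node [55,53,50,49] .nil .nil) .nil) (.node [53,58,47,48,46] .nil .nil)))))))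

/-- A part. -/
noncomputable def mainWords1_12 : Arr (List ℕ) :=
  (.node [56,53,47] mainWords1_10 mainWords1_11)

/-- A part. -/
noncomputable def mainWords1_13 : Arr (List ℕ) :=
  (.node [47,49,51,49] mainWords1_9 mainWords1_12)

/-- A part. -/
noncomputable def mainWords1_14 : Arr (List ℕ) :=
  (.node [55,47] mainWords1_6 mainWords1_13)

/-- A part. -/
noncomputable def mainWords1_15 : Arr (List ℕ) :=
  (.node [50,50,56,46] (.node [46,54,49,47] (.node [58,54,48] (.node [48,51,48,46,46] (.node [55,57,50,47] (.node [51,54,52,46] (.node [52,58,57,46] (.node [46,51,46,46] .nil .nil) .nil) (.node [53,51,46] (.node [51,56,50,46] .nil .nil) .nil)) (.node [54,54,58,47] (.node [52,58,50,48] (.node [55,47,51,47] .nil .nil) .nil) (.node [51,49,47,47] .nil .nil))) (.node [56,50,47] (.node [53,53,49,46] (.node [55,47,48,47] (.node [48,48,51,48] .nil .nil) .nil) (.node [47,48,57,47] (.node [46,51,48] .nil .nil) .nil)) (.node [50,52,47] (.node [51,51,53,46] (.node [54,53,48,46] .nil .nil) .nil) (.node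 [50,56,46] .nil .nil)))) (.node [53,46] (.node [53,51,47,47] (.node [52,50,50,46,46] (.node [57,51,46,48] (.node [50,46,51,47] .nil .nil) .nil) (.node [46,50,48] (.node [49,56,53,47] .nil .nil) .nil)) (.node [56,54,57,46] (.node [55,46,57,49] (.node [48,55,49,47] .nil .nil) .nil) (.node [58,49,53,49] .nil .nil))) (.node [55,50,53,49] (.node [47,54,52,50,46] (.node [54,51,56,46] (.node [57,53,50,49] .nil .nil) .nil) (.node [48,58,46,46] (.node [49,52,58,48] .nil .nil) .nil)) (.node [50,54,53,48] (.node [56,50,54,46] (.node [51,46,48,47] .nil .nil) .nil) (.node [47,51,54,46] .nil .nil))))) (.node [58,56,54,46] (.node [52,52,48,53,46] (.node [56,50,48,46] (.node [46,49,53,47] (.node [51,57,48] (.node [55,49,53,54,46] .nil .nil) .nil) (.node [49,53,50,48] (.node [53,53,56,48] .nil .nil) .nil)) (.node [58,52,56,46] (.node [57,51,48] (.node [56,53,49,47] .nil .nil) .nil) (.node [53,46,48,47] .nil .nil))) (.node [48,54,48,48] (.node [48,53,48,47] (.node [47,58,46] (.node [53,56,58,46] .nil .nil)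 .nil) (.node [58,55,48] (.node [47,51,48] .nil .nil) .nil)) (.node [57,53,53,46] (.node [51,53,47] (.node [52,52,57,46] .nil .nil) .nil) (.node [55,51,49,46] .nil .nil)))) (.node [48,53,54,46,46] (.node [54,52,47,48] (.node [58,53,56,48] (.node [49,55,48] (.node [46,53,47] .nil .nil) .nil) (.node [48,57,54,48] (.node [52,48,50,47] .nil .nil) .nil)) (.node [52,47,56,48] (.node [51,56,52,47] (.node [48,47,53,46] .nil .nil) .nil) (.node [46,50,54,48] .nil .nil))) (.node [46,50,49,46] (.node [56,51,51,49] (.node [48,52,51,48] (.node [57,53,47] .nil .nil) .nil) (.node [56,46,57,47] (.node [57,48,50,47] .nil .nil) .nil)) (.node [46,49,53,46] (.node [51,51,48,48] (.node [46,49,52,49] .nil .nil) .nil) (.node [48,46,53,48] .nil .nil)))))) (.node [48,50,48] (.node [54,47,48,47] (.node [48,55,51,49] (.node [52,47,52,46] (.node [58,57,52,46,46] (.node [57,50,55,48] (.node [46,52,48] .nil .nil) .nil) (.node [55,50,50,46] (.node [46,56,50,48] .nil .nil) .nil)) (.node [58,57,49] (.node [51,46,49] (.node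 [49,46,49] .nil .nil) .nil) (.node [46,49,46,49] .nil .nil))) (.node [49,47,49] (.node [53,48] (.node [52,55,53,46,46] (.node [53,50,57,46] .nil .nil) .nil) (.node [50,53,49] (.node [53,54,46] .nil .nil) .nil)) (.node [47,57,47] (.node [48,52,47] (.node [48,47,49,46,46] .nil .nil) .nil) (.node [49,50,58,47] .nil .nil)))) (.node [54,48,58,46] (.node [46,48,48,47] (.node [53,53,57,47] (.node [49,46,58,46] (.node [46,50,50,46] .nil .nil) .nil) (.node [48,54,46,46,46] (.node [58,52,56,48] .nil .nil) .nil)) (.node [47,51,47,49] (.node [51,54,53,47] (.node [49,55,48,47] .nil .nil) .nil) (.node [47,57,49,46] .nil .nil))) (.node [47,52,51,46] (.node [47,47,49] (.node [47,55,51,46] (.node [49,58,53,49] .nil .nil) .nil) (.node [52,51,49,46] (.node [55,53,48] .nil .nil) .nil)) (.node [54,48,47] (.node [56,46,56,46,46] (.node [47,47,53,46] .nil .nil) .nil) (.node [50,46,49,52,46] .nil .nil))))) (.node [52,52,47,48] (.node [48,55,58,47] (.node [49,51,51,46] (.node [52,54,49,46,46] (.node [48,58,48,48]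 (.node [57,47,54,46] .nil .nil) .nil) (.node [47,49,50,49,46] (.node [49,55,46,49] .nil .nil) .nil)) (.node [58,49,57,49,46] (.node [50,56,56,48] (.node [56,47,50,46] .nil .nil) .nil) (.node [51,53,57,47] .nil .nil))) (.node [49,56,48,46] (.node [56,46,50,46] (.node [50,56,48,47] (.node [56,56,48,47] .nil .nil) .nil) (.node [57,58,48] (.node [47,52,48,46,46] .nil .nil) .nil)) (.node [50,54,50,46] (.node [54,46,48,47] (.node [54,48,47,48,46] .nil .nil) .nil) (.node [49,47] .nil .nil)))) (.node [58,50,53,46] (.node [46,56,48,46] (.node [50,50,46,48] (.node [55,51,57,46] (.node [56,51,46,46] .nil .nil) .nil) (.node [49,49,56,46] (.node [50,47,54,48] .nil .nil) .nil)) (.node [52,48,52,47] (.node [46,49,57,46] (.node [55,48,48,47] .nil .nil) .nil) (.node [48,53,48] .nil .nil))) (.node [57,47,48,47] (.node [49,47,53,46] (.node [55,57,48,46,46] (.node [58,49,53,46] .nil .nil) .nil) (.node [50,54,49,46] (.node [58,55,50,46] .nil .nil) .nil)) (.node [56,49,52,46] (.node [49,57,58,47] (.node [46,46,52,46]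 .nil .nil) .nil) (.node [53,47,50,48] .nil .nil)))))))

/-- A part. -/
noncomputable def mainWords1_16 : Arr (List ℕ) :=
  (.node [51,57,53,46] (.node [46,51,55,48] (.node [46,58,50,47] (.node [53,47,48,47] (.node [55,57,53,47] (.node [58,53,48,48] (.node [48,46,57,46] (.node [46,52,50,47] .nil .nil) .nil) (.node [55,58,46,49,46] (.node [48,52,52,51,46] .nil .nil) .nil)) (.node [52,47,58,47] (.node [56,56,52,48] (.node [48,53,49,47] .nil .nil) .nil) (.node [52,57,48,46] .nil .nil))) (.node [52,54,50,49] (.node [53,55,49,49] (.node [56,53,51,47] (.node [57,57,48] .nil .nil) .nil) (.node [54,47,49,46] (.node [49,47,50,46] .nil .nil) .nil)) (.node [58,51,52,46] (.node [56,48,46,46] (.node [48,54,51,46] .nil .nil) .nil) (.node [51,58,51,47] .nil .nil)))) (.node [48,56,46] (.node [52,52,49,46] (.node [47,49,46] (.node [57,47,48] (.node [53,55,47,48] .nil .nil) .nil) (.node [50,56,46,48] (.node [55,48,50,47] .nil .nil) .nil)) (.node [46,52,54,46] (.node [48,52,49,46] (.node [49,54,50,46] .nil .nil)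 .nil) (.node [49,56,46,46] .nil .nil))) (.node [52,47,56,46] (.node [58,47,52,47] (.node [53,50,48] (.node [49,54,58,46] .nil .nil) .nil) (.node [50,57,55,47] (.node [47,54,48,47] .nil .nil) .nil)) (.node [49,55,58,46] (.node [49,51,54,47] (.node [56,51,49] .nil .nil) .nil) (.node [56,49,51,48] .nil .nil))))) (.node [48,58,55,46,46] (.node [48,48,53,46] (.node [51,55,53,46] (.node [58,56,50,48] (.node [47,53,46,46] (.node [48,53,47,48] .nil .nil) .nil) (.node [58,46,49,49] (.node [47,51,47,48] .nil .nil) .nil)) (.node [55,50,48,46] (.node [46,49,54,48,46] (.node [56,51,48,50,46] .nil .nil) .nil) (.node [55,53,49] .nil .nil))) (.node [49,50,46,48,46] (.node [46,57,48,46,46] (.node [57,47,56,47] (.node [52,48,54,47] .nil .nil) .nil) (.node [53,49,54,47] (.node [53,48,57,46] .nil .nil) .nil)) (.node [49,47,47,48] (.node [56,56,51,46] (.node [55,46,51,46] .nil .nil) .nil) (.node [54,49,47,47] .nil .nil)))) (.node [47,54,52,46] (.node [50,46] (.node [53,49,49] (.node [53,54,53,46] (.node [54,50,53,47]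 .nil .nil) .nil) (.node [47,53,53,49] (.node [48,55,49] .nil .nil) .nil)) (.node [51,58,48,46] (.node [47,53,49] (.node [58,51,48] .nil .nil) .nil) (.node [49,56,58,46] .nil .nil))) (.node [56,50,55,48,46] (.node [48,55,50,46] (.node [55,48,58,47] (.node [51,57,49,47] .nil .nil) .nil) (.node [52,46,53,47] (.node [58,48,57,48] .nil .nil) .nil)) (.node [56,58,54,48] (.node [55,53,46,49] (.node [54,52,46] .nil .nil) .nil) (.node [53,55,51,46] .nil .nil)))))) (.node [58,51,55,48] (.node [50,54,47,49,46] (.node [56,54,58,48] (.node [47,48,47] (.node [52,58,56,46] (.node [53,57,51,46] (.node [54,57,58,49] .nil .nil) .nil) (.node [50,50,49] (.node [48,47,53,46,46] .nil .nil) .nil)) (.node [47,49,49,49] (.node [57,50,49,47] (.node [46,51,57,46] .nil .nil) .nil) (.node [53,56,50,46] .nil .nil))) (.node [46,50,48,47] (.node [47,53,48,48] (.node [52,55,48,47] (.node [50,54,48,48] .nil .nil) .nil) (.node [54,58,48] (.node [48,47,48,48] .nil .nil) .nil)) (.node [57,51,49,46] (.node [54,58,47,47] (.node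 [57,53,54,46] .nil .nil) .nil) (.node [50,56,53,46] .nil .nil)))) (.node [57,47,49,46] (.node [48,54,48,46] (.node [52,56,46] (.node [54,46,50,46,46] (.node [46,51,58,46] .nil .nil) .nil) (.node [53,53,57,46] (.node [53,58,49] .nil .nil) .nil)) (.node [49,58,50,53,46] (.node [54,53,54,46] (.node [49,47,56,46] .nil .nil) .nil) (.node [49,47,56,47] .nil .nil))) (.node [55,53,47,47] (.node [53,46,48,46] (.node [57,58,48,48] (.node [48,48,50,47] .nil .nil) .nil) (.node [54,47,53,50,46] (.node [49,54,46,48] .nil .nil) .nil)) (.node [51,55,52,48] (.node [47,47,48] (.node [51,57,46] .nil .nil) .nil) (.node [48,48,52,49] .nil .nil))))) (.node [53,54,48] (.node [51,54,54,47] (.node [57,46,51,46] (.node [55,51,49] (.node [46,58,53,47] (.node [54,49,52,46] .nil .nil) .nil) (.node [57,55,48] (.node [55,48,56,46] .nil .nil) .nil)) (.node [51,54,48] (.node [51,49,51,48] (.node [47,55,50,47] .nil .nil) .nil) (.node [49,50,57,46,46] .nil .nil))) (.node [54,54,53,49] (.node [47,47,58,47] (.node [51,49,53,48]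 (.node [54,49,53,47] .nil .nil) .nil) (.node [49,58,49] (.node [47,54,58,46] .nil .nil) .nil)) (.node [47,48,55,47] (.node [47,52,47] (.node [58,53,49,47] .nil .nil) .nil) (.node [58,46,51,48] .nil .nil)))) (.node [52,57,51,49] (.node [55,57,50,46] (.node [52,55,58,46] (.node [50,57,52,48] (.node [52,55,51,48] .nil .nil) .nil) (.node [46,50,53,47] (.node [47,56,46] .nil .nil) .nil)) (.node [51,49,57,48] (.node [47,49,53,54,46] (.node [51,52,54,46] .nil .nil) .nil) (.node [51,47] .nil .nil))) (.node [57,46,46,48] (.node [55,51,48] (.node [54,47,56,47] (.node [55,53,48,46] .nil .nil) .nil) (.node [56,48,58,48] (.node [58,55,51,46] .nil .nil) .nil)) (.node [58,49,55,47] (.node [52,56,54,48] (.node [46,50,47] .nil .nil) .nil) (.node [50,46,50,46] .nil .nil)))))))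

/-- A part. -/
noncomputable def mainWords1_17 : Arr (List ℕ) :=
  (.node [48,56,49,47] mainWords1_15 mainWords1_16)

/-- A part. -/
noncomputable def mainWords1_18 : Arr (List ℕ) :=
  (.node [50,46,58,46] (.node [58,49,56,47] (.node [56,52,46] (.node [54,49,47] (.node [57,52,50,46] (.node [46,46,50,46,46] (.node [51,57,49,46] (.node [53,46,53,46] .nil .nil) .nil) (.node [50,49,56,48] (.node [48,57,55,47] .nil .nil) .nil)) (.node [51,57,50,49] (.node [57,51,49] (.node [58,46,48,46] .nil .nil) .nil) (.node [56,50,56,47] .nil .nil))) (.node [58,49,54,47] (.node [56,52,52,48] (.node [48,46,58,47] (.node [48,47,53,50,46] .nil .nil) .nil) (.node [46,48,52,46,46] (.node [46,48,50,49] .nil .nil) .nil)) (.node [46,50,57,47] (.node [46,51,52,48] (.node [48,56,46,46] .nil .nil) .nil) (.node [57,51,56,46] .nil .nil)))) (.node [57,58,48,46] (.node [58,52,51,46] (.node [57,58,49] (.node [53,48,47] (.node [49,50,52,47] .nil .nil) .nil) (.node [51,47,48] (.node [56,53,48,47] .nil .nil) .nil)) (.node [51,56,56,46]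 (.node [47,52,46,48] (.node [58,47,50,48] .nil .nil) .nil) (.node [46,58,49] .nil .nil))) (.node [47,51,46] (.node [47,56,53,46] (.node [52,54,53,49] (.node [47,47,54,46] .nil .nil) .nil) (.node [50,46,52,48] (.node [55,51,47] .nil .nil) .nil)) (.node [46,52,57,46] (.node [49,57,58,46] (.node [47,48] .nil .nil) .nil) (.node [50,56,49,46] .nil .nil))))) (.node [47,57,55,46,46] (.node [47,56,49,47] (.node [49,55,58,47] (.node [47,55,49] (.node [50,49,50,47] (.node [50,50,58,48] .nil .nil) .nil) (.node [54,53,55,49] (.node [52,57,49] .nil .nil) .nil)) (.node [52,47,57,47] (.node [52,51,49,47] (.node [48,47,47,49] .nil .nil) .nil) (.node [49,55,52,46] .nil .nil))) (.node [47,53,58,47] (.node [49,57,47] (.node [58,50,49] (.node [53,47,57,46] .nil .nil) .nil) (.node [50,50,46,49] (.node [48,57,47,49] .nil .nil) .nil)) (.node [54,47,57,46] (.node [47,57,52,50,46] (.node [47,55,47,49,46] .nil .nil) .nil) (.node [49,53,56,47] .nil .nil)))) (.node [53,50,56,46] (.node [50,55,47] (.node [50,55,49,46]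 (.node [54,46,54,47] (.node [50,47,52,47] .nil .nil) .nil) (.node [48,46,48,46] (.node [55,49,47,47] .nil .nil) .nil)) (.node [47,50,46,46] (.node [54,54,47,49,46] (.node [55,51,46] .nil .nil) .nil) (.node [48,55,48] .nil .nil))) (.node [46,50,58,46] (.node [52,46,57,48] (.node [56,47,54,48] (.node [53,55,53,46] .nil .nil) .nil) (.node [48,58,53,47] (.node [54,57,46] .nil .nil) .nil)) (.node [46,58,54,46] (.node [49,49,47,48] (.node [49,51,57,46] .nil .nil) .nil) (.node [46,54,50,48] .nil .nil)))))) (.node [57,48] (.node [49,53,57,49] (.node [49,58,48,48] (.node [47,50,56,47] (.node [58,56,52,46] (.node [56,52,57,48] (.node [55,48,53,46] .nil .nil) .nil) (.node [50,49,53,46] (.node [50,48,53,46] .nil .nil) .nil)) (.node [51,49,46] (.node [48,50,57,46] (.node [49,47,57,46] .nil .nil) .nil) (.node [51,58,46] .nil .nil))) (.node [50,58,53,46] (.node [48,47,58,46] (.node [57,54,46] (.node [46,48,47,49] .nil .nil) .nil) (.node [46,46,51,46] (.node [51,47,56,46] .nil .nil) .nil)) (.node [53,54,46,48]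 (.node [51,55,52,49] (.node [47,57,54,46] .nil .nil) .nil) (.node [55,48,48,46] .nil .nil)))) (.node [46,46,46] (.node [46,58,57,47] (.node [58,50,47] (.node [47,48,58,46,46] (.node [55,50,46] .nil .nil) .nil) (.node [49,53,48,48] (.node [55,58,50,46] .nil .nil) .nil)) (.node [47,48,46] (.node [55,48,46,46] (.node [46,53,56,46] .nil .nil) .nil) (.node [56,51,48,46] .nil .nil))) (.node [50,52,54,48] (.node [55,50,46,48] (.node [47,50,49,47] (.node [47,47,48,46] .nil .nil) .nil) (.node [47,56,48] (.node [46,57,51,47] .nil .nil) .nil)) (.node [48,51,46,46] (.node [58,55,53,46] (.node [50,48,54,47] .nil .nil) .nil) (.node [47,51,53,47] .nil .nil))))) (.node [49,55,51,46] (.node [52,55,48,48] (.node [47,52,54,47] (.node [47,50,53,46] (.node [53,47,50,47] (.node [46,53,48,48] .nil .nil) .nil) (.node [47,48,46,46] (.node [53,58,48,47] .nil .nil) .nil)) (.node [58,47,48,46,46] (.node [48,53,50,48,46] (.node [55,46,49,47] .nil .nil) .nil) (.node [48,57,46] .nil .nil))) (.node [49,51,58,46] (.node [54,53,55,47]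 (.node [58,47] (.node [54,48,48,47] .nil .nil) .nil) (.node [49,51,53,46,46] (.node [46,56,52,46] .nil .nil) .nil)) (.node [46,51,46] (.node [56,48,48,46] (.node [47,49,57,48] .nil .nil) .nil) (.node [56,47,52,46] .nil .nil)))) (.node [47,53,58,49] (.node [46,53,49] (.node [53,48,58,46] (.node [50,55,46,46] (.node [53,47] .nil .nil) .nil) (.node [57,49,50,46] (.node [56,56,46] .nil .nil) .nil)) (.node [52,49,46,48] (.node [53,55,47] (.node [58,57,48,47] .nil .nil) .nil) (.node [55,52,48] .nil .nil))) (.node [54,47,48,46] (.node [49,46,58,46,46] (.node [48,48,47] (.node [47,56,56,48] .nil .nil) .nil) (.node [52,52,51,46] (.node [46,50,49,47] .nil .nil) .nil)) (.node [55,48,53,47] (.node [52,48,48] (.node [49,56,48] .nil .nil) .nil) (.node [52,47,55,46,46] .nil .nil)))))))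

/-- A part. -/
noncomputable def mainWords1_19 : Arr (List ℕ) :=
  (.node [57,46,50,49] (.node [49,58,47,48] (.node [48,56,51,46] (.node [48,53,47] (.node [57,53,49] (.node [55,51,48,46] (.node [57,55,46,49] (.node [49,51,48,47] .nil .nil) .nil) (.node [48,55,50,47] (.node [53,48,57,49] .nil .nil) .nil)) (.node [53,56,48] (.node [51,51,57,48] (.node [53,55,51,46,46] .nil .nil) .nil) (.node [47,50,52,48] .nil .nil))) (.node [51,51,54,46] (.node [46,58,48] (.node [56,53,49,46] (.node [55,56,47] .nil .nil) .nil) (.node [49,46,58,48] (.node [46,49,58,46] .nil .nil) .nil)) (.node [46,48,58,47] (.node [46,48,47] (.node [53,54,56,48] .nil .nil) .nil) (.node [52,57,57,48] .nil .nil)))) (.node [51,46,53,47] (.node [55,46,52,48] (.node [57,50,50,46] (.node [51,54,58,46] (.node [51,48,53,46] .nil .nil) .nil) (.node [49,53,48,48,46] (.node [57,50,52,49] .nil .nil) .nil)) (.node [49,50,47] (.node [53,57,47,49] (.node [52,48] .nil .nil) .nil) (.node [49,54,50,47] .nil .nil))) (.node [53,50,56,47] (.node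 [47,49,46,46] (.node [50,47,51,46] (.node [47,55,58,47] .nil .nil) .nil) (.node [53,54,47] (.node [51,57,54,48] .nil .nil) .nil)) (.node [55,47,57,49] (.node [56,46,50,49] (.node [46,50,47,49] .nil .nil) .nil) (.node [56,49,51,46,46] .nil .nil))))) (.node [46,48] (.node [57,48,50,46] (.node [46,51,47,47] (.node [48,50,47] (.node [48,52,50,46] (.node [55,52,46] .nil .nil) .nil) (.node [57,57,54,46] (.node [50,56,47] .nil .nil) .nil)) (.node [47,56,51,46] (.node [53,47,57,48] (.node [52,57,46,46] .nil .nil) .nil) (.node [49,53,46] .nil .nil))) (.node [51,54,51,49] (.node [49,54,56,46] (.node [49,54,49,46] (.node [58,48,53,48] .nil .nil) .nil) (.node [56,49,55,47] (.node [53,50,48,47] .nil .nil) .nil)) (.node [54,53,46] (.node [53,57,51,48] (.node [57,49,50,48] .nil .nil) .nil) (.node [50,54,47,48,46] .nil .nil)))) (.node [58,48,57,49] (.node [55,49,46,46] (.node [55,53,53,46] (.node [52,54,48,46] (.node [51,48,52,47] .nil .nil) .nil) (.node [53,57,49,46] (.node [46,56,48] .nil .nil) .nil)) (.node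 [54,52,52,46] (.node [48,58,48] (.node [53,49,50,47] .nil .nil) .nil) (.node [57,46,50,47] .nil .nil))) (.node [56,46,51,46] (.node [57,47] (.node [49,53,47,48] (.node [50,58,50,46] .nil .nil) .nil) (.node [52,47,56,47] (.node [53,50,50,46] .nil .nil) .nil)) (.node [48,56,47,47] (.node [57,57,49,49] (.node [47,50,49] .nil .nil) .nil) (.node [50,56,56,49] .nil .nil)))))) (.node [49,53,54,46] (.node [49,46,49,46] (.node [48,50,47,48] (.node [48,48,48] (.node [55,46,54,47] (.node [51,46,46,49] (.node [51,49,46,48] .nil .nil) .nil) (.node [58,48,54,48,46] (.node [56,54,47] .nil .nil) .nil)) (.node [48,58,48,47] (.node [47,50,49,46] (.node [57,49,52,46] .nil .nil) .nil) (.node [48,47] .nil .nil))) (.node [54,49,58,47] (.node [46,50,46] (.node [48,57,57,46,46] (.node [48,58,57,46] .nil .nil) .nil) (.node [46,57,51,46] (.node [47,57,53,46] .nil .nil) .nil)) (.node [55,58,50,49] (.node [54,51,49,47] (.node [47,55,56,46] .nil .nil) .nil) (.node [50,46,46,49] .nil .nil)))) (.node [52,50,46] (.node [47,48,58,47]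 (.node [46,56,51,46] (.node [56,46,49,47] (.node [56,52,48] .nil .nil) .nil) (.node [48,58,48,46] (.node [51,52,48,47] .nil .nil) .nil)) (.node [52,58,54,46] (.node [47,48,48] (.node [57,58,52,48] .nil .nil) .nil) (.node [58,54,53,48] .nil .nil))) (.node [46,53,53,48] (.node [50,53,47] (.node [58,48,50,47] (.node [54,47,53,46] .nil .nil) .nil) (.node [48,46,58,46] (.node [50,58,49,49] .nil .nil) .nil)) (.node [57,52,48,47] (.node [55,47,57,46] (.node [50,49,49] .nil .nil) .nil) (.node [54,51,47,56,46] .nil .nil))))) (.node [58,50,46,46] (.node [58,46,58,48] (.node [56,46,53,46] (.node [57,48,46,46] (.node [47,53,46] (.node [48,56,49] .nil .nil) .nil) (.node [56,52,52,46] (.node [47,58,47] .nil .nil) .nil)) (.node [50,53,50,47] (.node [54,47,51,49] (.node [47,54,47,49,47] .nil .nil) .nil) (.node [48,46,53,46] .nil .nil))) (.node [47,57,53,47] (.node [54,52,50,47] (.node [46,46,48,46] (.node [54,52,56,46] .nil .nil) .nil) (.node [53,49] (.node [52,55,47] .nil .nil) .nil)) (.node [52,58,52,47]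 (.node [56,49,46] (.node [49,49,54,48] .nil .nil) .nil) (.node [54,54,47,47] .nil .nil)))) (.node [51,58,48] (.node [57,46,57,46] (.node [47,51,49,46] (.node [51,49,53,47] (.node [53,48,48,46] .nil .nil) .nil) (.node [48,48,56,47] (.node [58,48,51,48] .nil .nil) .nil)) (.node [53,58,46] (.node [52,58,46] (.node [46,46,57,48] .nil .nil) .nil) (.node [58,51,46,48] .nil .nil))) (.node [49,46,46] (.node [46,50,52,47] (.node [50,56,49] (.node [56,47] .nil .nil) .nil) (.node [55,48,58,46] (.node [53,53,48,46] .nil .nil) .nil)) (.node [53,50,52,49] (.node [46,52,56,46] (.node [46,49,47,47] .nil .nil) .nil) (.node [50,47,53,46,46] .nil .nil)))))))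

/-- A part. -/
noncomputable def mainWords1_20 : Arr (List ℕ) :=
  (.node [58,47,50,47] mainWords1_18 mainWords1_19)

/-- A part. -/
noncomputable def mainWords1_21 : Arr (List ℕ) :=
  (.node [52,58,50,46] mainWords1_17 mainWords1_20)

/-- A part. -/
noncomputable def mainWords1_22 : Arr (List ℕ) :=
  (.node [54,57,50,48] (.node [55,46,53,46] (.node [48,55,52,46] (.node [51,54,46,49,46] (.node [51,54,49,47] (.node [48,53,55,47] (.node [48,50,58,46] (.node [49,55,52,47] .nil .nil) .nil) (.node [53,53,49,47] (.node [46,56,54,47] .nil .nil) .nil)) (.node [54,54,48,46] (.node [56,46,57,49,46] (.node [53,46,57,47] .nil .nil) .nil) (.node [46,49] .nil .nil))) (.node [47,48,54,46] (.node [55,47,58,46] (.node [48,51,48,46] (.node [49,54,51,47] .nil .nil) .nil) (.node [49,46,52,47] (.node [52,47,50,47] .nil .nil) .nil)) (.node [53,46,55,48] (.node [50,50,54,46] (.node [58,51,46,46] .nil .nil) .nil) (.node [51,46,48,46] .nil .nil)))) (.node [54,48,46] (.node [54,46,50,46] (.node [54,49,52,49,46] (.node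 [53,53,46,49] (.node [47,58,57,47] .nil .nil) .nil) (.node [55,49,46] (.node [46,48,50,48] .nil .nil) .nil)) (.node [58,46,48,47] (.node [57,55,49,47] (.node [52,48,57,46] .nil .nil) .nil) (.node [50,55,48,47] .nil .nil))) (.node [56,52,50,46] (.node [48,57,47,48] (.node [52,56,53,46] (.node [54,53,49] .nil .nil) .nil) (.node [53,50,47,47] (.node [55,46,58,46] .nil .nil) .nil)) (.node [49,47,58,47] (.node [47,50,48,48] (.node [51,56,46,49,46] .nil .nil) .nil) (.node [51,57,53,49] .nil .nil))))) (.node [55,47,56,46] (.node [55,52,46,46] (.node [54,51,51,46] (.node [55,56,50,47] (.node [51,56,52,48] (.node [56,49,54,48] .nil .nil) .nil) (.node [49,52,46] (.node [54,54,50,48] .nil .nil) .nil)) (.node [49,58,48] (.node [48,51,46] (.node [53,53,57,49] .nil .nil) .nil) (.node [51,58,53,48] .nil .nil))) (.node [47,57,50,48] (.node [58,48,50,46,46] (.node [51,53,56,48] (.node [53,51,49,46] .nil .nil) .nil) (.node [58,47,52,49] (.node [54,56,47] .nil .nil) .nil)) (.node [58,49,47,47] (.node [55,46,48,48]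 (.node [53,51,48,46] .nil .nil) .nil) (.node [57,52,57,46] .nil .nil)))) (.node [50,48,54,48,46] (.node [46,49,49,56,46] (.node [46,50,48,48] (.node [49,55,53,46,46] (.node [52,51,54,47] .nil .nil) .nil) (.node [51,55,56,46] (.node [48,56,51,47] .nil .nil) .nil)) (.node [52,55,53,46] (.node [54,46,46] (.node [56,54,51,48] .nil .nil) .nil) (.node [53,51,48,47] .nil .nil))) (.node [48,58,53,46] (.node [55,56,48,47] (.node [48,57,49] (.node [54,51,47] .nil .nil) .nil) (.node [48,46,48] (.node [50,49,46,46] .nil .nil) .nil)) (.node [47,54,58,47] (.node [53,50,49] (.node [54,57,49] .nil .nil) .nil) (.node [49,47,49,46,46] .nil .nil)))))) (.node [46,48,54,47] (.node [55,50,49,46] (.node [50,58,53,48] (.node [54,49,46,48] (.node [56,54,50,46] (.node [52,56,47] (.node [56,47,56,49,46] .nil .nil) .nil) (.node [47,57,49] (.node [51,51,56,48] .nil .nil) .nil)) (.node [58,47,49,46] (.node [47,54,50,46,46] (.node [50,49,47,48] .nil .nil) .nil) (.node [58,53,54,46] .nil .nil))) (.node [47,54,48] (.node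 [58,53,46] (.node [50,49,50,46,46] (.node [51,57,53,47] .nil .nil) .nil) (.node [49,53,54,47] (.node [51,58,50,46] .nil .nil) .nil)) (.node [46,54,48,46] (.node [58,54,47] (.node [52,48,47,49,46] .nil .nil) .nil) (.node [49,57,58,48] .nil .nil)))) (.node [50,57,47] (.node [55,58,54,47] (.node [50,56,48] (.node [50,50,48,46] (.node [49,58,47] .nil .nil) .nil) (.node [49,56,47,47] (.node [57,48,47] .nil .nil) .nil)) (.node [51,53,47,49] (.node [56,49,47,47] (.node [49,56,50,47] .nil .nil) .nil) (.node [58,55,53,48] .nil .nil))) (.node [49,58,51,48] (.node [53,57,50,46] (.node [47,51,56,46] (.node [46,55,49] .nil .nil) .nil) (.node [58,46,51,46] (.node [55,49,51,48] .nil .nil) .nil)) (.node [50,55,53,46] (.node [55,53,46] (.node [50,58,50,49] .nil .nil) .nil) (.node [46,48,54,46] .nil .nil))))) (.node [52,52,58,46] (.node [53,56,56,46] (.node [54,48,51,46] (.node [47,47,52,46,46] (.node [46,57,55,47] (.node [56,51,47,47] .nil .nil) .nil) (.node [57,48,58,46] (.node [53,50,53,46] .nil .nil) .nil))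 (.node [50,55,49,47,47] (.node [50,53,53,48] (.node [57,58,47,47] .nil .nil) .nil) (.node [57,57,47] .nil .nil))) (.node [51,52,51,48] (.node [55,56,47,52,46] (.node [49,54,49,49] (.node [58,46,48,48] .nil .nil) .nil) (.node [48,58,46] (.node [56,53,55,49] .nil .nil) .nil)) (.node [56,50,58,48] (.node [52,54,51,46] (.node [55,49,52,49] .nil .nil) .nil) (.node [52,50,49] .nil .nil)))) (.node [54,52,49] (.node [50,49,49,47] (.node [47,56,46,46] (.node [47,50,46] (.node [54,58,50,46] .nil .nil) .nil) (.node [51,58,49] (.node [52,46] .nil .nil) .nil)) (.node [47,48,47,49] (.node [49,50,53,47] (.node [52,49,49] .nil .nil) .nil) (.node [56,47,57,46] .nil .nil))) (.node [54,46,50,48] (.node [54,52,49,47] (.node [53,57,47,47] (.node [47,54,47] .nil .nil) .nil) (.node [47,53,54,48] (.node [46,53,48,46] .nil .nil) .nil)) (.node [51,58,52,48] (.node [47,51,53,48] (.node [49,51,49,49] .nil .nil) .nil) (.node [52,48,47] .nil .nil)))))))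

/-- A part. -/
noncomputable def mainWords1_23 : Arr (List ℕ) :=
  (.node [49,51,52,46] (.node [46,58,57,48] (.node [46,57,49] (.node [51,48,56,46] (.node [50,56,51,46] (.node [50,52,46,46] (.node [52,51,53,46] (.node [49,57,57,47] .nil .nil) .nil) (.node [56,50,53,47] (.node [48,55,56,46] .nil .nil) .nil)) (.node [58,55,46,46] (.node [52,46,53,48] (.node [56,49,46,48] .nil .nil) .nil) (.node [48,52,57,46] .nil .nil))) (.node [49,52,56,48] (.node [48,58,53,46,46] (.node [49,51,48] (.node [57,48,57,46] .nil .nil) .nil) (.node [48,46,57,47] (.node [50,55,48] .nil .nil) .nil)) (.node [46,56,50,47] (.node [50,52,49,46] (.node [54,46] .nil .nil) .nil) (.node [57,51,46,46] .nil .nil)))) (.node [53,47,50,46] (.node [58,53,51,46] (.node [49,52,51,46] (.node [51,56,47] (.node [50,57,53,46] .nil .nil) .nil) (.node [54,49,53,48] (.node [54,47,49] .nil .nil) .nil)) (.node [54,53,46,46] (.node [56,49] (.node [57,48,52,46] .nil .nil) .nil) (.node [48,46,57,49] .nil .nil))) (.node [47,57,50,46] (.node [55,48,51,48]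 (.node [47,55,50,46] (.node [55,47,47,48,46] .nil .nil) .nil) (.node [53,51,52,48] (.node [49,56,50,46] .nil .nil) .nil)) (.node [58,56,50,47] (.node [49,57,48,46] (.node [46,54,54,51,46] .nil .nil) .nil) (.node [48,57,50,46] .nil .nil))))) (.node [47,52,50,46] (.node [53,47,48] (.node [49,53,47] (.node [49,52,56,46] (.node [48,55,56,47] (.node [56,53,53,48] .nil .nil) .nil) (.node [52,48,52,46] (.node [50,48] .nil .nil) .nil)) (.node [49,51,56,46] (.node [51,55,50,48] (.node [50,46,56,47] .nil .nil) .nil) (.node [56,50,46,51,46] .nil .nil))) (.node [52,49,52,46] (.node [52,48,53,47] (.node [47,53,58,46] (.node [46,57,49,47] .nil .nil) .nil) (.node [53,53,58,49] (.node [56,51,47,49,46] .nil .nil) .nil)) (.node [50,54,51,46,46] (.node [52,52,48,48] (.node [57,50,46,48] .nil .nil) .nil) (.node [48,56,56,46,46] .nil .nil)))) (.node [49,57,53,46] (.node [46,46,57,46] (.node [49,57,46] (.node [50,53,48,46,46] (.node [49,51,47] .nil .nil) .nil) (.node [53,50,52,48] (.node [51,57,50,48,46] .nil .nil)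 .nil)) (.node [56,54,53,46] (.node [57,58,46,46] (.node [56,46,48,46,46] .nil .nil) .nil) (.node [54,46,49] .nil .nil))) (.node [52,47,58,46] (.node [58,51,54,46] (.node [50,55,49,47] (.node [52,52,58,48] .nil .nil) .nil) (.node [56,56,53,48] (.node [49,52,47,47] .nil .nil) .nil)) (.node [50,46,51,46] (.node [46,46,58,48] (.node [53,51,48,46,46] .nil .nil) .nil) (.node [54,53,49,46] .nil .nil)))))) (.node [55,56,49] (.node [53,58,50,48] (.node [50,46,54,47] (.node [47,47,49,47] (.node [55,58,48,48] (.node [55,58,48,47] (.node [49,57,47,48,46] .nil .nil) .nil) (.node [52,51,46] (.node [56,49,58,46,46] .nil .nil) .nil)) (.node [56,55,48,47] (.node [48,51,56,46] (.node [49,46,53,49] .nil .nil) .nil) (.node [52,55,50,46] .nil .nil))) (.node [57,54,46,48] (.node [48,56,47] (.node [56,48,48,48] (.node [49,56,49] .nil .nil) .nil) (.node [52,46,49,47] (.node [47,58,50,46] .nil .nil) .nil)) (.node [58,56,55,49] (.node [58,53,55,46,46] (.node [47,47] .nil .nil) .nil) (.node [48,48,52,46] .nil .nil))))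 (.node [54,53,47] (.node [49,50,49,46] (.node [57,49,46,46] (.node [47,53,54,47] (.node [53,49,55,48] .nil .nil) .nil) (.node [50,46,52,47] (.node [47,55,47,48] .nil .nil) .nil)) (.node [49,57,49] (.node [46,54,53,46] (.node [54,56,48] .nil .nil) .nil) (.node [57,46,57,48] .nil .nil))) (.node [48,50,46,46] (.node [50,50,48,47] (.node [50,46,49] (.node [50,46,46,46] .nil .nil) .nil) (.node [50,53,54,46] (.node [50,47,49] .nil .nil) .nil)) (.node [51,47,47] (.node [56,50,56,48] (.node [56,58,53,47] .nil .nil) .nil) (.node [50,57,51,46,46] .nil .nil))))) (.node [58,56,53,46] (.node [56,53,54,46] (.node [49,55,49,49] (.node [46,53,46,49] (.node [55,47,49,46] (.node [51,51,47,49,46] .nil .nil) .nil) (.node [56,51,57,46] (.node [51,47,58,47] .nil .nil) .nil)) (.node [54,49,46] (.node [55,47,50,49] (.node [50,52,51,48] .nil .nil) .nil) (.node [47,48,52,47] .nil .nil))) (.node [49,47,50,49,46] (.node [49,55,53,48] (.node [47] (.node [48,56,52,47] .nil .nil) .nil) (.node [48,54,53,47] (.node [58,48,48]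 .nil .nil) .nil)) (.node [52,56,58,48,46] (.node [50,53,56,46] (.node [52,52,49,47] .nil .nil) .nil) (.node [50,49,56,51,46] .nil .nil)))) (.node [57,50,55,46,46] (.node [58,50,48,47] (.node [53,46,56,49,46] (.node [54,58,49] (.node [56,52,46,48] .nil .nil) .nil) (.node [46,57,46] (.node [51,49] .nil .nil) .nil)) (.node [46,48,48,46] (.node [47,47,48,47] (.node [50,53,57,46] .nil .nil) .nil) (.node [53,53,47] .nil .nil))) (.node [53,49,50,48] (.node [56,49,56,48] (.node [48,58,50,46] (.node [58,51,56,46] .nil .nil) .nil) (.node [51,55,46,46] (.node [55,56,47,48] .nil .nil) .nil)) (.node [46,56,47] (.node [46,57,58,46] (.node [57,53,48,47] .nil .nil) .nil) (.node [58,50,46,48] .nil .nil)))))))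

/-- A part. -/
noncomputable def mainWords1_24 : Arr (List ℕ) :=
  (.node [47,47,48,48] mainWords1_22 mainWords1_23)

/-- A part. -/
noncomputable def mainWords1_25 : Arr (List ℕ) :=
  (.node [52,56,48,46] (.node [58,47,57,48] (.node [53,48,48] (.node [48,55,47] (.node [57,49,55,47] (.node [50,48,55,47] (.node [48,53,51,47] (.node [47,56,49,46] .nil .nil) .nil) (.node [57,47,57,46] (.node [51,56,48,48] .nil .nil) .nil)) (.node [46,49,56,46] (.node [54,50,49,49] (.node [56,46,52,47] .nil .nil) .nil) (.node [53,48,46,46] .nil .nil))) (.node [49,55,47,48] (.node [57,55,46,46] (.node [47,50,58,46] (.node [58,48,56,49] .nil .nil) .nil) (.node [58,47,50,49,46] (.node [58,56,48,47] .nil .nil) .nil)) (.node [56,53,50,46] (.node [58,49,50,47] (.node [51,56,48,46] .nil .nil) .nil) (.node [49,46,51,46] .nil .nil)))) (.node [54,52,51,49] (.node [49,53,46,49] (.node [46,58,47] (.node [49,46,53,46] (.node [51,46,57,47] .nil .nil) .nil) (.node [56,46] (.node [49,58,46,46] .nil .nil) .nil)) (.node [47,57,55,48,46]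 (.node [50,56,54,48] (.node [52,49,46,46,46] .nil .nil) .nil) (.node [47,47,55,48] .nil .nil))) (.node [47,47,53,49] (.node [52,46,46] (.node [56,50,48] (.node [57,47,47] .nil .nil) .nil) (.node [48,46,46] (.node [51,51,48,48,46] .nil .nil) .nil)) (.node [53,53,47,47] (.node [48,48,53,53,46] (.node [52,58,50,47] .nil .nil) .nil) (.node [57,51,51,46] .nil .nil))))) (.node [53,53,51,46] (.node [58,55,48,47] (.node [48,58,47] (.node [57,50,53,46] (.node [57,54,49,49] (.node [58,48,57,47] .nil .nil) .nil) (.node [55,51,46,46] (.node [51,48,53,48] .nil .nil) .nil)) (.node [47,55,48,46] (.node [55,46,53,48] (.node [49,46,53,46,46] .nil .nil) .nil) (.node [52,48,57,47] .nil .nil))) (.node [49,50,48,47] (.node [50,50,49,46] (.node [47,55,46,46] (.node [51,46,51,47] .nil .nil) .nil) (.node [54,56,49,49] (.node [50,48,56,46] .nil .nil) .nil)) (.node [53,49,53,46] (.node [54,51,46,46] (.node [48,56,58,46] .nil .nil) .nil) (.node [51,49,52,46] .nil .nil)))) (.node [57,51,47,47] (.node [47,47,57,47] (.node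 [57,50,52,48] (.node [48,48,52,46,46] (.node [46,46,55,47] .nil .nil) .nil) (.node [47,56,50,47] (.node [54,49,51,48] .nil .nil) .nil)) (.node [50,58,46] (.node [53,55,51,49] (.node [47,54,56,47] .nil .nil) .nil) (.node [51,56,46] .nil .nil))) (.node [54,47,56,46] (.node [57,47,53,46] (.node [49,53,58,46] (.node [55,50,57,46] .nil .nil) .nil) (.node [56,52,58,46] (.node [53,56,46] .nil .nil) .nil)) (.node [52,52,48,47] (.node [54,48] (.node [58,46,52,46] .nil .nil) .nil) (.node [50,46,48,47] .nil .nil)))))) (.node [52,46,53,46] (.node [55,57,55,47] (.node [47,47,53,48] (.node [55,48,58,49] (.node [56,47,56,47] (.node [53,54,48,46] (.node [46,49,46,46] .nil .nil) .nil) (.node [50,54,58,49] (.node [53,46,49,47] .nil .nil) .nil)) (.node [46,57,47] (.node [50,46,48,46,46] (.node [51,54,51,46] .nil .nil) .nil) (.node [57,49,57,48] .nil .nil))) (.node [53,57,46] (.node [56,51,51,46] (.node [55,48,54,46] (.node [56,50,49,47] .nil .nil) .nil) (.node [58,48,54,47] (.node [56,56,49,49] .nil .nil) .nil))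 (.node [49,56,53,48] (.node [55,53,49,47] (.node [47,48,47,48] .nil .nil) .nil) (.node [52,46,52,47] .nil .nil)))) (.node [50,58,55,48] (.node [47,55,47] (.node [55,57,48] (.node [56,53,53,47] (.node [54,58,46] .nil .nil) .nil) (.node [48,48,55,47] (.node [46,53,50,48] .nil .nil) .nil)) (.node [53,50,52,47] (.node [52,51,48,48] (.node [50,52,47,48] .nil .nil) .nil) (.node [57,54,49,46] .nil .nil))) (.node [54,48,52,46] (.node [47,53,50,46] (.node [55,49,54,48] (.node [52,58,51,48] .nil .nil) .nil) (.node [55,58,50,48] (.node [48,48,47,48] .nil .nil) .nil)) (.node [46,52,55,47] (.node [48,48,46,48,46] (.node [52,51,48,47] .nil .nil) .nil) (.node [57,47,58,47] .nil .nil))))) (.node [49,53,53,51,46] (.node [53,57,48,47] (.node [48,52,51,47] (.node [56,46,53,47] (.node [55,58,48] (.node [47,52,58,48] .nil .nil) .nil) (.node [55,56,48,46] (.node [48,47,57,47] .nil .nil) .nil)) (.node [53,48,55,47] (.node [46,49,53,48] (.node [50,47,52,52,46] .nil .nil) .nil) (.node [49,51,49,47] .nil .nil))) (.node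 [51,48,47] (.node [51,47,56,47] (.node [47,52,56,46] (.node [53,55,53,49] .nil .nil) .nil) (.node [46,54,46,46] (.node [57,53,48,48] .nil .nil) .nil)) (.node [57,55,47,47] (.node [56,49,56,47] (.node [47,53,47] .nil .nil) .nil) (.node [52,57,52,48] .nil .nil)))) (.node [57,53,46,46] (.node [58,54,48,47] (.node [53,55,56,48,46] (.node [54,53,51,47] (.node [57,55,47,48] .nil .nil) .nil) (.node [56,46,49,49] (.node [49,57,48] .nil .nil) .nil)) (.node [53,53,46] (.node [57,55,48,46] (.node [50,52,49] .nil .nil) .nil) (.node [52,48,48,47] .nil .nil))) (.node [50,53,55,47] (.node [48,48,46,46] (.node [46,53,58,46] (.node [51,47,52,46] .nil .nil) .nil) (.node [48,46,58,48] (.node [48,46,46,46] .nil .nil) .nil)) (.node [50,53,55,48] (.node [57,48,54,46] (.node [57,46,52,47] .nil .nil) .nil) (.node [53,55,50,46] .nil .nil)))))))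

/-- A part. -/
noncomputable def mainWords1_26 : Arr (List ℕ) :=
  (.node [58,47,56,46,46] (.node [48,53,56,48] (.node [52,50,49,46] (.node [46,50,54,46] (.node [51,57,57,46] (.node [52,57,51,48,46] (.node [49,46,48] (.node [50,55,50,48] .nil .nil) .nil) (.node [51,47,49] (.node [56,48,51,46] .nil .nil) .nil)) (.node [53,54,52,46] (.node [49,50,46,46] (.node [48,58,49] .nil .nil) .nil) (.node [52,57,57,48,46] .nil .nil))) (.node [51,58,54,46] (.node [50,53,46,46] (.node [54,47,52,47] (.node [48,48,46,46,46] .nil .nil) .nil) (.node [56,46,48,48] (.node [51,57,51,46] .nil .nil) .nil)) (.node [54,54,50,46] (.node [47,53,58,46,46] (.node [51,47,57,49] .nil .nil) .nil) (.node [50,52,48,50,46] .nil .nil)))) (.node [48,53,57,46] (.node [58,51,47,49] (.node [47,49,54,51,46] (.node [51,52,47,47] (.node [46,48,46,46] .nil .nil) .nil) (.node [53,53,48] (.node [46,56,51,47] .nil .nil) .nil)) (.node [54,47] (.node [51,49,50,48] (.node [49,58,50,47] .nil .nil) .nil) (.node [48,50,48,48] .nil .nil))) (.node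 [50,54,48,47] (.node [57,49,49] (.node [46,55,57,46] (.node [58,52,48] .nil .nil) .nil) (.node [49,54,46,46] (.node [55,50,48,48] .nil .nil) .nil)) (.node [58,50,55,47] (.node [53,54,48,48] (.node [47,50,52,49] .nil .nil) .nil) (.node [55,57,52,48] .nil .nil))))) (.node [57,57,50,46] (.node [55,51,48,47] (.node [53,56,47] (.node [47,50,48,46] (.node [48,51,46,48,46] (.node [57,52,49,46] .nil .nil) .nil) (.node [55,56,58,49] (.node [53,50,48,46] .nil .nil) .nil)) (.node [53,46,48,46,46] (.node [49,51,46,46] (.node [48,53,58,46] .nil .nil) .nil) (.node [58,54,46] .nil .nil))) (.node [46,46,50,46] (.node [46,53,53,46] (.node [47,50,54,46] (.node [56,47,54,49,46] .nil .nil) .nil) (.node [52,50,47,52,46] (.node [56,50,48,48] .nil .nil) .nil)) (.node [56,49,53,47] (.node [46,58,47,47] (.node [49,57,50,47] .nil .nil) .nil) (.node [51,48,57,48] .nil .nil)))) (.node [48,50,55,48] (.node [56,54,57,48] (.node [54,49,54,48] (.node [53,54,57,47] (.node [50,57,54,46] .nil .nil) .nil) (.node [49,49,47] (.node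 [49,51,47,47] .nil .nil) .nil)) (.node [56,58,48,46] (.node [53,57,49] (.node [48,50,55,47] .nil .nil) .nil) (.node [47,50,47,47] .nil .nil))) (.node [56,55,46,46] (.node [46,46,58,46,46] (.node [47,49,56,46] (.node [53,58,46,46] .nil .nil) .nil) (.node [58,47,57,46] (.node [48,46,50,49] .nil .nil) .nil)) (.node [47,52,49] (.node [46,53,48] (.node [54,49,58,49] .nil .nil) .nil) (.node [54,50,50,49] .nil .nil)))))) (.node [48,51,49,47] (.node [55,58,55,48] (.node [48,46,53,47] (.node [46,46,53,48] (.node [46,46,58,46] (.node [56,49,49] (.node [46,57,53,47] .nil .nil) .nil) (.node [51,54,48,46] (.node [55,58,57,46] .nil .nil) .nil)) (.node [47,51,47] (.node [53,50,47,52,46] (.node [49,54,51,48] .nil .nil) .nil) (.node [55,49,54,47] .nil .nil))) (.node [48,58,54,46] (.node [46,48,50,46] (.node [55,46,51,49] (.node [49,50,50,46] .nil .nil) .nil) (.node [49,53,55,47] (.node [47,48,55,48] .nil .nil) .nil)) (.node [58,51,48,46] (.node [48,53,51,46] (.node [46,52,49,46] .nil .nil) .nil) (.node [47,56,48,46]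 .nil .nil)))) (.node [50,58,54,48] (.node [46,58,52,47] (.node [53,55,56,46] (.node [48,51,52,46,46] (.node [48,48] .nil .nil) .nil) (.node [58,49,46,48,46] (.node [53,57,54,48] .nil .nil) .nil)) (.node [57,50,49,49] (.node [49,54,47] (.node [55,57,49] .nil .nil) .nil) (.node [54,49,49] .nil .nil))) (.node [49,56,54,46] (.node [57,46] (.node [57,57,53,46] (.node [46,52,46] .nil .nil) .nil) (.node [50,55,52,46] (.node [55,53,48,47] .nil .nil) .nil)) (.node [50,57,48,46] (.node [48,52,49] (.node [46,46,48,47] .nil .nil) .nil) (.node [49,52,49] .nil .nil))))) (.node [49,47,49,47] (.node [53,56,48,48] (.node [51,52,55,48] (.node [48,54,57,46] (.node [47,47,49,46,46] (.node [52,57,55,48] .nil .nil) .nil) (.node [51,51,49,47] (.node [52,46,50,46] .nil .nil) .nil)) (.node [48,56,46,48] (.node [54,46,53,46] (.node [47,51,47,47] .nil .nil) .nil) (.node [46,56,53,48] .nil .nil))) (.node [48,54,46] (.node [57,57,50,47] (.node [52,47,57,48] (.node [52,54,52,46] .nil .nil) .nil) (.node [56,55,56,49] (.node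 [54,52,50,46] .nil .nil) .nil)) (.node [57,58,55,49] (.node [46,55,50,47] (.node [49,49,49] .nil .nil) .nil) (.node [48,51,48] .nil .nil)))) (.node [47,58,54,46] (.node [52,49,57,49] (.node [55,51,56,46] (.node [50,54,49,49] (.node [54,48,48,46] .nil .nil) .nil) (.node [52,56,51,46,46] (.node [54,47,48] .nil .nil) .nil)) (.node [53,53,56,47] (.node [51,47,57,47] (.node [46,49,50,48,46] .nil .nil) .nil) (.node [46,50,52,48] .nil .nil))) (.node [48,47,49] (.node [51,49,46,46] (.node [55,46,50,46] (.node [49,53,55,48] .nil .nil) .nil) (.node [51,46,58,47] (.node [47,56,47] .nil .nil) .nil)) (.node [51,48,50,46] (.node [54,47,53,47] (.node [51,56,51,49] .nil .nil) .nil) (.node [58,47,58,47] .nil .nil)))))))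

/-- A part. -/
noncomputable def mainWords1_27 : Arr (List ℕ) :=
  (.node [58,49,57,46] mainWords1_25 mainWords1_26)

/-- A part. -/
noncomputable def mainWords1_28 : Arr (List ℕ) :=
  (.node [49,49,57,47] mainWords1_24 mainWords1_27)

/-- A part. -/
noncomputable def mainWords1_29 : Arr (List ℕ) :=
  (.node [51,53,46,46] mainWords1_21 mainWords1_28)

/-- A part. -/
noncomputable def mainWords1_30 : Arr (List ℕ) :=
  (.node [] mainWords1_14 mainWords1_29)

/-- The array. -/
noncomputable def mainWords1 : Arr (List ℕ) := mainWords1_30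

/-- A part. -/
noncomputable def mainWords2_0 : Arr (List ℕ) :=
  (.node [56,56,58,53] (.node [50,54,50,50,50] (.node [51,54,50] (.node [52,55,53,50] (.node [51,57,55,52] (.node [57,55,52] (.node [50,57,50,50] (.node [53,51,57,50] .nil .nil) (.node [57,50,56,52] .nil .nil)) (.node [53,56,51] (.node [50,56,51,51] .nil .nil) .nil)) (.node [58,56,53] (.node [58,56,52,52,50] (.node [53,50,53,50] .nil .nil) (.node [53,50] .nil .nil)) (.node [54,51,52] (.node [56,55,58,52] .nil .nil) .nil))) (.node [54,58,53,53,50] (.node [55,51,53,51] (.node [55,51,56,51] (.node [53,57,54,51] .nil .nil) (.node [52,54,53] .nil .nil)) (.node [55,52] (.node [53,57,52,51] .nil .nil) .nil)) (.node [55,51,51,54,52] (.node [57,53,50,52] (.node [58,50,53,51] .nil .nil) .nil) (.node [56,58,52] (.node [50,54,52,51] .nil .nil) .nil)))) (.node [51,56,52,52,50] (.node [56,51,57,53,50] (.node [51,52,55,50,50] (.node [51,52,58,51] (.node [56,52,52,50,50] .nil .nil) (.node [53,50,54,52,50] .nil .nil)) (.node [56,52,52,52] (.node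 [52,52,55,50,50] .nil .nil) .nil)) (.node [50,54,58,53] (.node [50,54,52,52] (.node [53] .nil .nil) .nil) (.node [51,55,50] (.node [51,55,57,50] .nil .nil) .nil))) (.node [57,51,52,50,50] (.node [50,54,51,51] (.node [57,52,54,50,50] (.node [53,51,53,53] .nil .nil) (.node [52,51,52] .nil .nil)) (.node [52,51,51,53] (.node [51,54,52] .nil .nil) .nil)) (.node [52,50,57,50,50] (.node [52,51,52,50] (.node [50,58,56,55,51] .nil .nil) .nil) (.node [51,53,56,55,50] (.node [56,56,52,50,50] .nil .nil) .nil))))) (.node [57,55,56,50] (.node [54,54,50] (.node [57,52,56,54,50] (.node [58,56,55,51] (.node [53,58,55,52] (.node [56,52,52,50] .nil .nil) (.node [55,52,50,52,50] .nil .nil)) (.node [55,53,50,55,50] (.node [53,54,50,52] .nil .nil) .nil)) (.node [56,52,51] (.node [54,58,50,52] (.node [51,54,58,52,50] .nil .nil) (.node [54,53,58,50] .nil .nil)) (.node [50,50,53,51] (.node [58,50,57,51] .nil .nil) .nil))) (.node [54,56,53,51] (.node [51,55,58,53] (.node [52,55,57,50] (.node [57,52,50,52,50] .nil .nil)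 (.node [53,56,51,51] .nil .nil)) (.node [57,51,53] (.node [51,53,50,50,50] .nil .nil) .nil)) (.node [58,52,57,52,51] (.node [57,52,58,52] (.node [50,58,56,51] .nil .nil) .nil) (.node [52,56,56,58,50] (.node [52,52,52,52] .nil .nil) .nil)))) (.node [54,52,54,50] (.node [58,51,53,51] (.node [56,51,58,54,50] (.node [52,51,52,52,50] (.node [51,55,57,53] .nil .nil) (.node [50,52,57,52] .nil .nil)) (.node [55,52,56,51] (.node [52,58,55,50] .nil .nil) .nil)) (.node [52,55,56,52,50] (.node [53,55,52] (.node [51,57,51] .nil .nil) .nil) (.node [55,52,58,50,50] (.node [51,55,56,54,51] .nil .nil) .nil))) (.node [51,56,52,52] (.node [52,50,56,50] (.node [55,58,51,52] (.node [54,51,52,51] .nil .nil) (.node [54,52,51] .nil .nil)) (.node [58,54,50,50] (.node [56,50,52,51] .nil .nil) .nil)) (.node [51,51,58,51] (.node [55,50,50] (.node [53,53,53,51] .nil .nil) .nil) (.node [50,50,57,50] (.node [54,50,50,53] .nil .nil) .nil)))))) (.node [50,55,56,50] (.node [50,56,51,52] (.node [52,51,53] (.node [50,54,50]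 (.node [55,50,57,50] (.node [52,54,50,50,50] (.node [51,51,53,55,50] .nil .nil) (.node [55,51,51,54,51] .nil .nil)) (.node [52,50,50,52,50] (.node [56,50,53,55,50] .nil .nil) .nil)) (.node [50,54,50,50] (.node [55,53,53,53] (.node [50,50,57,53] .nil .nil) (.node [53,53,51,52] .nil .nil)) (.node [52,57,52,51] (.node [58,54,52,50] .nil .nil) .nil))) (.node [51,56,56,52] (.node [51,57,53,50] (.node [58,50,58,52] (.node [58,54,54,53,50] .nil .nil) (.node [52,57,52,50,50] .nil .nil)) (.node [53,56,56,53] (.node [56,52,54,51] .nil .nil) .nil)) (.node [50,55,53] (.node [58,52,57,53] (.node [50,50,52,50] .nil .nil) .nil) (.node [55,57,54,52,50] (.node [57,55,52,52,50] .nil .nil) .nil)))) (.node [55,53,56,51] (.node [56,53,53,51] (.node [56,54,54,50] (.node [56,50,50,50] (.node [52,50,55,51] .nil .nil) (.node [53,58,52,52,50] .nil .nil)) (.node [50,52,52,50,50] (.node [52] .nil .nil) .nil)) (.node [53,55,53,50,50] (.node [51,52,57,50,50] (.node [55,58,52,52,50] .nil .nil) .nil) (.node [55,51,58,50]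 (.node [56,53,56,51] .nil .nil) .nil))) (.node [53,51,52,50,50] (.node [51,51,52,50] (.node [51,56,51,51,53] (.node [58,57,52,51] .nil .nil) (.node [52,57,50,50] .nil .nil)) (.node [54,52,57,51] (.node [57,54,53,57,50] .nil .nil) .nil)) (.node [52,55,51] (.node [50,56,56,50] (.node [58,53,51,53] .nil .nil) .nil) (.node [57,53,54,50] (.node [53,55,56,51] .nil .nil) .nil))))) (.node [57,51,53,53] (.node [54,52,55,50] (.node [54,53,54,52] (.node [52,52,51] (.node [53,55,53,53] (.node [56,52,55,57,50] .nil .nil) (.node [53,54,51,53] .nil .nil)) (.node [57,53,55,57,50] (.node [52,51,52,52] .nil .nil) .nil)) (.node [52,50] (.node [53,55,51,52] (.node [53,55,50,50] .nil .nil) .nil) (.node [56,50,57,54,51] (.node [54,50,53,50] .nil .nil) .nil))) (.node [55,50,54,52,51] (.node [53,50,54,51] (.node [58,55,50] (.node [55,51,53,50,50] .nil .nil) (.node [52,56,52] .nil .nil)) (.node [56,51,54,50,50] (.node [50,56,58,53,50] .nil .nil) .nil)) (.node [55,56,54,53,50] (.node [51,57,51,51] (.node [54,51,52,50]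 .nil .nil) .nil) (.node [51,56,51] (.node [50,55,57,52,50] .nil .nil) .nil)))) (.node [56,53] (.node [54,51,57,50,50] (.node [58,55,50,52] (.node [50,52,54,50] (.node [52,52,58,55,50] .nil .nil) (.node [51,51,54,52] .nil .nil)) (.node [57,53,50] (.node [50,55,50,50,50] .nil .nil) .nil)) (.node [54,50,55,51] (.node [58,55,56,53,50] (.node [54,51,53,53,50] .nil .nil) .nil) (.node [54,53,53] (.node [52,50,54,50] .nil .nil) .nil))) (.node [54,50,54,50] (.node [51,57,55,53,50] (.node [52,56,54,51] (.node [52,51,54,53] .nil .nil) (.node [56,58,51,56,50] .nil .nil)) (.node [52,52,50] (.node [57,51,51] .nil .nil) .nil)) (.node [52,57,51,53] (.node [57,58,50,50] (.node [58,54,52,51] .nil .nil) .nil) (.node [54,50,50,50] (.node [58,50,53,55,51] .nil .nil) .nil)))))))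

/-- A part. -/
noncomputable def mainWords2_1 : Arr (List ℕ) :=
  (.node [52,57,57,50] (.node [53,58,57,50] (.node [58,54,56,50] (.node [58,56,52,50] (.node [55,52,54,54,50] (.node [52,50,55,50] (.node [57,54,54,53] (.node [53,53,56,53] .nil .nil) (.node [54,58,52,50] .nil .nil)) (.node [57,53,56,55,50] (.node [54,57,57,50] .nil .nil) .nil)) (.node [52,50,53] (.node [54,50,52] (.node [54,57,52,50] .nil .nil) (.node [58,53,54,50,50] .nil .nil)) (.node [56,55,51,52,50] (.node [55,56,53,50,50] .nil .nil) .nil))) (.node [58,54,53] (.node [54,54,51,53] (.node [55,50] (.node [53,54,57,54,51] .nil .nil) (.node [50,53,51,51] .nil .nil)) (.node [51,56,55,53] (.node [53,58,57,53] .nil .nil) .nil)) (.node [51,58,50] (.node [53,58,55,57,50] (.node [56,53,53] .nil .nil) .nil) (.node [52,54,58,53,50] (.node [54,54,52] .nil .nil) .nil)))) (.node [50,56,53,56,50] (.node [53,56,58,50] (.node [54,56,52,57,50] (.node [58,57,54,51] (.node [52,52,55,53,50] .nil .nil) (.node [57,57,52,51] .nil .nil)) (.node [55,52,55,53]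 (.node [50,53,55,51] .nil .nil) .nil)) (.node [50,50,50,55,50] (.node [57,52,55,56,50] (.node [54,54,53] .nil .nil) .nil) (.node [56,52,50] (.node [56,53,51] .nil .nil) .nil))) (.node [58,51,52,51] (.node [53,56,52,50] (.node [50,54,58,51] (.node [55,53,56,52] .nil .nil) (.node [53,50,57,52] .nil .nil)) (.node [51,53,56,52] (.node [50,55,58,50] .nil .nil) .nil)) (.node [51,52,57,51] (.node [57,50,53] (.node [58,52,55,56,50] .nil .nil) .nil) (.node [52,55,57,52] (.node [55,57,55,50,50] .nil .nil) .nil))))) (.node [53,58,54,52,51] (.node [55,52,54,50] (.node [55,56,53,50] (.node [53,51,57,53] (.node [50,57,52,50,50] (.node [51,53,55,52] .nil .nil) (.node [51,57,50,53] .nil .nil)) (.node [56,55,52,52] (.node [52,58,54,50] .nil .nil) .nil)) (.node [55,58,54,51] (.node [58,51,54,53] (.node [58,54,54,50,50] .nil .nil) .nil) (.node [51,52,57,50] (.node [52,54,54,50] .nil .nil) .nil))) (.node [51,55,50,52] (.node [57,51] (.node [56,51,53,58,50] (.node [53,58,56,50] .nil .nil) (.node [55,56,52,50]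 .nil .nil)) (.node [51,51,51] (.node [56,58,53] .nil .nil) .nil)) (.node [57,54,57,52,50] (.node [51,58,56,52] (.node [51,58,50,52,50] .nil .nil) .nil) (.node [53,50,53,51] (.node [56,54,50,52] .nil .nil) .nil)))) (.node [57,53,53,51] (.node [53,56,54,52,50] (.node [53,56,54,50] (.node [58,51,56,50] (.node [57,55,53,50] .nil .nil) (.node [57,57,55,53] .nil .nil)) (.node [55,51,57,52] (.node [57,50,53,51] .nil .nil) .nil)) (.node [55,53,51,51] (.node [54,50,50,52] (.node [52,50,53,50] .nil .nil) .nil) (.node [54,58,56,50] (.node [52,57,53,54,50] .nil .nil) .nil))) (.node [52,55,56,51] (.node [58,51,54,51] (.node [58,55,51] (.node [53,54,50,50] .nil .nil) (.node [51,51,55,53] .nil .nil)) (.node [53,54,56,50] (.node [58,57,50,52] .nil .nil) .nil)) (.node [51,53,53,55,51] (.node [57,53,53,53,50] (.node [50,52,54,56,50] .nil .nil) .nil) (.node [51,56,56,50] (.node [55,50,55,53] .nil .nil) .nil)))))) (.node [50,50,55,50] (.node [53,51,58,57,50] (.node [50,58,51,56,51] (.node [57,57,51] (.node [57,55,50,50]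 (.node [55,53,58,52,50] (.node [54,53,53,53,50] .nil .nil) (.node [58,57,53] .nil .nil)) (.node [55,51,57,50,50] (.node [51,52,50,50,50] .nil .nil) .nil)) (.node [50,56,54,50] (.node [52,54,53,58,50] (.node [56,53,50,50] .nil .nil) (.node [54,54,53,50,50] .nil .nil)) (.node [55,56,51] (.node [53,56,52,52] .nil .nil) .nil))) (.node [53,53,57,54,52] (.node [54,52,55,53] (.node [55,56,53,53] (.node [55,56,56,52] .nil .nil) (.node [55,57,55,51] .nil .nil)) (.node [54,52,52] (.node [57,57,51,51] .nil .nil) .nil)) (.node [50,52,51,51] (.node [50,56,53,53] (.node [56,53,58,51] .nil .nil) .nil) (.node [55,56,54,50] (.node [51,57,53] .nil .nil) .nil)))) (.node [52,57,51,51] (.node [58,51,55,50] (.node [58,50] (.node [55,58,50] (.node [54,53,56,52] .nil .nil) (.node [58,50,57,52] .nil .nil)) (.node [56,56,53,57,50] (.node [50,50] .nil .nil) .nil)) (.node [56,50,53,53,51] (.node [56,55,53,51] (.node [50,56,58,53] .nil .nil) .nil) (.node [50,54,54,52,50] (.node [51,52,55,52] .nil .nil) .nil))) (.node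 [51,54,56,51] (.node [50,56,52,50,50] (.node [54,58,53] (.node [57,57,50,52] .nil .nil) (.node [52,56,56,51] .nil .nil)) (.node [51,55,56,52] (.node [57,53,54,52] .nil .nil) .nil)) (.node [54,56,50,57,50] (.node [56,58,52,51] (.node [58,55,51,51] .nil .nil) .nil) (.node [54,53,56,50,50] (.node [57,51,56,53] .nil .nil) .nil))))) (.node [58,52,51] (.node [57,52,56,58,50] (.node [54,51,53,50] (.node [53,57,53,57,50] (.node [50,52,58,51] (.node [56,50,53] .nil .nil) (.node [58,56,55,50] .nil .nil)) (.node [52,54,51,52] (.node [56,53,53,50,50] .nil .nil) .nil)) (.node [51,54,57,51] (.node [52,52,56,53] (.node [52,58,53] .nil .nil) .nil) (.node [52,55,58,50] (.node [58,50,57,50] .nil .nil) .nil))) (.node [50,56,56,52] (.node [52,52,52] (.node [55,53,56,50] (.node [55,58,55,53,50] .nil .nil) (.node [58,57,57,52,50] .nil .nil)) (.node [57,57,53,50] (.node [54,54,51,52,50] .nil .nil) .nil)) (.node [57,51,51,53] (.node [51,55,50,50] (.node [54,56,52,52] .nil .nil) .nil) (.node [51,55,53] (.node [55,53,50,54,50]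 .nil .nil) .nil)))) (.node [58,57,55,53] (.node [50,50,52,51] (.node [57,54,54,51] (.node [52,52,51,51] (.node [54,54,51,51] .nil .nil) (.node [54,54,53,50] .nil .nil)) (.node [54,51,54,50] (.node [58,57,50,55,50] .nil .nil) .nil)) (.node [56,56,58,50] (.node [56,53,51,52,50] (.node [50,58,52,58,50] .nil .nil) .nil) (.node [51,52,52] (.node [56,50,58,50] .nil .nil) .nil))) (.node [52,52,55,52] (.node [52,50,52,50] (.node [55,51,56,51,51] (.node [50,58,53,51] .nil .nil) (.node [58,56,56,50] .nil .nil)) (.node [53,53,55,53] (.node [57,53,51,51] .nil .nil) .nil)) (.node [52,58,51] (.node [58,57,55,52] (.node [50,50,57,51] .nil .nil) .nil) (.node [55,57,58,53] (.node [50,53] .nil .nil) .nil)))))))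

/-- A part. -/
noncomputable def mainWords2_2 : Arr (List ℕ) :=
  (.node [52,58,50] mainWords2_0 mainWords2_1)

/-- A part. -/
noncomputable def mainWords2_3 : Arr (List ℕ) :=
  (.node [51,57,53,51,51] (.node [56,55,52,52,50] (.node [51,53,53,50] (.node [58,52,51,54,50] (.node [53,50,56,50] (.node [54,58,56,53] (.node [53,53,50,52] (.node [50,52,50] .nil .nil) (.node [53,50,52,51] .nil .nil)) (.node [52,52,54,52] (.node [53,57,55,51] .nil .nil) .nil)) (.node [55,51,52] (.node [51,54,56,53,50] (.node [57,50,58,51] .nil .nil) (.node [51,51,52,57,50] .nil .nil)) (.node [54,58,52] (.node [50,58,51,52] .nil .nil) .nil))) (.node [50,58,50,50] (.node [52,56,58,51] (.node [51,58,54,56,50] (.node [53,53,55,50] .nil .nil) (.node [53,53,56,51] .nil .nil)) (.node [56,58,56,52,50] (.node [55,53,51,53] .nil .nil) .nil)) (.node [54,54,56,50] (.node [50,56,50,50] (.node [55,52,56,52,50] .nil .nil) .nil) (.node [53,56,50,50] (.node [51,51,53] .nil .nil) .nil)))) (.node [52,54,54,56,50] (.node [58,56,55,53]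 (.node [50] (.node [56,54,58,52] (.node [52,50,50] .nil .nil) (.node [50,50,56,52,50] .nil .nil)) (.node [51,58,57,53,50] (.node [51,56,53,56,50] .nil .nil) .nil)) (.node [57,52,54,51] (.node [54,57,58,52] (.node [54,50,50,58,51] .nil .nil) .nil) (.node [57,50,50,50] (.node [52,52,52,50] .nil .nil) .nil))) (.node [53,53,57,50] (.node [51,54,54,52] (.node [52,52,56,51] (.node [53,53,54,52] .nil .nil) (.node [57,54,52] .nil .nil)) (.node [58,51,54,50] (.node [53,55,53,51] .nil .nil) .nil)) (.node [56,58,50] (.node [52,57,53,50] (.node [53,56,56,51] .nil .nil) .nil) (.node [58,55,56,50] (.node [52,51,52,50,50] .nil .nil) .nil))))) (.node [52,54,54,52] (.node [56,54,50] (.node [53,58,52,57,50] (.node [56,52,56,50] (.node [57,50,50] (.node [56,51,55,56,50] .nil .nil) (.node [52,55,50,50] .nil .nil)) (.node [56,52,57,52] (.node [50,56,56,53] .nil .nil) .nil)) (.node [57,52,52,50] (.node [58,50,52,51] (.node [57,51,58,50] .nil .nil) .nil) (.node [56,52,50,53] (.node [57,51,55,50,50] .nil .nil) .nil)))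 (.node [58,57,52,55,50] (.node [51,55,58,50] (.node [55,53,53] (.node [55,56,52,52] .nil .nil) (.node [57,53] .nil .nil)) (.node [52,57,55,53,50] (.node [52,54,50,50] .nil .nil) .nil)) (.node [52,52,54,51] (.node [58,51,52,52] (.node [55,53,51] .nil .nil) .nil) (.node [55,57,50,53,50] (.node [56,56,58,54,50] .nil .nil) .nil)))) (.node [53,54,58,52] (.node [52,56,58,50] (.node [55,58,54,50] (.node [56,52,52] (.node [53,55,50,52] .nil .nil) (.node [52,51,55,53] .nil .nil)) (.node [55,58,52] (.node [57,51,51,51] .nil .nil) .nil)) (.node [54,53,51,51] (.node [57,51,56,50] (.node [50,50,54,53,50] .nil .nil) .nil) (.node [54,50,58,50] (.node [58,53,58,50,50] .nil .nil) .nil))) (.node [58,55,50,50] (.node [57,55,53] (.node [53,55,57,50] (.node [50,58,52,52] .nil .nil) (.node [50,55,52,52] .nil .nil)) (.node [54,54,56,52,51] (.node [56,58,55,50] .nil .nil) .nil)) (.node [53,55,56,50] (.node [57,50,50,52] (.node [52,55,57,51] .nil .nil) .nil) (.node [58,55,52,52] (.node [52,54,54,50,50] .nil .nil)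 .nil)))))) (.node [57,54,50,52] (.node [58,53,58,52,50] (.node [56,51,58,50] (.node [56,51,54,50] (.node [56,56,51] (.node [53,57,57,51] (.node [54,52,54,54,50] .nil .nil) (.node [58,52,58,53] .nil .nil)) (.node [52,54,52,51] (.node [54,50,55,50] .nil .nil) .nil)) (.node [56,54,51] (.node [54,58,53,50] (.node [56,55,50,50] .nil .nil) (.node [50,57,52,50] .nil .nil)) (.node [51,53,58,52,50] (.node [50,53,58,52,50] .nil .nil) .nil))) (.node [50,50,56,54,50] (.node [55,57,50,50,50] (.node [52,54,51] (.node [52,56,51,51] .nil .nil) (.node [57,52,50,50] .nil .nil)) (.node [55,57,55,53,50] (.node [57,55,51,53] .nil .nil) .nil)) (.node [51,53,50,56,50] (.node [58,54,50] (.node [50,56,50,52,50] .nil .nil) .nil) (.node [51,56,52,51] (.node [52,55,52,50] .nil .nil) .nil)))) (.node [55,52,55,50] (.node [58,56,50] (.node [56,50,57,50,50] (.node [56,54,52] (.node [52,55,50,50,50] .nil .nil) (.node [54,53,55,50] .nil .nil)) (.node [53,51,54,51] (.node [57,58,53,51,51] .nil .nil) .nil)) (.node [50,57,55,50]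 (.node [50,56,58,50] (.node [52,58,52] .nil .nil) .nil) (.node [52,51,54,50] (.node [54,52,57,53] .nil .nil) .nil))) (.node [53,51,58,50] (.node [50,53,55,50] (.node [51,56,53,50,50] (.node [54,50,53,51] .nil .nil) (.node [52,52,50,50] .nil .nil)) (.node [57,53,51,52] (.node [53,50,58,56,51] .nil .nil) .nil)) (.node [51,56,58,51] (.node [56,50,52,50] (.node [53,56,52,51] .nil .nil) .nil) (.node [58,57,50,50] (.node [54,51,51,54,51] .nil .nil) .nil))))) (.node [55,53,50] (.node [53,56,55,50] (.node [58,52,50,56,51] (.node [58,53,53,50] (.node [55,56,50] (.node [53,51,53] .nil .nil) (.node [50,52,55,51] .nil .nil)) (.node [56,51,58,53] (.node [50,55,56,52] .nil .nil) .nil)) (.node [50,57,58,52] (.node [54,58,53,50,50] (.node [55,53,54,54,50] .nil .nil) .nil) (.node [58,50,50,50] (.node [51,58,54,52] .nil .nil) .nil))) (.node [50,58,57,50] (.node [58,52,54,52,50] (.node [55,51,53,53] (.node [58,51,55,52,50] .nil .nil) (.node [54,54,53,53] .nil .nil)) (.node [58,50,57,53,50] (.node [55,53,55,57,52]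 .nil .nil) .nil)) (.node [52,55,53,53] (.node [56,50,57,50] (.node [54,54,58,52] .nil .nil) .nil) (.node [51,58,57,50] (.node [53,58,51,52] .nil .nil) .nil)))) (.node [58,57,53,53,50] (.node [54,53,54,53] (.node [54,52,57,50,50] (.node [53,57,51] (.node [56,54,51,53] .nil .nil) (.node [50,55,50,50] .nil .nil)) (.node [54,51,53] (.node [56,55,52] .nil .nil) .nil)) (.node [58,57,51] (.node [50,57,54,51] (.node [54,57,58,52,52] .nil .nil) .nil) (.node [54,53,56,50] (.node [51,58,57,53] .nil .nil) .nil))) (.node [51,51,57,50] (.node [51,58,51,52,51] (.node [56,51,55,51] (.node [54,50,56,53] .nil .nil) (.node [50,56,51] .nil .nil)) (.node [50,56,53,51] (.node [57,50,55,50] .nil .nil) .nil)) (.node [51,58,54,50] (.node [51,54,53,50] (.node [52,56,50,53] .nil .nil) .nil) (.node [58,52,58,51] (.node [51,52,54,50] .nil .nil) .nil)))))))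

/-- A part. -/
noncomputable def mainWords2_4 : Arr (List ℕ) :=
  (.node [51,51,58,50] (.node [54,52,57,50] (.node [50,54,57,53,50] (.node [53,57,53] (.node [54,51] (.node [54,56,53] (.node [56,58,51] (.node [58,57,52] .nil .nil) (.node [55,57,57,50] .nil .nil)) (.node [53,56,56,52] (.node [53,53,55,51] .nil .nil) .nil)) (.node [52,51,56,54,50] (.node [54,53,50] (.node [56,54,53,50] .nil .nil) (.node [57,52,50,52] .nil .nil)) (.node [51,57,55,53] (.node [56,55,57,51] .nil .nil) .nil))) (.node [58,52,52,50] (.node [54,52,56,51] (.node [54,51,56,50] (.node [55,51,51,56,50] .nil .nil) (.node [51,55,52,52] .nil .nil)) (.node [52,54,53,50,50] (.node [53,54,51,52,50] .nil .nil) .nil)) (.node [51,56,53,50] (.node [53,50,50,53] (.node [50,58,51,53] .nil .nil) .nil) (.node [51,56,52,50] (.node [56,52,54,53] .nil .nil) .nil)))) (.node [54,53,56,51] (.node [51,52,51,51] (.node [53,57,58,51] (.node [57,52,52,50,50] (.node [50,53,56,50] .nil .nil) (.node [56,51,56,53] .nil .nil)) (.node [51,53] (.node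 [50,55,53,50] .nil .nil) .nil)) (.node [52,54,53,53] (.node [56,53,55,50,50] (.node [55,53,51,52] .nil .nil) .nil) (.node [54,51,58,50] (.node [53,57,54,52] .nil .nil) .nil))) (.node [55,52,54,51] (.node [58,52,58,50] (.node [51,56,53] (.node [57,52,56,53,50] .nil .nil) (.node [51,51,56,52] .nil .nil)) (.node [53,54,56,51] (.node [57,54,56,50] .nil .nil) .nil)) (.node [53,51,56,50] (.node [53,51] (.node [51,55,58,52] .nil .nil) .nil) (.node [51,53,55,53,50] (.node [57,54,58,50] .nil .nil) .nil))))) (.node [53,58,53,51] (.node [53,58,53] (.node [55,53,50,50] (.node [55,53,54,52] (.node [53,51,54,52,50] (.node [52,51,56,53] .nil .nil) (.node [56,56,50] .nil .nil)) (.node [56,53,56,50] (.node [50,53,50,58,50] .nil .nil) .nil)) (.node [56,54,56,53] (.node [56,53,58,53] (.node [51,58,56,50] .nil .nil) .nil) (.node [54,52,56,50] (.node [51,53,53,55,50] .nil .nil) .nil))) (.node [55,50,54,52] (.node [52,57,52] (.node [50,56,50] (.node [53,53,56,53,50] .nil .nil) (.node [58,53,55,50] .nil .nil)) (.node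 [53,58,52,50] (.node [52,51,58,52] .nil .nil) .nil)) (.node [52,50,54,54,50] (.node [52,50,52] (.node [53,53,50,50] .nil .nil) .nil) (.node [57,52,56,51] (.node [57,55,57,53] .nil .nil) .nil)))) (.node [56,50,50,52] (.node [56,56,53,50] (.node [57,58,53,56,50] (.node [54,53,53,50] (.node [53,54,53,57,50] .nil .nil) (.node [52,50,56,56,50] .nil .nil)) (.node [54,56,51] (.node [54,57,52,51] .nil .nil) .nil)) (.node [57,51,54,56,50] (.node [53,51,58,52] (.node [52,54,57,51] .nil .nil) .nil) (.node [56,52,55,53] (.node [50,56,52,56,50] .nil .nil) .nil))) (.node [58,55,57,55,50] (.node [50,50,54,52] (.node [50,52,51,52] (.node [50,53,53,51] .nil .nil) (.node [51,52,50] .nil .nil)) (.node [57,58,55,51] (.node [50,55,50,52] .nil .nil) .nil)) (.node [55,52,52] (.node [51,55,53,53] (.node [50,55,50] .nil .nil) .nil) (.node [56,53,57,50] (.node [55,52,52,50] .nil .nil) .nil)))))) (.node [57,51,55,53] (.node [52,52,57,50] (.node [57,50] (.node [58,53,54,50] (.node [56,54,56,50] (.node [50,57,51,53] (.node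 [57,51,57,52] .nil .nil) (.node [50,54,51] .nil .nil)) (.node [50,53,56,50,50] (.node [58,52,57,50] .nil .nil) .nil)) (.node [51,57,57,50] (.node [58,57,53,56,50] (.node [53,55,57,52] .nil .nil) (.node [50,58,52,51] .nil .nil)) (.node [50,56,55,52] (.node [54,57,55,51] .nil .nil) .nil))) (.node [51,51,52,52,50] (.node [54,50,54,51,51] (.node [53,51,51,52,50] (.node [52,52,57,53] .nil .nil) (.node [56,55,51,51] .nil .nil)) (.node [51,52,51,52] (.node [56,56,50,50] .nil .nil) .nil)) (.node [55,51,54,52,50] (.node [53,57,55,52] (.node [54,51,54,51,51] .nil .nil) .nil) (.node [50,52,54,52] (.node [51,58,50,53] .nil .nil) .nil)))) (.node [57,58,55,50] (.node [51,51,53,53] (.node [54,58,51] (.node [57,50,57,52] (.node [58,52,54,50] .nil .nil) (.node [54,56,58,50] .nil .nil)) (.node [55,52,51,51] (.node [51,52,58,53] .nil .nil) .nil)) (.node [54,52,55,56,50] (.node [55,57,53] (.node [50,52,54,51] .nil .nil) .nil) (.node [54,52,58,50,50] (.node [55,52,58,51] .nil .nil) .nil))) (.node [54,51,55,57,50]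 (.node [55,57,53,50] (.node [50,53,57,50] (.node [50,56,55,53] .nil .nil) (.node [54,52,58,50] .nil .nil)) (.node [57,57,55,52] (.node [53,55,56,53,50] .nil .nil) .nil)) (.node [56,52,51,51] (.node [52,58,57,50] (.node [53,53,53,50] .nil .nil) .nil) (.node [54,52,50,50] (.node [52,58,57,51] .nil .nil) .nil))))) (.node [53,57,58,53] (.node [56,51,57,52,50] (.node [57,55,51] (.node [50,58,54,51] (.node [56,50,50,55,50] (.node [54,53,55,52] .nil .nil) (.node [55,50,56,50] .nil .nil)) (.node [54,53,50,52,50] (.node [53,57,53,55,50] .nil .nil) .nil)) (.node [54,58,55,56,50] (.node [53,56,54,51] (.node [51,58,51] .nil .nil) .nil) (.node [52,57,51] (.node [52,50,53,51] .nil .nil) .nil))) (.node [54,52,51,57,50] (.node [54,54,51] (.node [54,57,54,52,50] (.node [53,57,51,52] .nil .nil) (.node [50,56,58,51] .nil .nil)) (.node [53,56,53,51] (.node [52,55,53] .nil .nil) .nil)) (.node [51,58,56,56,50] (.node [57,53,55,50] (.node [57,58,52,58,50] .nil .nil) .nil) (.node [53,56,58,52] (.node [56,58,56,52]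 .nil .nil) .nil)))) (.node [55,53,53,50] (.node [52,54,54,52,50] (.node [56,55,58,52,50] (.node [53,54,54,50] (.node [54,51,54,51] .nil .nil) (.node [50,56,55,51,51] .nil .nil)) (.node [50,53,58,50] (.node [55,50,57,52,50] .nil .nil) .nil)) (.node [52,54,52,50] (.node [58,54,51,53,50] (.node [57,51,54,51] .nil .nil) .nil) (.node [53,56,55,52] (.node [55,56,52,52,51] .nil .nil) .nil))) (.node [53,50,52,54,50] (.node [57,50,54,50,50] (.node [50,53,51,52] (.node [55,53,57,50] .nil .nil) (.node [52,51,55,53,50] .nil .nil)) (.node [54,53] (.node [56,58,53,50] .nil .nil) .nil)) (.node [58,56,50,52] (.node [51,52] (.node [56,58,54,50] .nil .nil) .nil) (.node [55,50,50,50] (.node [50,52,52,51] .nil .nil) .nil)))))))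

/-- A part. -/
noncomputable def mainWords2_5 : Arr (List ℕ) :=
  (.node [56,52,57,50,50] mainWords2_3 mainWords2_4)

/-- A part. -/
noncomputable def mainWords2_6 : Arr (List ℕ) :=
  (.node [52,57,51,52] mainWords2_2 mainWords2_5)

/-- A part. -/
noncomputable def mainWords2_7 : Arr (List ℕ) :=
  (.node [50,52] (.node [50,56,50,52] (.node [50,55,58,52] (.node [50,58,51] (.node [51,53,50,54,50] (.node [56,55,50,52] (.node [52,57,54,52] (.node [55,58,55,50] .nil .nil) (.node [52,56,53] .nil .nil)) (.node [55,52,56,50,50] (.node [54,56,56,52] .nil .nil) .nil)) (.node [53,54,50,52,50] (.node [58,54,51] (.node [58,50,55,50] .nil .nil) (.node [56,53,51,53] .nil .nil)) (.node [50,58,53] (.node [52,58,54,51] .nil .nil) .nil))) (.node [58,53,50,53] (.node [58,53,55,52] (.node [53,56,50,50,50] (.node [56,54,52,50] .nil .nil) (.node [52,51,57,50] .nil .nil)) (.node [54,56,55,53] (.node [53,58,50,50] .nil .nil) .nil)) (.node [51,58,51,52] (.node [58,56,53,50] (.node [50,53,50] .nil .nil) .nil) (.node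 [55,57,54,51] (.node [57,54,52,58,50] .nil .nil) .nil)))) (.node [53,53,53,53,50] (.node [56,53,58,50] (.node [57,52,57,51] (.node [51,57,50] (.node [50,57,50] .nil .nil) (.node [51,53,50,50] .nil .nil)) (.node [57,54,53,51] (.node [51,51] .nil .nil) .nil)) (.node [52,50,55,53] (.node [56,51,53,50] (.node [53,55,52,52,50] .nil .nil) .nil) (.node [53,53,51] (.node [51,58,51,53] .nil .nil) .nil))) (.node [50,55,51,51] (.node [54,57,53] (.node [54,58,51,52] (.node [57,55,57,52] .nil .nil) (.node [55,51,52,50] .nil .nil)) (.node [53,51,53,50] (.node [58,50,53] .nil .nil) .nil)) (.node [57,57,50,52,50] (.node [53,57,50,54,51] (.node [54,56,51,51] .nil .nil) .nil) (.node [53,56,53,50] (.node [52,57,50] .nil .nil) .nil))))) (.node [52,58,50,50] (.node [53,58,56,52] (.node [56,52,51,52,51] (.node [53,54,52,50] (.node [53,56,52] (.node [56,53,53,53,50] .nil .nil) (.node [58,53,50] .nil .nil)) (.node [51,55,51] (.node [54,57,54,58,50] .nil .nil) .nil)) (.node [54,57,58,50] (.node [55,50,52,50,50] (.node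 [53,51,58,51] .nil .nil) .nil) (.node [56,55,53] (.node [50,54,54,50] .nil .nil) .nil))) (.node [51,51,52,52] (.node [56,53,56,54,50] (.node [51,54,52,50,50] (.node [51,56,55,52] .nil .nil) (.node [58,53,58,51] .nil .nil)) (.node [54,58,50] (.node [56,50,58,52] .nil .nil) .nil)) (.node [58,51,53] (.node [51,56,55,50] (.node [52,58,50,53] .nil .nil) .nil) (.node [54,50,58,51] (.node [58,55,52,52,50] .nil .nil) .nil)))) (.node [50,56,52] (.node [57,57,55,51] (.node [58,50,58,51] (.node [53,53,56,54,50] (.node [51,53,51,54,51] .nil .nil) (.node [53,57,51,53] .nil .nil)) (.node [58,52,50] (.node [55,51,57,53,50] .nil .nil) .nil)) (.node [58,55,57,50] (.node [55,50,58,52] (.node [55,50,57,50,50] .nil .nil) .nil) (.node [58,52,50,52] (.node [51,52,52,50] .nil .nil) .nil))) (.node [53,51,52] (.node [57,52,50,53] (.node [57,52] (.node [52,56,58,52] .nil .nil) (.node [54,56,56,50] .nil .nil)) (.node [54,56,50,50,50] (.node [52,58,53,51] .nil .nil) .nil)) (.node [51,53,50,52,50] (.node [58,56,56,51]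 (.node [50,52,56,51] .nil .nil) .nil) (.node [54,57,51,52] (.node [53,56,55,53] .nil .nil) .nil)))))) (.node [54,54,51,52] (.node [51,57,51,52] (.node [54,54,52,52] (.node [57,55,53,51,51] (.node [51,57,52] (.node [57,52,57,50] (.node [57,58,53,51] .nil .nil) (.node [55,51,54,51] .nil .nil)) (.node [50,54,51,52] (.node [52,55,52,52] .nil .nil) .nil)) (.node [50,56,53] (.node [53,54,50] (.node [50,58,53,53,50] .nil .nil) (.node [51,51,55,50] .nil .nil)) (.node [50,55,52,50] (.node [53,56,50,53] .nil .nil) .nil))) (.node [57,50,55,51,51] (.node [54,52,51,51] (.node [53,58,51,53] (.node [53,55,51] .nil .nil) (.node [57,50,57,50] .nil .nil)) (.node [53,58,54,52] (.node [54,52,58,53,50] .nil .nil) .nil)) (.node [50,50,55,50,50] (.node [51,54,50,52] (.node [54,53,51] .nil .nil) .nil) (.node [55,50,52,50] (.node [57,52,51] .nil .nil) .nil)))) (.node [55,53,54,50,50] (.node [58,52,57,51] (.node [58,52,52] (.node [51,53,51,52,51] (.node [51,53,55,50] .nil .nil) (.node [50,53,51] .nil .nil)) (.node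 [54,57,57,52] (.node [50,56,52,52] .nil .nil) .nil)) (.node [54,50,52,50,50] (.node [56,52,58,53,50] (.node [52,54,58,52,50] .nil .nil) .nil) (.node [51,57,51,53] (.node [57,54,52,50] .nil .nil) .nil))) (.node [54,52,54,51] (.node [56,55,57,52,50] (.node [55,53,50,52] (.node [53,55,50] .nil .nil) (.node [52,50,57,50] .nil .nil)) (.node [54,56,50,50] (.node [52,52,54,52,50] .nil .nil) .nil)) (.node [53,50,52] (.node [51,54,53,51] (.node [50,58,55,50] .nil .nil) .nil) (.node [58,53,56,52] (.node [53,50,53,53,51] .nil .nil) .nil))))) (.node [53,55,53,50] (.node [54,53,54,50,50] (.node [50,56,56,50,50] (.node [52,56,50,50] (.node [55,52,57,51] (.node [56,51,54,53] .nil .nil) (.node [50,53,56,53] .nil .nil)) (.node [50,54,52,50] (.node [56,51,56,52] .nil .nil) .nil)) (.node [58,55,52] (.node [53,50,58,50] (.node [52,54,52,54,50] .nil .nil) .nil) (.node [57,52,55,50,50] (.node [56,56,54,52] .nil .nil) .nil))) (.node [56,53,50,53] (.node [57,51,52,51,52] (.node [54,57,54,51] (.node [52,50,54,51]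 .nil .nil) (.node [52,54,57,53] .nil .nil)) (.node [53,58,54,51] (.node [52,51,51,57,50] .nil .nil) .nil)) (.node [55,58,52,52] (.node [56,52,50,50] (.node [55,58,52,50] .nil .nil) .nil) (.node [53,51,52,51] (.node [57,51,52,56,50] .nil .nil) .nil)))) (.node [56,53,58,50,50] (.node [54,57,50,53] (.node [52,51] (.node [53,53,56,50] (.node [52,56,56,54,50] .nil .nil) (.node [58,50,54,51] .nil .nil)) (.node [53,50,56,55,50] (.node [52,50,54,52] .nil .nil) .nil)) (.node [58,53,56,50] (.node [58,57,55,51] (.node [54,50,57,50,50] .nil .nil) .nil) (.node [54,57,51] (.node [53,50,50] .nil .nil) .nil))) (.node [52,54,58,52] (.node [53,58,54,50] (.node [58,50,52,50] (.node [54,56,54,51] .nil .nil) (.node [56,52,51,52] .nil .nil)) (.node [50,52,57,52,50] (.node [54,52,50,54,51] .nil .nil) .nil)) (.node [52,50,58,53,50] (.node [54,58,50,52,50] (.node [53,55,57,51] .nil .nil) .nil) (.node [50,58,52,54,50] (.node [52,54,56,50] .nil .nil) .nil)))))))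

/-- A part. -/
noncomputable def mainWords2_8 : Arr (List ℕ) :=
  (.node [54,52,54,52,50] (.node [55,58,50,52,50] (.node [54,52,52,52] (.node [56,50,55,53] (.node [57,50,56,53] (.node [55,50,53,53] (.node [51,51,53,50] (.node [57,51,52] .nil .nil) (.node [53,51,55,50] .nil .nil)) (.node [51,53,58,50] (.node [56,51,51] .nil .nil) .nil)) (.node [56,53,50,52] (.node [53,51,56,56,50] (.node [57,52,56,53] .nil .nil) (.node [56,50,56,50] .nil .nil)) (.node [55,57,57,53] (.node [56,55,53,56,50] .nil .nil) .nil))) (.node [50,52,58,50] (.node [58,51,56,52] (.node [58,52,54,51] (.node [50,54,53,50] .nil .nil) (.node [53,50,54,52] .nil .nil)) (.node [57,53,57,50] (.node [55,52,57,53] .nil .nil) .nil)) (.node [57,52,51,51] (.node [53,54,51,53,50] (.node [53,55,52,54,50] .nil .nil) .nil) (.node [56,53,50] (.node [57,58,50,52] .nil .nil) .nil)))) (.node [57,55,50] (.node [54,54,52,50] (.node [52,52] (.node [55,51,56,54,50] (.node [50,57,51] .nil .nil) (.node [56,55,58,53] .nil .nil)) (.node [57,58,57,53]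 (.node [52,50,58,50] .nil .nil) .nil)) (.node [55,50,56,50,50] (.node [57,51,54,52] (.node [57,55,51,51] .nil .nil) .nil) (.node [55,51,55,50] (.node [58,56,53,50,50] .nil .nil) .nil))) (.node [50,57,53,56,50] (.node [54,53,58,51] (.node [55,58,53] (.node [58,50,50] .nil .nil) (.node [58,50,53,50] .nil .nil)) (.node [54,56,55,52,50] (.node [55,52,58,52] .nil .nil) .nil)) (.node [56,52,56,54,50] (.node [52,57,50,50,50] (.node [51,58,52,50] .nil .nil) .nil) (.node [58,56,54,52] (.node [51,53,57,53] .nil .nil) .nil))))) (.node [55,50,52] (.node [53,56,56,50,50] (.node [50,53,51,57,50] (.node [58,56,52,51] (.node [50,57,54,52,50] (.node [50,54,56,53] .nil .nil) (.node [51,56,55,51] .nil .nil)) (.node [51] (.node [56,55,52,50] .nil .nil) .nil)) (.node [57,54,53] (.node [55,51,54,50,50] (.node [52,50,56,50,50] .nil .nil) .nil) (.node [51,53,51] (.node [50,54,54,51] .nil .nil) .nil))) (.node [51,53,51,52] (.node [55,57,50] (.node [50,52,57,51] (.node [58,51,51] .nil .nil) (.node [53,57,58,50,50]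 .nil .nil)) (.node [53,55,58,52] (.node [54,52,58,51] .nil .nil) .nil)) (.node [51,54,51,56,50] (.node [50,54,56,50] (.node [57,50,58,50] .nil .nil) .nil) (.node [55,58,56,53] (.node [50,56,52,50] .nil .nil) .nil)))) (.node [51,54,51] (.node [56,51,56,52,50] (.node [57,58,57,51] (.node [54,50,54,50,50] (.node [57,50,55,53,50] .nil .nil) (.node [52,56,55,51] .nil .nil)) (.node [57,53,50,50,50] (.node [54,52,55,52,50] .nil .nil) .nil)) (.node [51,55,51,52] (.node [52,58,54,56,50] (.node [56,53,54,50] .nil .nil) .nil) (.node [54,56,53,53] (.node [54,56,55,52] .nil .nil) .nil))) (.node [58,53,56,51] (.node [56,52,55,50] (.node [58,56,51] (.node [50,57,50,50,50] .nil .nil) (.node [52,52,58,50] .nil .nil)) (.node [53,53,50,54,50] (.node [53,51,52,52] .nil .nil) .nil)) (.node [54,52,51,53] (.node [52,57,55,52] (.node [51,53,54,52] .nil .nil) .nil) (.node [58,51,58,53] (.node [57,50,57,53,50] .nil .nil) .nil)))))) (.node [53,54,52] (.node [58,57,52,50] (.node [54,54,58,50] (.node [54,52,55,52] (.node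 [55,50,58,51] (.node [57,51,52,52,50] (.node [56,51] .nil .nil) (.node [58,50,55,50,50] .nil .nil)) (.node [51,57,58,56,50] (.node [51,54,54,51] .nil .nil) .nil)) (.node [52,56,54,50] (.node [58,57,57,51] (.node [57,52,58,52,52] .nil .nil) (.node [58,56,51,52] .nil .nil)) (.node [53,53,53] (.node [50,57,52] .nil .nil) .nil))) (.node [57,51,52,51] (.node [53,51,56,51] (.node [54,56,54,50] (.node [54,51,58,52,50] .nil .nil) (.node [51,56,52,57,50] .nil .nil)) (.node [57,51,54,51,51] (.node [54,52,51,52] .nil .nil) .nil)) (.node [58,54,52] (.node [58,55,50,52,50] (.node [56,51,55,50,50] .nil .nil) .nil) (.node [51,54,52,55,50] (.node [57,53,53,50,50] .nil .nil) .nil)))) (.node [52,54,58,53] (.node [56,56,54,51] (.node [55,52,57,52] (.node [53,58,52,50,50] (.node [50,53,57,51] .nil .nil) (.node [51,58,54,51] .nil .nil)) (.node [56,55,50,50,50] (.node [53,58,56,51] .nil .nil) .nil)) (.node [58,54,58,53] (.node [51,56,58,53] (.node [51,52,58,57,50] .nil .nil) .nil) (.node [58,54,54,50] (.node [54,57,53,57,50]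 .nil .nil) .nil))) (.node [53,56,54,53] (.node [57,57,53] (.node [52,57,57,51] (.node [57,58,53] .nil .nil) (.node [56,51,51,53] .nil .nil)) (.node [56,51,53,50,50] (.node [58,56,50,53] .nil .nil) .nil)) (.node [58,56,52,52] (.node [53,51,51,51] (.node [51,55,56,50] .nil .nil) .nil) (.node [54,50,57,50] (.node [58,53,53] .nil .nil) .nil))))) (.node [50,54,57,51] (.node [51,56,54,50] (.node [53,55,52,50] (.node [54,56,53,50] (.node [56,53,54,52] (.node [51,56,54,52] .nil .nil) (.node [58,52,56,53,50] .nil .nil)) (.node [53,50,54,50] (.node [50,58,52,50,50] .nil .nil) .nil)) (.node [54,53,56,53,50] (.node [56,50,54,52] (.node [56,52,50,52] .nil .nil) .nil) (.node [56,50] (.node [50,58,57,52] .nil .nil) .nil))) (.node [56,54,53] (.node [56,53,51,51] (.node [53,56,58,51] (.node [53,58,57,52] .nil .nil) (.node [51,53,50] .nil .nil)) (.node [57,52,50] (.node [52,52,50,53] .nil .nil) .nil)) (.node [53,57,57,50] (.node [55,50,56,52,50] (.node [50,50,53,50] .nil .nil) .nil) (.node [54,53,55,51] (.node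 [50,55,51,52] .nil .nil) .nil)))) (.node [55,50,54,50,50] (.node [51,56,54,53] (.node [54,51,56,52] (.node [52,54,53,51] (.node [53,50,50,50] .nil .nil) (.node [56,52,57,50] .nil .nil)) (.node [57,58,53,50,50] (.node [57,54,57,51] .nil .nil) .nil)) (.node [57,57,51,52] (.node [53,58,50] (.node [50,50,52] .nil .nil) .nil) (.node [50,54,52] (.node [53,50,58,50,50] .nil .nil) .nil))) (.node [58,51,52] (.node [57,53,53,50] (.node [50,58,55,50,50] (.node [53,50,58,52] .nil .nil) (.node [53,57,51,56,50] .nil .nil)) (.node [52,57,50,53] (.node [51,54,52,50] .nil .nil) .nil)) (.node [52,56,54,53] (.node [56,58,57,52] (.node [55,50,52,54,50] .nil .nil) .nil) (.node [50,54,58,53,50] (.node [55,51,51] .nil .nil) .nil)))))))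

/-- A part. -/
noncomputable def mainWords2_9 : Arr (List ℕ) :=
  (.node [53,51,52,50] mainWords2_7 mainWords2_8)

/-- A part. -/
noncomputable def mainWords2_10 : Arr (List ℕ) :=
  (.node [51,58,53,50,50] (.node [50,57,53,50] (.node [54,50,50] (.node [56,56,53] (.node [58,54,53,50] (.node [57,54,56,53] (.node [56,52,54,52] (.node [55,51] .nil .nil) (.node [58,52] .nil .nil)) (.node [56,54,53,50,50] (.node [51,53,51,53] .nil .nil) .nil)) (.node [55,53] (.node [50,58,54,50] (.node [58,51,54,52] .nil .nil) (.node [58,52,55,50] .nil .nil)) (.node [54,52] (.node [56,50,57,52,50] .nil .nil) .nil))) (.node [54,54,53,58,50] (.node [52,58,56,50] (.node [53,53,54,50,50] (.node [56,55,57,52] .nil .nil) (.node [52,58,50,52] .nil .nil)) (.node [56,52,51,53] (.node [53,53,58,51] .nil .nil) .nil)) (.node [54,58,57,50] (.node [51,55,53,57,50] (.node [50,57,58,51] .nil .nil) .nil) (.node [54,50] (.node [50,54,57,53] .nil .nil) .nil)))) (.node [54,51,58,55,50] (.node [51,53,51,51] (.node [55,52,55,50,52]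 (.node [53,58,55,51] (.node [52,50,58,51] .nil .nil) (.node [55,53,58,50] .nil .nil)) (.node [51,56,50,52] (.node [57,50,55,52,50] .nil .nil) .nil)) (.node [51,57,52,50] (.node [54,57,53,50] (.node [50,57,53] .nil .nil) .nil) (.node [50,56,53,50] (.node [52,57,52,50] .nil .nil) .nil))) (.node [56,53,54,52,50] (.node [55,57,50,52] (.node [57,52,54,50] (.node [55,57,50,50] .nil .nil) (.node [52,57,58,52] .nil .nil)) (.node [51,57,50,50] (.node [51,55,52,50] .nil .nil) .nil)) (.node [51,56,50] (.node [53,54,53] (.node [57,57,52,50] .nil .nil) .nil) (.node [55,50,54,50] (.node [56,53,55,51,51] .nil .nil) .nil))))) (.node [55,58,50,52] (.node [52,58,55,53,50] (.node [55,51,56,52,50] (.node [58,56,53,50,52] (.node [56,51,56,51] (.node [56,55,50] .nil .nil) (.node [51,53,54,53] .nil .nil)) (.node [58,53,50,54,50] (.node [51,55,51,52,50] .nil .nil) .nil)) (.node [53,54,56,50,50] (.node [51,56,51,52] (.node [54,51,52,52] .nil .nil) .nil) (.node [52,52,50,50,50] (.node [58,56,52] .nil .nil) .nil)))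 (.node [55,56,52,50,50] (.node [53,56,50] (.node [54,58,55,53,51] (.node [56,58,55,51] .nil .nil) (.node [55,50,56,53,50] .nil .nil)) (.node [58,54,52,57,50] (.node [57,50,52] .nil .nil) .nil)) (.node [56,52,52,51] (.node [51,52,54,54,50] (.node [54,56,53,50,50] .nil .nil) .nil) (.node [53,54,53,55,50] (.node [50,50,58,51] .nil .nil) .nil)))) (.node [57,57,50,50,50] (.node [56,55,52,54,50] (.node [58,55,53,50] (.node [56,56,52,51] (.node [53,54,58,50] .nil .nil) (.node [55,57,52,51] .nil .nil)) (.node [55,56,56,51] (.node [51,52,55,53] .nil .nil) .nil)) (.node [57,57,57,50] (.node [58,55,53,50,50] (.node [58,53,55,51] .nil .nil) .nil) (.node [52,52,52,51] (.node [56,52,54,50] .nil .nil) .nil))) (.node [58,56,50,52,50] (.node [57,52,52,52] (.node [54,51,53,51] (.node [52,55,50] .nil .nil) (.node [52,55,52] .nil .nil)) (.node [54,52,56,52] (.node [52,50,57,51] .nil .nil) .nil)) (.node [51,56,51,51] (.node [52,51,53,50,50] (.node [52,54,50] .nil .nil) .nil) (.node [52,54,53,50] (.node [54,54,50,53]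 .nil .nil) .nil)))))) (.node [58,51,57,50,50] (.node [52,50,52,51] (.node [57,58,50] (.node [57,53,56,50] (.node [56,53,51,52] (.node [56,54,51,52] (.node [55,52,55,52] .nil .nil) (.node [53,58,51] .nil .nil)) (.node [52,52,50,53,50] (.node [54,51,51] .nil .nil) .nil)) (.node [57,51,53,51] (.node [57,50,53,50] (.node [52,52,58,51] .nil .nil) (.node [53,57,58,52] .nil .nil)) (.node [58,50,52,51,51] (.node [52,56,54,52] .nil .nil) .nil))) (.node [58,54,51,52] (.node [56,56,51,52] (.node [50,53,55,50,50] (.node [53,54,56,53] .nil .nil) (.node [57,52,58,50,50] .nil .nil)) (.node [55,52,51,53] (.node [50,50,54,51] .nil .nil) .nil)) (.node [55,52,56,50] (.node [51,58,55,50] (.node [52,51,57,51] .nil .nil) .nil) (.node [52,52,58,52] (.node [50,53,54,50,50] .nil .nil) .nil)))) (.node [50,57,54,53] (.node [50,58,53,50] (.node [53,53,51,52,50] (.node [53,54,50,53] (.node [56,50,50] .nil .nil) (.node [57,51,54,50] .nil .nil)) (.node [51,51,54,51] (.node [53,50,57,50] .nil .nil) .nil)) (.node [50,50,54,52,50]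 (.node [55,58,57,53] (.node [51,52,58,50] .nil .nil) .nil) (.node [52,51,51] (.node [54,52,50,52] .nil .nil) .nil))) (.node [53,57,55,53] (.node [55,57,52] (.node [51,57,54,54,50] (.node [58,53] .nil .nil) (.node [57,55,50,52] .nil .nil)) (.node [58,53,54,52] (.node [51,55,57,53,50] .nil .nil) .nil)) (.node [53,55,52,52] (.node [55,52,52,52,50] (.node [52,51,56,53,50] .nil .nil) .nil) (.node [57,54,51] (.node [53,54,58,53] .nil .nil) .nil))))) (.node [53,50,58,51] (.node [58,57,55,50] (.node [50,50,53] (.node [54,53,50,50] (.node [55,56,55,52,50] (.node [55,56,55,52] .nil .nil) (.node [54,52,56,52,50] .nil .nil)) (.node [56,54,54,51] (.node [50,58,50] .nil .nil) .nil)) (.node [58,57,53,50] (.node [50,52,51] (.node [55,56,58,51] .nil .nil) .nil) (.node [54,50,53] (.node [58,52,50,50] .nil .nil) .nil))) (.node [51,54,56,50] (.node [57,58,51] (.node [55,57,51] (.node [58,53,53,53,50] .nil .nil) (.node [52,55,56,50] .nil .nil)) (.node [55,56,52,51] (.node [57,51,52,50] .nil .nil) .nil)) (.node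 [54,54,50,52] (.node [51,53,58,53,50] (.node [51,51,57,51] .nil .nil) .nil) (.node [50,52,55,52] (.node [53,50,52,50] .nil .nil) .nil)))) (.node [51,51,56,50] (.node [57,52,58,51] (.node [53,51,51] (.node [50,58,53,55,50] (.node [55,50,52,52,51] .nil .nil) (.node [56,52,51,52,50] .nil .nil)) (.node [50,50,50,57,51] (.node [53,58,56,55,50] .nil .nil) .nil)) (.node [57,50,52,50] (.node [56,52,58,50] (.node [58,54,56,58,50] .nil .nil) .nil) (.node [57,50,56,50] (.node [58,53,53,50,50] .nil .nil) .nil))) (.node [54,56,51,52] (.node [58,50,56,52] (.node [51,53,50,53] (.node [56,56,55,53] .nil .nil) (.node [50,53,57,57,50] .nil .nil)) (.node [53,50,53] (.node [58,53,50,50] .nil .nil) .nil)) (.node [53,56,53,50,50] (.node [55,52,57,50] (.node [51,54,51,54,50] .nil .nil) .nil) (.node [54,50,55,50,50] (.node [53,55,53] .nil .nil) .nil)))))))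

/-- A part. -/
noncomputable def mainWords2_11 : Arr (List ℕ) :=
  (.node [53,56,52,50,50] (.node [51,55,53,50] (.node [54,52,52,52,50] (.node [56,58,57,53,50] (.node [53,50,54,50,52] (.node [58,53,51] (.node [57,52,55,50] (.node [50,55,56,54,50] .nil .nil) (.node [52,52,51,53] .nil .nil)) (.node [58,53,57,50] (.node [58,50,50,53,50] .nil .nil) .nil)) (.node [53,53,50] (.node [52,54,51,51] (.node [55,57,52,50] .nil .nil) (.node [57,50,54,51] .nil .nil)) (.node [55,51,53] (.node [53,57,55,53,50] .nil .nil) .nil))) (.node [55,56,58,52] (.node [50,55,57,53,50] (.node [57,57,55,52,50] (.node [57,55,52,50] .nil .nil) (.node [53,51,57,52,50] .nil .nil)) (.node [56,56,56,53] (.node [54,56,50,52,51] .nil .nil) .nil)) (.node [55,50,53] (.node [52,58,54,50,50] (.node [51,52,51,53] .nil .nil) .nil) (.node [52,57,53] (.node [56,58,54,51] .nil .nil) .nil)))) (.node [58,56,54,50] (.node [50,50,50] (.node [50,57,50,52,50] (.node [54,56,52,51] (.node [51,54,50,50] .nil .nil) (.node [53,50,52,58,50] .nil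 .nil)) (.node [52,58,54,53] (.node [57,52,57,50,50] .nil .nil) .nil)) (.node [54,57,51,58,50] (.node [51,56,52] (.node [53,54,58,50,50] .nil .nil) .nil) (.node [58,57,50] (.node [55,56,54,51] .nil .nil) .nil))) (.node [53,57,50] (.node [52,54,56,54,50] (.node [53,58,54,53] (.node [57,58,54,52] .nil .nil) (.node [56,52] .nil .nil)) (.node [54,56,50] (.node [57,53,53,53,51] .nil .nil) .nil)) (.node [53,56,53] (.node [56,55,51] (.node [51,56,56,58,50] .nil .nil) .nil) (.node [55,56,51,52] (.node [50,57,55,52] .nil .nil) .nil))))) (.node [56,56,56,50] (.node [54,51,58,57,50] (.node [57,55,56,52] (.node [51,55,51,51] (.node [54,58,50,50] (.node [55,51,52,51] .nil .nil) (.node [57,52,58,55,50] .nil .nil)) (.node [57,57,52] (.node [52,57,50,56,50] .nil .nil) .nil)) (.node [58,55,58,52] (.node [52,51,57,50,50] (.node [53,53,58,53,50] .nil .nil) .nil) (.node [52,51,54,52] (.node [52,56,52,50] .nil .nil) .nil))) (.node [57,57,58,56,50] (.node [57,54,52,52] (.node [54,50,52,50] (.node [50,53,51,55,50]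 .nil .nil) (.node [52,52,57,50,50] .nil .nil)) (.node [58,52,58,50,50] (.node [54,52,50] .nil .nil) .nil)) (.node [57,53,55,50,50] (.node [58,54,53,56,50] (.node [58,56,55,52] .nil .nil) .nil) (.node [50,57,52,51] (.node [51,58,55,51] .nil .nil) .nil)))) (.node [51,56,54,51] (.node [53,55,58,50] (.node [55,57,51,53] (.node [58,52,55,51] (.node [51,52,52,51] .nil .nil) (.node [50,55,51] .nil .nil)) (.node [54,57,57,53] (.node [55,53,58,50,50] .nil .nil) .nil)) (.node [52,50,54,56,50] (.node [51,51,51,53] (.node [54,54,50,50] .nil .nil) .nil) (.node [52,55,58,52,50] (.node [50,54,50,52] .nil .nil) .nil))) (.node [56,51,57,52] (.node [57,52,54,52,50] (.node [55,56,52] (.node [53,51,55,53,50] .nil .nil) (.node [52,57,54,53] .nil .nil)) (.node [51,56,56,51] (.node [51,53,55,52,50] .nil .nil) .nil)) (.node [51,58,53] (.node [54,52,56,53,50] (.node [52,55,50,52] .nil .nil) .nil) (.node [56,50,52] (.node [56,58,57,57,51] .nil .nil) .nil)))))) (.node [55,51,57,51] (.node [57,58,54,51] (.node [51,52,50,50]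 (.node [52,56,51] (.node [51,53,53] (.node [56,58,57,51] (.node [54,54,50,54,50] .nil .nil) (.node [51,58,51,51] .nil .nil)) (.node [51,52,51] (.node [50,55,53,51] .nil .nil) .nil)) (.node [53,56,58,53] (.node [57,58,52] (.node [51,58,52] .nil .nil) (.node [55,58,54,53] .nil .nil)) (.node [54,56,56,51] (.node [53,55,51,51] .nil .nil) .nil))) (.node [54,52,57,52,50] (.node [52,58,52,52] (.node [56,56,54,50] (.node [55,50,55,50] .nil .nil) (.node [56,50,53,53] .nil .nil)) (.node [53,51,58,53] (.node [57,52,58,50] .nil .nil) .nil)) (.node [58,55,51,53] (.node [51,53,54,50] (.node [56,58,50,53] .nil .nil) .nil) (.node [51,52,56,50] (.node [56,51,52] .nil .nil) .nil)))) (.node [50,50,50,53] (.node [55,57,58,50] (.node [57,54,54,52,50] (.node [58,51,56,51] (.node [50,53,51,58,50] .nil .nil) (.node [50,55,57,50] .nil .nil)) (.node [50,52,50,55,50] (.node [57,52,56,50] .nil .nil) .nil)) (.node [54,51,54,50,50] (.node [50,56,55,50] (.node [52,56,53,50] .nil .nil) .nil) (.node [57,58,56,50] (.node [58,55,53,51]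 .nil .nil) .nil))) (.node [52,51,52,51] (.node [58,50,52] (.node [58,50,57,55,50] (.node [53,50,55,50] .nil .nil) (.node [52,54,50,52] .nil .nil)) (.node [58,51,53,53,50] (.node [51,54,57,52,50] .nil .nil) .nil)) (.node [57,58,53,53,50] (.node [53,58,53,50] (.node [54,53,57,50] .nil .nil) .nil) (.node [50,52,50,50] (.node [55,52,52,51] .nil .nil) .nil))))) (.node [58,53,51,51] (.node [51,52,51,54,50] (.node [52,56,55,52,50] (.node [51,58,53,50] (.node [55,58,57,51] (.node [50,54,54,52] .nil .nil) (.node [56,51,56,50,52] .nil .nil)) (.node [58,51] (.node [52,58,53,50] .nil .nil) .nil)) (.node [57,54,54,50] (.node [51,54,53] (.node [54,52,50,53] .nil .nil) .nil) (.node [50,50,57,52,50] (.node [51,52,57,52] .nil .nil) .nil))) (.node [57,57,50] (.node [52,50,50,50] (.node [50,58,52] (.node [54,58,55,53,50] .nil .nil) (.node [57,50,56,51] .nil .nil)) (.node [54,56,55,51] (.node [50,50,55,51] .nil .nil) .nil)) (.node [51,54,51,51] (.node [54,50,52,51] (.node [53,53] .nil .nil) .nil) (.node [58,56,50,50,50]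 (.node [51,51,53,51] .nil .nil) .nil)))) (.node [53,57,54,52,50] (.node [52,54,52,52] (.node [52,56,50] (.node [50,53,53] (.node [55,58,53,57,50] .nil .nil) (.node [51,54,52,52] .nil .nil)) (.node [52,50,56,55,50] (.node [55,52,50] .nil .nil) .nil)) (.node [52,54,52] (.node [52,50,56,51] (.node [57,57,52,50,50] .nil .nil) .nil) (.node [51,55,50,52,50] (.node [55,56,58,50] .nil .nil) .nil))) (.node [58,55,52,57,50] (.node [50,58,56,50] (.node [54,58,54,50] (.node [54,58,55,52] .nil .nil) (.node [52,50,54,50,50] .nil .nil)) (.node [55,50,55,56,50] (.node [56,58,52,50] .nil .nil) .nil)) (.node [57,58,52,52] (.node [55,57,55,50] (.node [54,57,55,53] .nil .nil) .nil) (.node [55,58,57,52] (.node [53,50,56,54,50] .nil .nil) .nil)))))))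

/-- A part. -/
noncomputable def mainWords2_12 : Arr (List ℕ) :=
  (.node [56,56,52] mainWords2_10 mainWords2_11)

/-- A part. -/
noncomputable def mainWords2_13 : Arr (List ℕ) :=
  (.node [54,58,52,52] mainWords2_9 mainWords2_12)

/-- A part. -/
noncomputable def mainWords2_14 : Arr (List ℕ) :=
  (.node [] mainWords2_6 mainWords2_13)

/-- The array. -/
noncomputable def mainWords2 : Arr (List ℕ) := mainWords2_14

/-- A part. -/
noncomputable def mainWords3_0 : Arr (List ℕ) :=
  (.node [58,56,55] (.node [58,56,55,56,54] (.node [57,55,58,54,56] (.node [54,56,58,57,54] (.node [57,58,57,57,54] (.node [57,57,55,57,55] (.node [54,58,54,57,55] (.node [57,58,55,57,55] .nil .nil) (.node [58,57,58,55,57,54] .nil .nil)) (.node [54,54,57,57,54,57] (.node [55,58,55] .nil .nil) (.node [54,57,57,55] .nil .nil))) (.node [56,55,56,55,57] (.node [55,58,57,57,58,55] (.node [58,56,54,56,58,54] .nil .nil) (.node [55,58,57,55] .nil .nil)) (.node [56,55,56,58,54] (.node [54,57] .nil .nil) (.node [57,55,56,58,55,56,54]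 .nil .nil)))) (.node [56,55,56,58,56] (.node [58,57,58,54] (.node [57,55,58,55] (.node [55,57,57] .nil .nil) (.node [55,57,55] .nil .nil)) (.node [58,55,58,56] (.node [56,55,58,54,57] .nil .nil) (.node [55,57,57,54] .nil .nil))) (.node [57,58,57,54,58,54,54] (.node [54,56,55,56,54] (.node [57,55,57,57,54] .nil .nil) (.node [56,56,54,58,54,54] .nil .nil)) (.node [56,54,57,58,57,54] (.node [58,57,55,56,56,55] .nil .nil) .nil)))) (.node [56,54,57,57,54,54] (.node [57,58,55,57,57] (.node [54,56,56,56,54] (.node [55,58,54,57,54] (.node [58,55,56] .nil .nil) (.node [56,58,56,58,56] .nil .nil)) (.node [55,56] (.node [54,56,54,58,57,54] .nil .nil) (.node [57,55,56] .nil .nil))) (.node [57,57,54,58,54] (.node [57,54,54] (.node [58,54,58,55] .nil .nil) (.node [56,56,54,58,57,55] .nil .nil)) (.node [58,57,57,54,56,54] (.node [58,57,58,57,58,54] .nil .nil) .nil))) (.node [54,58,57,57,54,54] (.node [56,56,54,58,56] (.node [54,56,55,58,54] (.node [55,56,55,58,56] .nil .nil) (.node [56,54,58,54] .nil .nil))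 (.node [56,55,57,57,57,54] (.node [57,54,58,56,56] .nil .nil) (.node [58,54,57,58,57,54] .nil .nil))) (.node [57,57,57,55] (.node [58,57,54,58,55,56] (.node [56,56,56,58,54] .nil .nil) (.node [55,57,57,54,56,56] .nil .nil)) (.node [58,54,56,58,55] (.node [56,56,56,58,56,55] .nil .nil) .nil))))) (.node [56,58,54] (.node [54,58,57,54,56] (.node [54,54,57,57,54] (.node [57,57,55,57] (.node [55,57,57,57] (.node [57,55,57,57,54,54] .nil .nil) (.node [56,54,56,56,55,56,54] .nil .nil)) (.node [56,56,56,56,56] (.node [58,56,56,54] .nil .nil) (.node [55,58,57,55,57] .nil .nil))) (.node [54,58,56,56,58,54] (.node [57,58,56,54,56] (.node [58,57,55,57,54] .nil .nil) (.node [57,55,57,57,55,56] .nil .nil)) (.node [54,58,57,55,56] (.node [58,55,56,55,57,54] .nil .nil) (.node [56,56,54,57,54] .nil .nil)))) (.node [57,57,58,57,54] (.node [58,56,55,57] (.node [56,56,58,55,57] (.node [55,58,57,57] .nil .nil) (.node [58,54,57,54] .nil .nil)) (.node [54,56,56,58,54] (.node [58,54,58,56,56,56] .nil .nil) (.node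 [57,55,57,58,57] .nil .nil))) (.node [56,58,57,54,57,54] (.node [54,58,55,57,57,54] (.node [54,57,57,55,56,56] .nil .nil) (.node [57,57,57] .nil .nil)) (.node [55,56,56,55] (.node [58,57,58,55,56] .nil .nil) .nil)))) (.node [56,54,58,55] (.node [56,58,55,56] (.node [58,57,55,58,56] (.node [54,56,55,58,55] (.node [58,57,57,55,56,54] .nil .nil) (.node [58,57] .nil .nil)) (.node [55,56,56,55,57] (.node [56,56,56,56] .nil .nil) (.node [57,55,56,54] .nil .nil))) (.node [56,54,57,57] (.node [57,58,54,57,54] (.node [56,54,56,56,55,56] .nil .nil) (.node [58,54,58,57] .nil .nil)) (.node [54,57,57,57,54] (.node [55,57,54,58,57,55] .nil .nil) .nil))) (.node [56,55,56,56,55] (.node [58,57,55,58,54,56] (.node [54,58,56,56,58,55] (.node [54,56,54,58,56] .nil .nil) (.node [58,55,57,54,57] .nil .nil)) (.node [57,55] (.node [57,57,58,54] .nil .nil) (.node [57,54,57,54,56,54] .nil .nil))) (.node [57,55,57] (.node [55,58,57,55,57,54] (.node [57,54,57,57,54,56] .nil .nil) (.node [54,56,55] .nil .nil)) (.node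 [58,57,57,57,55] (.node [54,58,54,54] .nil .nil) .nil)))))) (.node [56,56,56,55,56,54] (.node [57,54,56,55,56,54] (.node [54,57,54,56,54] (.node [54,56,58,54] (.node [56,54,56,58,56] (.node [54,56,58,56] (.node [54,57,54,56] .nil .nil) (.node [54,58,57,55,57,55] .nil .nil)) (.node [56,54,58,57] (.node [58,57,58,57,54,54] .nil .nil) (.node [58,55,58,55,57] .nil .nil))) (.node [55,56,55,58,57,54] (.node [57,58,57,54,56,55] (.node [56,55,58,57,54] .nil .nil) (.node [57,57,55,58,56] .nil .nil)) (.node [55,56,54,56,55] (.node [54,57,58,57,54] .nil .nil) (.node [57,57,55,58,54] .nil .nil)))) (.node [56,55,58,54,56] (.node [55,57,55,56,54] (.node [54,56,56,55] (.node [56,54,56,56,54] .nil .nil) (.node [58,56,55,56,56] .nil .nil)) (.node [56,54,56,54,57,54] (.node [57,54,57,57,55,57] .nil .nil) (.node [55,58,57,57,54] .nil .nil))) (.node [54,57,55,56] (.node [54,56,56,55,56,54] (.node [58,56,54,57,58,57] .nil .nil) (.node [56,58,57,54,56,54] .nil .nil)) (.node [57,55,56,56,54] (.node [56,54,56,56,55]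 .nil .nil) .nil)))) (.node [55,58,56,56,58,55] (.node [55,56,56,58,54] (.node [56,55,56,56,56] (.node [58,55,56,54,57,54] (.node [54,54,56,56] .nil .nil) (.node [58,54] .nil .nil)) (.node [55,56,58,57,54] (.node [57,54,58,57,54] .nil .nil) (.node [56,55,56] .nil .nil))) (.node [57,54,57,54,56] (.node [56,54,56,58,54] (.node [58,57,55,56,54] .nil .nil) (.node [56,55,57,54,58,55] .nil .nil)) (.node [58,54,57,57,57,54] (.node [57,55,58,54] .nil .nil) .nil))) (.node [57,58,55,56,56,54] (.node [57,57,57,54,56] (.node [57,54,58,55,57] (.node [55,56,55,57,55] .nil .nil) (.node [56,55,56,58,57,54] .nil .nil)) (.node [54,57,55,56,54] (.node [57,54,56,55] .nil .nil) (.node [56,54,57,57,55,56] .nil .nil))) (.node [58,57,55] (.node [57,58,54] (.node [54,56,55,57,54] .nil .nil) (.node [56,56,58,55,56,54] .nil .nil)) (.node [58,54,57,57,54,56] (.node [55,58,57,55,57,55] .nil .nil) .nil))))) (.node [54,56,56,54] (.node [55,56,56,56,54] (.node [54,58,56,56,56,55] (.node [56,54,58,55,57,55] (.node [55,57,57,57,54]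 (.node [57,57,58,57] .nil .nil) (.node [56,56,55,57] .nil .nil)) (.node [56,58,54,57,54] (.node [57,57,58,54,57] .nil .nil) (.node [58,56,56,56,56,54] .nil .nil))) (.node [58,57,58,57,55] (.node [54,56,58,55,56,54] (.node [54,58,57,54,57] .nil .nil) (.node [57,57,57,57,55] .nil .nil)) (.node [57,55,58,55,57,54] (.node [55,58,55,57] .nil .nil) (.node [55,57,57,54,57] .nil .nil)))) (.node [55,58,57,57,57] (.node [55,57,54,56,56] (.node [58,54,58,56] (.node [54,56,54,57,54] .nil .nil) (.node [58,55,58,57,54] .nil .nil)) (.node [55,56,56,56,55,58,54] (.node [54,56,56,55,57,54] .nil .nil) (.node [56,58,54,56,54] .nil .nil))) (.node [56,54,57,55] (.node [56,54,56,54,57] (.node [57,57,54,58,55] .nil .nil) (.node [56,54,57,54] .nil .nil)) (.node [58,57,58,57,54] (.node [54,58,57,55,57] .nil .nil) .nil)))) (.node [58,57,54,57,54] (.node [56,56,54,58,55] (.node [58,56,54,56,55] (.node [55,58,56,56,58,54] (.node [57,57,54,54,58,54] .nil .nil) (.node [56,56,55,56,54] .nil .nil)) (.node [58,54,58,57,57]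 (.node [56,56,56,54,57] .nil .nil) (.node [56,56,56,55,57] .nil .nil))) (.node [56,56,54,54] (.node [57,54,57,55,57] (.node [58,56,54,57,57,54] .nil .nil) (.node [57,57,57,57] .nil .nil)) (.node [55,56,55,58,54] (.node [56,56,55] .nil .nil) .nil))) (.node [54,58,57,57] (.node [56,56,55,56,56,54] (.node [54,56,56,55,58,54] (.node [56,54,54,57,57,54] .nil .nil) (.node [56,56,56,58,56,54] .nil .nil)) (.node [57,57,54,56,56] (.node [56,54,56] .nil .nil) (.node [55,56,54,56,58,54] .nil .nil))) (.node [57,57,55,57,54] (.node [55,56,58,54,57] (.node [56,58,54,56,55] .nil .nil) (.node [57,54,58,54,56,54] .nil .nil)) (.node [55,57,57,54,56] (.node [54,54,58,54] .nil .nil) .nil)))))))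

/-- A part. -/
noncomputable def mainWords3_1 : Arr (List ℕ) :=
  (.node [57,54,56,55,58,55] (.node [54,57,54,56,55] (.node [57,54,56,56,55] (.node [57,55,58,56] (.node [57,58,57,55,58,55] (.node [55,56,58,54] (.node [58,57,54,58,54] (.node [57,57,58,54,58,56] .nil .nil) (.node [57,55,56,54,56] .nil .nil)) (.node [54,56] (.node [58,57,57,57,57,54] .nil .nil) (.node [54,57,58,57,57,57] .nil .nil))) (.node [54,57,55,58,57,55] (.node [56,58,57,57] (.node [54,54,56,56,54] .nil .nil) (.node [54,56,54] .nil .nil)) (.node [57,55,57,55] (.node [54,58,56,56] .nil .nil) (.node [54,58,54] .nil .nil)))) (.node [54,56,54,58,57] (.node [58,55,57,54,57,57] (.node [58,55,58,57,57] (.node [55,56,58,54,58,56] .nil .nil) (.node [57,57,54,56] .nil .nil)) (.node [55,56,56,58,54,57] (.node [55,56,58,54,57,54] .nil .nil) (.node [57,55,57,57,54,57,54] .nil .nil))) (.node [57,54,57,57,54,54] (.node [58,57,58,57] (.node [54,56,56,58,56,55] .nil .nil) (.node [58,56,56,58,57,54] .nil .nil)) (.node [57,54,58,57,57] (.node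 [54,57,57,55,57] .nil .nil) .nil)))) (.node [56,58,55,56,56] (.node [55,57,54,57,57,55] (.node [56,55,57,54] (.node [57,54,56,56,56,54] (.node [58,54,56] .nil .nil) (.node [58,56,58,56,56,54] .nil .nil)) (.node [56,56,58,55] (.node [54] .nil .nil) (.node [57,58,54,57,55] .nil .nil))) (.node [57,58,57,57,55] (.node [58,57,58,55,58,56] (.node [57,58,55,58,56,56] .nil .nil) (.node [58,54,57,55] .nil .nil)) (.node [55,58,57,55,56,54] (.node [55,56,56,58,56,54] .nil .nil) .nil))) (.node [57,57,55,58,57,54] (.node [54,58,55,56,55] (.node [58,55,57,57,54,54] (.node [55,56,54,57,54] .nil .nil) (.node [57,57,57,58,55] .nil .nil)) (.node [58,57,55,57] (.node [56,55,56,55] .nil .nil) (.node [57,57,58,54,56,54] .nil .nil))) (.node [57,54,57,58,57,54] (.node [56,56,54,56,56,55] (.node [54,54,57,57,57] .nil .nil) (.node [55,56,55] .nil .nil)) (.node [55,56,54,56] (.node [57,55,57,57,55] .nil .nil) .nil))))) (.node [58,57,55,56,56,54] (.node [54,57,55,56,56] (.node [57,54,56,55,58,54] (.node [55,57,55,56,56]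 (.node [55,56,54,58,54] (.node [56,58,56,54,56,54] .nil .nil) (.node [58,56,54,56,54] .nil .nil)) (.node [57,58,54,58,57] (.node [54,57,55,57] .nil .nil) (.node [54,54] .nil .nil))) (.node [58,54,58,54,56] (.node [56,58,57] (.node [57,57,58,54,58,54,54] .nil .nil) (.node [56,58,55,58,56] .nil .nil)) (.node [57,57,54,56,54] (.node [58,57,57,57] .nil .nil) (.node [56,58,54,58,56] .nil .nil)))) (.node [55,57,54,58,54,54] (.node [58,55,57,55,56] (.node [56,55,56,54,56] (.node [55,56,55,57,57] .nil .nil) (.node [54,58,57,54,57,54] .nil .nil)) (.node [57,55,56,54,56,56] (.node [58,57,57,58,55] .nil .nil) (.node [56,56,56] .nil .nil))) (.node [58,57,54,58,56] (.node [55,57,54,57,57] (.node [57,57,57,57,54,54] .nil .nil) (.node [54,56,54,57,55] .nil .nil)) (.node [54,58,55,57,57] (.node [54,56,58,54,56] .nil .nil) .nil)))) (.node [56,55,57,57] (.node [57,57,54,57] (.node [54,57,54,58,55] (.node [56,56,58,56,54] (.node [56,55,58,57,57] .nil .nil) (.node [57,58,56,54,56,54] .nil .nil)) (.node [54,57,54,58,54]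 (.node [57,57,58,54,57,55] .nil .nil) (.node [56,58,56,56] .nil .nil))) (.node [57,57,54,58,54,54] (.node [55,57,54,56,54] (.node [55,56,56,56] .nil .nil) (.node [54,57,55,58,57,54] .nil .nil)) (.node [55,57,57,57,58,54] (.node [54,58,55,58,54] .nil .nil) .nil))) (.node [57,57,57,58,56,54] (.node [57,58,54,57] (.node [58,57,54,58,57] (.node [57,58,54,57,57] .nil .nil) (.node [56,55,58,56,56] .nil .nil)) (.node [56,56,56,55,58,54] (.node [56,55,57,57,54,56] .nil .nil) (.node [55,57,54] .nil .nil))) (.node [56,55,58,55,56] (.node [54,58,55,56] (.node [58,56,56,56] .nil .nil) (.node [55,58,57,54,57,54] .nil .nil)) (.node [55,57,57,54,56,54] (.node [55,57,54,56,56,54] .nil .nil) .nil)))))) (.node [58,57,58,54,57] (.node [54,57,55,58,55,56] (.node [54,56,55,56] (.node [56,58,56,55,57] (.node [54,58,54,56] (.node [55,56,54,58,57] (.node [55,57,54,56] .nil .nil) (.node [54,58,54,57] .nil .nil)) (.node [56,58,55,57,55] (.node [58,56,56,56,55] .nil .nil) (.node [54,58,56,56,56] .nil .nil))) (.node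 [57,54,58,54,56] (.node [56,56] (.node [58,56,56,56,56,55] .nil .nil) (.node [55,56,54] .nil .nil)) (.node [54,57,55,56,55] (.node [56,56,56,56,54] .nil .nil) (.node [57,58,54,56] .nil .nil)))) (.node [54,57,57,57] (.node [58,55,56,56,55,56] (.node [58,56,54,56,56,54] (.node [58,54,58,56,56,54] .nil .nil) (.node [54,54,56,56,56,54] .nil .nil)) (.node [56,55,58,54,56,55] (.node [58,54,58,57,54,57] .nil .nil) (.node [58,55,56,55] .nil .nil))) (.node [54,58,57,55,56,55] (.node [54,54,56] (.node [54,58,55,56,56,54] .nil .nil) (.node [56,56,56,56,56,54] .nil .nil)) (.node [56,58,54,57] (.node [55,56,58,54,56] .nil .nil) .nil)))) (.node [55,57,54,58,57,54] (.node [56,56,58,55,57,54] (.node [57,58,55,56,58,54] (.node [54,57,57,57,55] (.node [58,56,54,58,57] .nil .nil) (.node [55,57,57,57,54,54] .nil .nil)) (.node [57,58,54,58,57,55] (.node [56,58,57,54,57,55] .nil .nil) (.node [58,56,54,56,56] .nil .nil))) (.node [56,56,54,58,57,54] (.node [57,58,54,56,56,56] (.node [58,55,57,57,54] .nil .nil) (.node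 [54,57,54,56,56,55] .nil .nil)) (.node [57,54,58,54,57,55] (.node [58,54,57] .nil .nil) .nil))) (.node [54,57,57] (.node [56,54,57] (.node [58,54,56,58,56] (.node [54,56,55,58,56] .nil .nil) (.node [55,56,56,56,54,54] .nil .nil)) (.node [57,55,56,55] (.node [54,54,56,56,54,57] .nil .nil) (.node [58,56,58,56,54,56] .nil .nil))) (.node [54,57,55,58,54] (.node [57,57,57,55,56] (.node [56,55,56,56,54] .nil .nil) (.node [58,56,55,56,54,56,55] .nil .nil)) (.node [57,54,58,56] (.node [54,56,56] .nil .nil) .nil))))) (.node [57,55,58,57,54,54] (.node [56,56,55,58,56] (.node [56,54,56,56,56,54] (.node [55,57,54,56,58,54] (.node [58,55,56,55,57,57] (.node [55,58,57,54,58,54] .nil .nil) (.node [56,54,56,55,58,54] .nil .nil)) (.node [56,56,58,56] (.node [54,54,58,54,57] .nil .nil) (.node [57,55,58,57,55] .nil .nil))) (.node [57,54,56,58,56] (.node [55,56,56,54,57,54] (.node [56,55,58,54,56,54] .nil .nil) (.node [57,55,58,55,56,55] .nil .nil)) (.node [54,58,57,54,56,55] (.node [57,55,56,56] .nil .nil) .nil)))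 (.node [54,57,54,58,57] (.node [56,55,57,57,57] (.node [54,57,57,57,58,54] (.node [54,58,54,56,55] .nil .nil) (.node [55,57,57,55,56,54] .nil .nil)) (.node [57,58,54,57,57,54,54] (.node [56,58,56] .nil .nil) (.node [55,58,56,56] .nil .nil))) (.node [54,57,57,54,56] (.node [56,54] (.node [58,57,57,57,57,55] .nil .nil) (.node [57,58,55,56] .nil .nil)) (.node [57,55,56,58,56] (.node [57,54,58,56,56,56] .nil .nil) .nil)))) (.node [57,55,56,58,54] (.node [54,56,58,54,57] (.node [57,54,58,55,56] (.node [58,54,57,57,54,54] (.node [58,54,56,56,55] .nil .nil) (.node [57,54,57,54,58,55] .nil .nil)) (.node [56,58,55,56,56,54] (.node [57,54,56,56,55,57] .nil .nil) (.node [55,56,54,56,56,54] .nil .nil))) (.node [58,57,57] (.node [55,57,57,54,58,56] (.node [57,57,54,58,56] .nil .nil) (.node [57,54,58,54,57] .nil .nil)) (.node [55,58,55,56,58,54] (.node [55,57,55,56,56,54] .nil .nil) .nil))) (.node [58,56,56,58,55] (.node [57,58,55,56,55] (.node [57,54,58,54,54] (.node [58,57,58,54,57,54] .nil .nil) (.node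 [56,54,54] .nil .nil)) (.node [58,57,54,56,54] (.node [56,54,58,57,55] .nil .nil) (.node [58,56,56,56,54] .nil .nil))) (.node [54,57,58,57,57,55] (.node [56,58,56,55] (.node [58,54,56,55] .nil .nil) (.node [57,55,56,56,54,57] .nil .nil)) (.node [58,57,58,54,58,56] (.node [58,56,54,56] .nil .nil) .nil)))))))

/-- A part. -/
noncomputable def mainWords3_2 : Arr (List ℕ) :=
  (.node [58,54,56,56,54,56] mainWords3_0 mainWords3_1)

/-- A part. -/
noncomputable def mainWords3_3 : Arr (List ℕ) :=
  (.node [58,56,54,57] (.node [54,58,57,57,57,54] (.node [55,57,58,57,57,55] (.node [56,54,56,58,56,54] (.node [58,55,57,54,56,54] (.node [58,55,56,58,57,54] (.node [55,57,54,56,55] (.node [56,55,57,54,56] .nil .nil) (.node [54,54,58,54,56,54] .nil .nil)) (.node [58,56,58,56,54] (.node [55,58,54,57] .nil .nil) (.node [54,56,58,56,58,56] .nil .nil))) (.node [56,55,56,54] (.node [57,58,57,55,56,54] (.node [55,58,56,56,56,54] .nil .nil) (.node [57,55,57,54] .nil .nil)) (.node [55,57,58,57,57,54] (.node [55]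 .nil .nil) (.node [54,58,55,57] .nil .nil)))) (.node [57,58,57,54] (.node [58,57,58,55,57] (.node [57,55,58,54,57] (.node [54,58,56] .nil .nil) (.node [55,57,54,57] .nil .nil)) (.node [58,54,57,57] (.node [56,55,58,55] .nil .nil) (.node [54,58,57,54,56,56,54] .nil .nil))) (.node [55,56,56,55,56,54] (.node [57,57,58,55,56] (.node [55,56,58,55,56] .nil .nil) (.node [58,54,58,56,56] .nil .nil)) (.node [55,58,56,56,54] (.node [56,55,56,56,54,56] .nil .nil) .nil)))) (.node [56,54,57,57,57] (.node [57,58,54,58,56] (.node [57,54,56,55,56,56] (.node [54,58,57,55,56,54] (.node [58,54,57,58,57] .nil .nil) (.node [57,58,57,57,57] .nil .nil)) (.node [54,57,58,57] (.node [57,57,57,58,54] .nil .nil) (.node [54,54,58,54,56,55] .nil .nil))) (.node [58,55,56,58,54] (.node [57,57] (.node [58,54,58,54,57] .nil .nil) (.node [58,56,55,56,55] .nil .nil)) (.node [56,54,57,55,56,56] (.node [57,58,54,58,56,56] .nil .nil) .nil))) (.node [54,58,57,57,57] (.node [56,56,55,57,57] (.node [54,57,54,58,54,56] (.node [55,56,54,57,57]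 .nil .nil) (.node [56,54,58,55,57] .nil .nil)) (.node [54,57,54,56,56] (.node [56,58,57,54] .nil .nil) (.node [55,56,58,56,54] .nil .nil))) (.node [56,54,56,56,56] (.node [55,56,56,54,56] (.node [55,56,55,57,54] .nil .nil) (.node [57,54,57,55] .nil .nil)) (.node [57,57,55,58,55] (.node [55,57,54,57,57,54] .nil .nil) .nil))))) (.node [56,58,55,57] (.node [58,55,57,57,55,56] (.node [58,56,58,56,54,57] (.node [57,57,54] (.node [55,57,57,54,54] (.node [56,56,56,55,56] .nil .nil) (.node [55,58,57,54,57,57,54] .nil .nil)) (.node [58,54,54,56,56] (.node [57,55,58,56,56] .nil .nil) (.node [57] .nil .nil))) (.node [56,56,58,54,56,54] (.node [55,56,56,54,58,55] (.node [58,54,56,54] .nil .nil) (.node [56,58,54,57,57] .nil .nil)) (.node [54,57,57,55,58,56] (.node [57,54,54,56,56,54] .nil .nil) (.node [56,58,55,57,57] .nil .nil)))) (.node [55,56,58,56] (.node [58,56,54] (.node [56,56,58,54] (.node [55,58,57,54,54] .nil .nil) (.node [58,54,57,55,57] .nil .nil)) (.node [54,56,56,58,55,57] (.node [56,54,57,57,55,56,54]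 .nil .nil) (.node [56,56,56,56,54,54] .nil .nil))) (.node [55,57,55,56] (.node [58,54,56,56,55,56,54] (.node [58,56,54,58,54] .nil .nil) (.node [56,56,56,58,55] .nil .nil)) (.node [55,56,56,54,57] (.node [58,56,54,56,55,56,54] .nil .nil) .nil)))) (.node [57,55,58,55,56] (.node [54,57,55,57,57,54] (.node [56,56,54,56] (.node [58,54,56,54,57,54] (.node [56,58,54,57,55] .nil .nil) (.node [58,54,54] .nil .nil)) (.node [55,56,56,54] (.node [54,54,56,56,56] .nil .nil) (.node [57,58,57,54,54] .nil .nil))) (.node [56,55,58,56] (.node [56,54,57,55,56] (.node [58,57,54,56,56,54] .nil .nil) (.node [55,57,54,56,56,55] .nil .nil)) (.node [56,56,56,55,57,54] (.node [54,57,55,56,56,54] .nil .nil) .nil))) (.node [58,57,55,58,57,54] (.node [54,56,56,55,56] (.node [56,54,57,54,56] (.node [54,56,55,57,57] .nil .nil) (.node [58,55,57,55] .nil .nil)) (.node [57,54,57] (.node [57,57,58,55,57] .nil .nil) (.node [56,54,56,54] .nil .nil))) (.node [57,54] (.node [55,58,54,56,54] (.node [56,55,57,57,54] .nil .nil) (.node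 [56,54,56,56] .nil .nil)) (.node [55,57,55,56,55] (.node [54,58,57] .nil .nil) .nil)))))) (.node [58,54,57,55,57,57] (.node [54,57,57,55,58,55] (.node [58,57,57,57,54] (.node [54,56,58,55,57] (.node [57,58,57,55] (.node [56,58,57,57,54] (.node [58,55,56,56,56,54] .nil .nil) (.node [56,55,56,56] .nil .nil)) (.node [56,54,58,54,54] (.node [58,56,58,56,56] .nil .nil) (.node [54,56,56,56,58,56] .nil .nil))) (.node [56,58,54,56,56] (.node [54,58,57,57,58,54] (.node [57,58,55,57,57,54] .nil .nil) (.node [55,56,55,57] .nil .nil)) (.node [57,57,58,54,56] (.node [57,55,58,56,56,54] .nil .nil) (.node [56,55,56,54,56,55] .nil .nil)))) (.node [58,57,55,58,55] (.node [54,58,55,57,54] (.node [54,56,56,54,57] (.node [58,57,54,58,57,55] .nil .nil) (.node [57,55,58,54,56,54] .nil .nil)) (.node [56,54,58,55,56,54] (.node [57,54,57,57,54] .nil .nil) (.node [58,57,54,57,55] .nil .nil))) (.node [57,57,58,54,57,54] (.node [56,58,56,54,58,54,54] (.node [58,56,55,56] .nil .nil) (.node [55,56,54,57,55] .nil .nil))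 (.node [56,56,55,58,55] (.node [57,55,56,56,55,56] .nil .nil) .nil)))) (.node [56,56,58,55,56,55] (.node [56,56,58,54,57,55] (.node [57,57,57,54] (.node [54,58,55,57,55] (.node [57,58,57,58,57] .nil .nil) (.node [58,55,57] .nil .nil)) (.node [56,54,56,55,56] (.node [58,57,55,57,57,54] .nil .nil) (.node [57,54,58,55,56,55] .nil .nil))) (.node [58,57,55,57,55] (.node [54,57,57,55,56] (.node [57,54,56,55,56] .nil .nil) (.node [58,55,56,56] .nil .nil)) (.node [56,55,57,54,56,56] (.node [57,55,58,55,57] .nil .nil) .nil))) (.node [54,56,58,55,58,56] (.node [54,58,54,56,54] (.node [57,54,58,54] (.node [55,58,54,56,55] .nil .nil) (.node [55,57,58,57,54] .nil .nil)) (.node [55,58,55,57,54] (.node [57,54,56,54,57] .nil .nil) (.node [57,55,57,55,58,54] .nil .nil))) (.node [58,57,54,57] (.node [57,58,55,57] (.node [54,56,56,54,56,54] .nil .nil) (.node [58,57,58,54,56] .nil .nil)) (.node [55,58,57,55,56] (.node [56,58,56,55,56] .nil .nil) .nil))))) (.node [54,56,56,55,57] (.node [58,54,57,54,56] (.node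 [58,56,55,56,58,55] (.node [57,58,55,57,57,54,54] (.node [57,54,57,54,56,56] (.node [57,54,54,56] .nil .nil) (.node [56,56,54] .nil .nil)) (.node [57,57,54,56,55] (.node [57,57,58,55] .nil .nil) (.node [54,56,56,58,56,54] .nil .nil))) (.node [58,56,54,56,58,56] (.node [54,56,56,54,57,54] (.node [54,58,57,55] .nil .nil) (.node [54,56,56,58,56] .nil .nil)) (.node [55,56,55,58,55] (.node [55,58,54] .nil .nil) .nil))) (.node [55,58,57,57,54,54] (.node [58,54,57,55,56] (.node [58,55,57,57] (.node [54,58,55,56,54] .nil .nil) (.node [58,55,58,57,55,57] .nil .nil)) (.node [56,55,56,54,58,54] (.node [58,55,56,54,57,55] .nil .nil) (.node [56,58,56,56,54] .nil .nil))) (.node [56,56,55,56,55] (.node [56,54,56,55] (.node [56,55,57,57,55] .nil .nil) (.node [56,54,56,55,56,54] .nil .nil)) (.node [58,56,55,56,58,56] (.node [54,58,57,54] .nil .nil) .nil)))) (.node [57,55,57,55,56] (.node [55,58,55,56] (.node [55,58,57,57,57,55] (.node [56,55,57,55,56] (.node [58,54,56,55,58,54] .nil .nil) (.node [58,54,56,58,56,54]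 .nil .nil)) (.node [57,57,58,56,54] (.node [56,56,56,55] .nil .nil) (.node [56,54,58,55,56,55] .nil .nil))) (.node [56] (.node [57,54,57,54] (.node [54,56,58,55,56] .nil .nil) (.node [57,54,58,55] .nil .nil)) (.node [55,57,54,58,54,56] (.node [56,56,54,57] .nil .nil) .nil))) (.node [54,58,57,54,54] (.node [54,56,56,54,56] (.node [54,54,58,54,56] (.node [57,54,57,54,58,54] .nil .nil) (.node [55,56,55,57,57,54] .nil .nil)) (.node [55,57,54,58,55] (.node [56,55,57,58,57] .nil .nil) (.node [55,57,55,56,58,54] .nil .nil))) (.node [57,54,56,54] (.node [55,56,58,55] (.node [56,56,55,57,55] .nil .nil) (.node [57,55,56,56,55] .nil .nil)) (.node [56,55,56,58,55] (.node [57,58,56,54,57] .nil .nil) .nil)))))))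

/-- A part. -/
noncomputable def mainWords3_4 : Arr (List ℕ) :=
  (.node [55,57,55,58,54] (.node [55,58,54,57,55] (.node [56,56,54,58,54] (.node [57,54,57,57] (.node [55,58,54,56] (.node [55,56,58,55,57] (.node [56,54,58,55,56] (.node [55,58,57,54,56,54] .nil .nil) (.node [58,57,54,56,55] .nil .nil)) (.node [55,57,58,57] (.node [58,55,56,56,56] .nil .nil) (.node [58,55,58,54] .nil .nil))) (.node [57,58,57,58,57,55] (.node [58,56,56] (.node [57,58,57,58,54,57] .nil .nil) (.node [58,57,55,56] .nil .nil)) (.node [57,55,57,54,57] (.node [56,56,58,57,54] .nil .nil) (.node [56,54,57,57,54] .nil .nil)))) (.node [57,55,57,54,56] (.node [58,57,58,54,56,54] (.node [57,54,54,58,54] (.node [57,58,54,56,56,55] .nil .nil) (.node [56,54,58,54,56,54] .nil .nil)) (.node [55,56,56,58,55] (.node [54,57,57,55,56,54] .nil .nil) (.node [57,57,58,55,57,54] .nil .nil))) (.node [56,56,56,54,56] (.node [58,54,54,56] (.node [58,56,55,58,57,54] .nil .nil) (.node [54,56,58,56,54] .nil .nil)) (.node [57,54,58,57,54,54]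 (.node [54,57,57,54] .nil .nil) .nil)))) (.node [54,56,54,58,57,55] (.node [56,58,54,56] (.node [56,56,54,56,54] (.node [58,54,56,54,57,57] (.node [58,55,57,58,57] .nil .nil) (.node [58,55,58,56,56] .nil .nil)) (.node [56,56,58,54,57] (.node [55,57] .nil .nil) (.node [56,54,57,58,57] .nil .nil))) (.node [58,54,57,55,56,55] (.node [54,54,56,56,54,56] (.node [58,54,54,56,56,54] .nil .nil) (.node [57,54,56,56] .nil .nil)) (.node [54,58,54,57,54] (.node [56,56,58,55,58,54] .nil .nil) .nil))) (.node [58,55,56,56,54] (.node [54,58,57,54,57,55] (.node [58,55,57,57,57] (.node [55,58,55,56,54] .nil .nil) (.node [55,56,55,58,57,55] .nil .nil)) (.node [58,57,54] (.node [54,57,55] .nil .nil) (.node [58,57,54,57,57,54] .nil .nil))) (.node [58,57,55,56,55] (.node [55,56,56,55,56] (.node [58,56,58,56] .nil .nil) (.node [56,56,56,54,57,54] .nil .nil)) (.node [57,54,58,56,56,54] (.node [57,55,57,57,54,57] .nil .nil) .nil))))) (.node [56,55,58,57,55] (.node [58,55,57,54,56] (.node [56,58,56,58,56,54] (.node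 [56,54,57,57,57,55] (.node [58,55,56,55,57,55] (.node [56,58,55,57,54] .nil .nil) (.node [58,55,57,54] .nil .nil)) (.node [57,58,54,58,54,54] (.node [54,57,54] .nil .nil) (.node [56,55,56,55,57,54] .nil .nil))) (.node [55,58,54,57,57] (.node [58,56] (.node [55,57,57,54,57,54] .nil .nil) (.node [54,56,56,56] .nil .nil)) (.node [56,55,56,56,56,54] (.node [58,57,57,54,54] .nil .nil) (.node [55,57,57,55] .nil .nil)))) (.node [55,57,54,58,57] (.node [56,56,55,57,54] (.node [54,58,56,56,54] (.node [55,56,54,58,56] .nil .nil) (.node [56,58,56,54,56] .nil .nil)) (.node [55,56,56,56,55] (.node [56,54,58,56,56] .nil .nil) (.node [58,56,56,54,57,54] .nil .nil))) (.node [56,56,55,56] (.node [57,58,54,56,54] (.node [57,57,57,57,57] .nil .nil) (.node [58,55,56,54] .nil .nil)) (.node [58,55,58,55,56] (.node [57,54,57,57,55] .nil .nil) .nil)))) (.node [56,54,58,56] (.node [57,57,55] (.node [57,55,56,54,58,54] (.node [58,55,56,58,56] (.node [58,56,56,58,54] .nil .nil) (.node [57,58,55,57,54] .nil .nil)) (.node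 [55,57,55,58,55,56] (.node [54,58,57,57,55] .nil .nil) (.node [56,56,56,54] .nil .nil))) (.node [57,57,54,58,57] (.node [55,57,57,55,57,54] (.node [57,57,57,57,54] .nil .nil) (.node [57,57,57,54,54] .nil .nil)) (.node [56,54,58,57,54] (.node [56,58,54,58,54,54] .nil .nil) .nil))) (.node [56,54,57,54,56,54] (.node [57,58,55] (.node [58,57,54,58,54,54] (.node [57,58,55,58,56] .nil .nil) (.node [58,57,57,58,54] .nil .nil)) (.node [56,54,58,54,56] (.node [58,57,55,57,57,55] .nil .nil) (.node [57,57,55,56] .nil .nil))) (.node [56,56,56,54,58,55] (.node [57,58,57,54,58,54] (.node [56,56,56,58,56] .nil .nil) (.node [55,56,56,58,56] .nil .nil)) (.node [57,58,55,56,56,56] (.node [57,58,57,57,57,55] .nil .nil) .nil)))))) (.node [58,57,58,55] (.node [55,57,54,58,54] (.node [58,56,56,54,56,54] (.node [56,58,56,54] (.node [56,56,55,58,54] (.node [57,54,57,55,56] (.node [57,57,58,55,57,55] .nil .nil) (.node [54,58,55] .nil .nil)) (.node [57,57,55,56,54] (.node [54,57,54,56,58,55] .nil .nil) (.node [55,58,57,54]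 .nil .nil))) (.node [56,55,58,54] (.node [56,56,56,54,54] (.node [54,56,55,57,57,54] .nil .nil) (.node [56,54,57,57,55] .nil .nil)) (.node [57,57,57,57,57,54] (.node [54,57,57,57,54,54] .nil .nil) (.node [56,58,55,56,54] .nil .nil)))) (.node [54,57,57,54,54] (.node [57,55,56,58,55] (.node [57,54,58,57,55] (.node [57,57,54,57,54] .nil .nil) (.node [58,54,56,55,57,54] .nil .nil)) (.node [56,55,56,55,57,55] (.node [58,54,58,57,55] .nil .nil) (.node [57,54,56] .nil .nil))) (.node [57,57,58,55,58,56] (.node [57,58,57] (.node [58,54,57,57,55,56,54] .nil .nil) (.node [57,57,54,54] .nil .nil)) (.node [56,58,55] (.node [56,58,55,57,57,54] .nil .nil) .nil)))) (.node [57,58,57,58,57,54] (.node [54,56,56,58,55] (.node [55,57,57,55,56] (.node [57,55,57,55,56,56] (.node [58,56,54,58,54,54] .nil .nil) (.node [56,56,56,56,55] .nil .nil)) (.node [55,57,57,57,58,55] (.node [56,58,55,56,55] .nil .nil) (.node [57,55,56,55,57] .nil .nil))) (.node [57,54,56,58,55] (.node [54,54,57,57,57,54] (.node [56,56,55,58,57,54]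 .nil .nil) (.node [58,54,58,54,54] .nil .nil)) (.node [54,56,54,58,54] (.node [58,55] .nil .nil) .nil))) (.node [55,58,56] (.node [56,55] (.node [56,56,58,56,55] (.node [54,56,54,57,57] .nil .nil) (.node [55,56,56] .nil .nil)) (.node [57,57,54,57,55] (.node [57,58,57,58,54] .nil .nil) (.node [57,58,57,57,57,54] .nil .nil))) (.node [57,57,55,56,56] (.node [55,58,55,56,55] (.node [57,54,56,56,54,56] .nil .nil) (.node [54,56,54,57] .nil .nil)) (.node [57,55,57,57] (.node [54,56,56,56,54,54] .nil .nil) .nil))))) (.node [57,55,58,57,57] (.node [56,56,54,57,57] (.node [54,56,55,56,56] (.node [56,58,54,56,54,57,54] (.node [57,55,56,56,56,55] (.node [54,56,55,58,54,56] .nil .nil) (.node [57,57,58,57,58,54] .nil .nil)) (.node [58,57,54,54,56] (.node [57,58,56,54] .nil .nil) (.node [57,54,57,58,57] .nil .nil))) (.node [58,57,57,54] (.node [55,56,58,55,56,54] (.node [54,56,55,56,56,55] .nil .nil) (.node [58,54,57,57,55] .nil .nil)) (.node [55,58,55,57,55] (.node [56,54,57,55,58,54] .nil .nil) .nil)))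 (.node [54,57,54,58,54,54] (.node [56,55,57,57,54,54] (.node [57,58,55,58,57,54] (.node [54,56,55,57,55] .nil .nil) (.node [54,56,58,54,57,54] .nil .nil)) (.node [56,55,58,54,57,54] (.node [56,56,58,57] .nil .nil) (.node [56,56,54,56,55] .nil .nil))) (.node [56,56,55,57,57,54] (.node [56,55,57] (.node [58,54,56,56,56] .nil .nil) (.node [56,58,55,58,54] .nil .nil)) (.node [58,57,57,55] (.node [54,57,57,54,57,54] .nil .nil) .nil)))) (.node [54,58,56,56,56,54] (.node [54,56,58,55] (.node [54,57,58,57,57,54] (.node [58,54,57,57,57] (.node [57,57,54,58,57,55] .nil .nil) (.node [54,54,57,57,54,56] .nil .nil)) (.node [57,55,58,57,54] (.node [57,54,56,56,54] .nil .nil) (.node [55,57,57,55,57] .nil .nil))) (.node [58,57,54,54] (.node [55,58,57,54,56] (.node [58,57,54,56] .nil .nil) (.node [56,56,54,58,57] .nil .nil)) (.node [55,57,57,54,58,54] (.node [58,54,56,56] .nil .nil) .nil))) (.node [56,54,58,57,57] (.node [54,57,55,57,57] (.node [57,54,58,57] (.node [55,56,54,56,56] .nil .nil) (.node [55,58,57,54,57]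 .nil .nil)) (.node [57,54,56,58,56,54] (.node [57,58,54,57,57,55] .nil .nil) (.node [57,55,56,56,54,57,54] .nil .nil))) (.node [56,54,56,58,55] (.node [56,58,56,54,57] (.node [56,55,57,55] .nil .nil) (.node [54,57,57,54,57] .nil .nil)) (.node [57,58,57,58,54,56] (.node [58,56,55,57,58,57] .nil .nil) .nil)))))))

/-- A part. -/
noncomputable def mainWords3_5 : Arr (List ℕ) :=
  (.node [57,54,56,58,54] mainWords3_3 mainWords3_4)

/-- A part. -/
noncomputable def mainWords3_6 : Arr (List ℕ) :=
  (.node [] mainWords3_2 mainWords3_5)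

/-- The array. -/
noncomputable def mainWords3 : Arr (List ℕ) := mainWords3_6

/-- A part. -/
noncomputable def mainWords4_0 : Arr (List ℕ) :=
  (.node [] (.node [58] .nil .nil) .nil)

/-- The array. -/
noncomputable def mainWords4 : Arr (List ℕ) := mainWords4_0

/-- The base. -/
def mainBase : List ℕ := [4,2887665,223541,14051616,12591160]

/-- The levels. -/
noncomputable def mainLevels : List Lv := [⟨4600, [0,1,46,47,48,49,50,51,52,53,54,55,56,57,58], mainWords0, []⟩,
  ⟨2816, [46,47,48,49,50,51,52,53,54,55,56,57,58], mainWords1, []⟩,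
  ⟨1680, [50,51,52,53,54,55,56,57,58], mainWords2, []⟩,
  ⟨972, [54,55,56,57,58], mainWords3, []⟩,
  ⟨2, [58], mainWords4, []⟩]

/-- A part. -/
noncomputable def centWords0_0 : Arr (List ℕ) :=
  (.node [68,71,66,60] (.node [68,68,74,60] (.node [73,65,63] (.node [65,61,73,61] (.node [72,67,61,61] (.node [68,71,61] (.node [66,70,66,61] .nil .nil) (.node [61,61,67,62,60] .nil .nil)) (.node [75,66,64,62] (.node [61,63,62,60] .nil .nil) (.node [68,62,64,61] .nil .nil))) (.node [70,65,61,60] (.node [62,62,64,60] (.node [60,65,61] .nil .nil) (.node [64,72,63,63] .nil .nil)) (.node [72,61,73,61] (.node [66,61,73,62] .nil .nil) (.node [71,64,69,62,60] .nil .nil)))) (.node [64,69,60,62,60] (.node [75,72,61] (.node [61,64,74,60] (.node [66,71,64,61] .nil .nil) (.node [66,61,66,60] .nil .nil)) (.node [75,66,61] (.node [68,60,63,60] .nil .nil) (.node [71,63,63] .nil .nil))) (.node [63,74,62] (.node [72,64,64] (.node [75,60,63] .nil .nil) (.node [63,67,63] .nil .nil)) (.node [73,63,68,62] (.node [67,61,68,60]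 .nil .nil) (.node [67,71,62,62] .nil .nil))))) (.node [61,71,68,61] (.node [72,62,68,62] (.node [63,72,65,62] (.node [70,63,70,62] (.node [60,68,63,60] .nil .nil) (.node [60,65,70,60] .nil .nil)) (.node [67,72,60,62] (.node [72,64,73,62] .nil .nil) (.node [62,74,65,60] .nil .nil))) (.node [69,62,63] (.node [69,66,71,60] (.node [67,63] .nil .nil) (.node [61,63,63,60] .nil .nil)) (.node [65,62,72,63] (.node [71,60,62] .nil .nil) (.node [61,66,61,63] .nil .nil)))) (.node [70,74,62] (.node [63,65,67,60] (.node [61,66,62,62] (.node [69,61,71,62] .nil .nil) (.node [63,65,68,62] .nil .nil)) (.node [63,70,64] (.node [67,64,60] .nil .nil) (.node [64,68,66,61] .nil .nil))) (.node [69,60,63,60] (.node [75,69,61] (.node [63,65,63] .nil .nil) (.node [69,65,61,60] .nil .nil)) (.node [63,67,63,61,60] (.node [62,60,66,60] .nil .nil) (.node [75,64,62,62] .nil .nil)))))) (.node [60,64,64] (.node [61,72,66,62] (.node [65,60,70,60] (.node [69,75,61,60] (.node [73,72,65,61] (.node [61,74,66,60] .nil .nil) (.node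 [74,62,67,63] .nil .nil)) (.node [61,60,71,62] (.node [68,64] .nil .nil) (.node [62,72,68,62] .nil .nil))) (.node [67,74,63,62] (.node [65,61,68,61] (.node [61,72,68,60] .nil .nil) (.node [66,74,60] .nil .nil)) (.node [60,62,66,64] (.node [74,72,60] .nil .nil) (.node [68,66,70,63] .nil .nil)))) (.node [74,67,63,61,60] (.node [75,70,62] (.node [67,62,62,62] (.node [66,74,62,63] .nil .nil) (.node [66,70,61,61] .nil .nil)) (.node [60,70,61,61,60] (.node [60] .nil .nil) (.node [69,62,74,61] .nil .nil))) (.node [61,64,75,61] (.node [66,61,63,62] (.node [60,66,62] .nil .nil) (.node [65,74,64,60] .nil .nil)) (.node [71,70,68,61,60] (.node [61,75,60] .nil .nil) (.node [67,74,61,61] .nil .nil))))) (.node [72,70,61,60] (.node [61,70,71,61] (.node [69,66,61,60] (.node [67,64,71,61] (.node [71,60,64,64] .nil .nil) (.node [62,67,71,62] .nil .nil)) (.node [65,74,66,61] (.node [74,60,72,61] .nil .nil) (.node [60,61,73,60] .nil .nil))) (.node [66,71,66,60] (.node [62,75,62,63] (.node [74,66,60] .nil .nil)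 (.node [72,67,64,61] .nil .nil)) (.node [63,67,60] (.node [68,73,75,61] .nil .nil) (.node [68,63,71,60] .nil .nil)))) (.node [65,67,60] (.node [60,65,61,60] (.node [60,61,71,60] (.node [70,62,63] .nil .nil) (.node [65,65,64,64] .nil .nil)) (.node [63,66,70,60] (.node [65,75,60,62] .nil .nil) (.node [65,65,68,60] .nil .nil))) (.node [67,60,67,62] (.node [60,67,69,61,60] (.node [73,71,63,60] .nil .nil) (.node [66,70,62,60] .nil .nil)) (.node [62,63,65,60] (.node [72,73,65,61] .nil .nil) .nil))))))

/-- A part. -/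
noncomputable def centWords0_1 : Arr (List ℕ) :=
  (.node [71,66,75,63] (.node [74,61,70,60] (.node [63,63,65,61] (.node [72,66,61] (.node [69,72,62,60] (.node [63,62,69,62] (.node [68,69,62,60] .nil .nil) (.node [67,73,60] .nil .nil)) (.node [61,69,63] (.node [63,75,64,62] .nil .nil) (.node [66,63] .nil .nil))) (.node [69,66,61] (.node [73,61,63,60] (.node [71,73,61,61] .nil .nil) (.node [60,71,69,60] .nil .nil)) (.node [64,61,70,60] (.node [63,65,73,63] .nil .nil) (.node [61,61,64,60] .nil .nil)))) (.node [72,65,62] (.node [67,63,70,60] (.node [67,69,63,62] (.node [65,64,73,61] .nil .nil) (.node [62,73,61] .nil .nil)) (.node [75,65,64,61,60] (.node [75,62,69,60] .nil .nil) (.node [67,72,63,60] .nil .nil))) (.node [61,67,69,61] (.node [74,65,62,60] (.node [64,60,64,60] .nil .nil) (.node [70,63,61,61] .nil .nil)) (.node [73,70,64,62] (.node [70,61,61,60] .nil .nil) (.node [66,71,65,62] .nil .nil))))) (.node [62,65,64] (.node [71,60,68,61] (.node [67,60,65,60] (.node [68,70,62,63] (.node [65,68,63]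 .nil .nil) (.node [68,75,63,60] .nil .nil)) (.node [74,63,70,60] (.node [72,75,61,60] .nil .nil) (.node [68,65,63] .nil .nil))) (.node [70,64,68,62] (.node [72,64,64,61] (.node [75,67,71,62] .nil .nil) (.node [64,60,63] .nil .nil)) (.node [65,73,64] (.node [65,65,62,60] .nil .nil) (.node [72,65,63,60] .nil .nil)))) (.node [67,61,66,60] (.node [69,62,74,60] (.node [70,68,62] (.node [67,65,64,60] .nil .nil) (.node [60,70,64,60] .nil .nil)) (.node [70,61,69,62] (.node [70,74,61,61,60] .nil .nil) (.node [67,63,69,62] .nil .nil))) (.node [70,62,62,60] (.node [62,73,63] (.node [62,72,63,63] .nil .nil) (.node [62,70,63,62] .nil .nil)) (.node [63,74,66,62] (.node [64,74,75,60] .nil .nil) .nil))))) (.node [64,74,68,61] (.node [64,64,70,64] (.node [74,63,69,60] (.node [60,74,70,61] (.node [61,71,61] (.node [67,60,68,61] .nil .nil) (.node [74,61,67,62] .nil .nil)) (.node [65,64,60,62] (.node [75,61,69,60] .nil .nil) (.node [68,72,62,63] .nil .nil))) (.node [66,73,67,61] (.node [65,61,66,61] (.node [66,75,63]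 .nil .nil) (.node [62,63,72,63] .nil .nil)) (.node [64,61,75,62,60] (.node [65,70,61,60] .nil .nil) (.node [61,60] .nil .nil)))) (.node [67,71,67,61] (.node [73,62,62] (.node [74,61,65,60] (.node [71,62,63,60] .nil .nil) (.node [69,71,62,62] .nil .nil)) (.node [68,63,60,65,60] (.node [63,73,61] .nil .nil) (.node [65,61] .nil .nil))) (.node [64,61,72,60] (.node [73,61] (.node [70,64,67,63] .nil .nil) (.node [73,63,63] .nil .nil)) (.node [73,62,73,60] (.node [74,63,70,61] .nil .nil) (.node [70,62,63,60] .nil .nil))))) (.node [65,73,63,62] (.node [61,60,61,60] (.node [64,67,63,62] (.node [60,64,61] (.node [64,69,75,61] .nil .nil) (.node [71,73,66,60] .nil .nil)) (.node [67,71,60] (.node [74,72,67,60] .nil .nil) (.node [67,72,62] .nil .nil))) (.node [66,61,65,62] (.node [71,65,67,60] (.node [74,67,62] .nil .nil) (.node [67,62,69,61] .nil .nil)) (.node [60,62] (.node [73,63,65,62] .nil .nil) (.node [75,72,60,62,60] .nil .nil)))) (.node [64,71,65,63] (.node [71,63,68,60] (.node [69,68,70,62] (.node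 [73,60,65,61] .nil .nil) (.node [65,61,74,60] .nil .nil)) (.node [63,66,61] (.node [68,63,61] .nil .nil) (.node [62,74,64,62] .nil .nil))) (.node [68,61,72,60] (.node [65,62,67,63] (.node [72,68,65,60] .nil .nil) (.node [75,63,73,62] .nil .nil)) (.node [62,63,73,60] (.node [66,66,62,62] .nil .nil) .nil))))))

/-- A part. -/
noncomputable def centWords0_2 : Arr (List ℕ) :=
  (.node [69,67,63] centWords0_0 centWords0_1)

/-- A part. -/
noncomputable def centWords0_3 : Arr (List ℕ) :=
  (.node [66,75,66,63] (.node [62,66,68,60] (.node [62,73,65,63] (.node [75,64,74,60] (.node [64,66,72,60] (.node [71,60,64,61] (.node [67,73,61,60] .nil .nil) (.node [60,72,64] .nil .nil)) (.node [60,73,61] (.node [66,64,64,60] .nil .nil) (.node [68,63,70,61] .nil .nil))) (.node [71,61] (.node [65,69,61] (.node [62,60,71,60] .nil .nil) (.node [60,71,64,60] .nil .nil)) (.node [63,73,67,63] (.node [64,67,71,60] .nil .nil) (.node [68,69,63,61,60] .nil .nil)))) (.node [64,64,74,61] (.node [68,63,63,60] (.node [60,68,60]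 (.node [70,62,65,61] .nil .nil) (.node [67,62,67,62] .nil .nil)) (.node [63,60,61,60] (.node [64,65,61,60] .nil .nil) (.node [60,63] .nil .nil))) (.node [63,73,72,64] (.node [64,64,62,63] (.node [75,67,61,60] .nil .nil) (.node [72,60,63,61] .nil .nil)) (.node [60,61,63,60] (.node [67,67,71,60] .nil .nil) (.node [65,69,60,63] .nil .nil))))) (.node [65,63,66,60] (.node [68,69,64] (.node [60,65,67,60] (.node [62,68,71,64] (.node [73,64,60] .nil .nil) (.node [66,75,64,62] .nil .nil)) (.node [66,68,61,60] (.node [64,73,62] .nil .nil) (.node [60,67,60,64,60] .nil .nil))) (.node [75,60,62] (.node [74,68,63,63] (.node [69,73,65,60] .nil .nil) (.node [72,67,63] .nil .nil)) (.node [64,67,66,60] (.node [61,64,73,61] .nil .nil) (.node [75,67,64,60] .nil .nil)))) (.node [64,75,68,62] (.node [62,64,75,60] (.node [66,68,60,62] (.node [75,64,65,61] .nil .nil) (.node [63,73,65,60] .nil .nil)) (.node [60,71,62,60] (.node [72,66,67,60] .nil .nil) (.node [71,68,61,60] .nil .nil))) (.node [63,66,63] (.node [65,73,61]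 (.node [60,61,63,63] .nil .nil) (.node [73,69,61,60] .nil .nil)) (.node [64,64,61,60] (.node [70,61,71,60] .nil .nil) .nil))))) (.node [73,61,74,61] (.node [68,60,66,60] (.node [64,61,75,60] (.node [60,65,75,61] (.node [72,68,63,65,60] (.node [63,61] .nil .nil) (.node [74,60,70,60] .nil .nil)) (.node [73,62,64,61] (.node [64,68,63,61] .nil .nil) (.node [66,68,61] .nil .nil))) (.node [72,74,62,63] (.node [70,74,61,60] (.node [68,71,62] .nil .nil) (.node [63,61,75,60] .nil .nil)) (.node [63,67,73,62] (.node [74,60,71,60] .nil .nil) (.node [60,61,63] .nil .nil)))) (.node [62,64,61,61] (.node [60,75,61,61] (.node [60,62,60,62,60] (.node [73,67,62,62] .nil .nil) (.node [75,67,62] .nil .nil)) (.node [72,75,62] (.node [62,67,69,61] .nil .nil) (.node [62,74,63,62] .nil .nil))) (.node [69,60,69,64] (.node [60,65,65,61,60] (.node [73,60,65,60] .nil .nil) (.node [60,62,70,60] .nil .nil)) (.node [61,72,62,62] (.node [68,64,66,61] .nil .nil) (.node [64,75,64,62] .nil .nil))))) (.node [60,67,65,63] (.node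 [72,60,70,61] (.node [67,62,70,60] (.node [64,62,64] (.node [62,69,66,60] .nil .nil) (.node [63,69,68,61] .nil .nil)) (.node [64,62,65,62] (.node [70,71,62,62] .nil .nil) (.node [66,70,61] .nil .nil))) (.node [64,62,60,62] (.node [68,74,64] (.node [60,66,73,62] .nil .nil) (.node [74,61,64] .nil .nil)) (.node [73,63,62] (.node [63,63] .nil .nil) (.node [68,68,69,60] .nil .nil)))) (.node [74,62,68,61,60] (.node [67,62,62] (.node [68,68,75,61] (.node [64,67,64] .nil .nil) (.node [62,71,69,62] .nil .nil)) (.node [60,72,62,62,60] (.node [67,63,61] .nil .nil) (.node [70,72,60,62] .nil .nil))) (.node [71,62,72,60] (.node [63,62,65,60] (.node [61,68,63] .nil .nil) (.node [71,68,65,60] .nil .nil)) (.node [71,70,62,63] (.node [67,62,67,60] .nil .nil) .nil))))))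

/-- A part. -/
noncomputable def centWords0_4 : Arr (List ℕ) :=
  (.node [74,70,68,60] (.node [70,63,68,60] (.node [61,75,69,61] (.node [62,74,64,60] (.node [65,71,61,60] (.node [71,66,62] (.node [65,60,68,60] .nil .nil) (.node [75,68,65,60] .nil .nil)) (.node [67,62,67,63] (.node [62,66,63,63] .nil .nil) (.node [67,64,62,60] .nil .nil))) (.node [69,63,62] (.node [61,61,67,60] (.node [75,74,64] .nil .nil) (.node [72,70,66,63] .nil .nil)) (.node [70,67,63,62] (.node [72,75,62,63] .nil .nil) (.node [70,63,65,60] .nil .nil)))) (.node [60,65,63,60] (.node [64,64,68,64] (.node [70,67,64,61] (.node [65,63,70,60] .nil .nil) (.node [61,74,64] .nil .nil)) (.node [68,63,69,62] (.node [67,71,68,60] .nil .nil) (.node [71,70,64] .nil .nil))) (.node [63,60,68,61] (.node [71,63,62] (.node [74,67,66,60] .nil .nil) (.node [70,61,69,60] .nil .nil)) (.node [64,74,60] (.node [69,65,61] .nil .nil) (.node [64,74,68,60] .nil .nil))))) (.node [72,75,71,61,60] (.node [74,71,64,60] (.node [63,71,63] (.node [72,67,61]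 (.node [74,69,66,60] .nil .nil) (.node [68,69,63] .nil .nil)) (.node [72,64,69,61] (.node [74,63,69,63] .nil .nil) (.node [69,64,64] .nil .nil))) (.node [72,64,72,61] (.node [67,62,64,61] (.node [62,65,60] .nil .nil) (.node [67,67,64,60] .nil .nil)) (.node [65,71,69,60] (.node [69,73,60,62] .nil .nil) (.node [66,72,69,60] .nil .nil)))) (.node [62,74,67,60] (.node [65,74,63,63] (.node [63,66,64] (.node [65,64,67,60] .nil .nil) (.node [66,66,63] .nil .nil)) (.node [71,66,68,61] (.node [67,74,62] .nil .nil) (.node [60,71,62] .nil .nil))) (.node [68,62,62,60] (.node [74,66,61,60] (.node [63,72,66,62] .nil .nil) (.node [60,68,61,60] .nil .nil)) (.node [61,70,62,60] (.node [75,68,62,62] .nil .nil) .nil))))) (.node [72,75,66,60] (.node [73,66,64,60] (.node [68,74,60] (.node [71,67,61,61] (.node [71,63,70,60] (.node [72,73,65,60] .nil .nil) (.node [66,70,67,63] .nil .nil)) (.node [65,61,72,68,60] (.node [74,63,62,63] .nil .nil) (.node [72,73,62] .nil .nil))) (.node [60,73,66,61] (.node [71,65,68,63]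 (.node [60,61,61,63] .nil .nil) (.node [61,74,62] .nil .nil)) (.node [69,68,62] (.node [61,69,61] .nil .nil) (.node [71,60,74,60] .nil .nil)))) (.node [60,63,72,62,60] (.node [61,63,60,62] (.node [60,63,62] (.node [62,67,75,63] .nil .nil) (.node [62,74,69,60] .nil .nil)) (.node [66,60,63,62] (.node [67,64,61] .nil .nil) (.node [71,73,61,64] .nil .nil))) (.node [67,75,66,60] (.node [73,63,72,62] (.node [66,73,70,63] .nil .nil) (.node [63,62,70,63] .nil .nil)) (.node [75,62,72,64] (.node [66,64,74,62] .nil .nil) (.node [65,64,74,60] .nil .nil))))) (.node [60,75,62,63,60] (.node [64,73,62,63] (.node [72,61,61,61] (.node [68,61,72,63] (.node [69,62,64,61] .nil .nil) (.node [66,71,68,62] .nil .nil)) (.node [61,71,62,62] (.node [62,62,74,60] .nil .nil) (.node [70,67,64] .nil .nil))) (.node [72,61,71,60] (.node [64,64] (.node [65,69,64] .nil .nil) (.node [60,61,68,60] .nil .nil)) (.node [74,63,61,60] (.node [65,64,69,61] .nil .nil) (.node [68,73,66,61] .nil .nil)))) (.node [64,61,74,61] (.node [60,73,61,61]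 (.node [64,69,67,61] (.node [64,65,67,62] .nil .nil) (.node [62,65,63,60] .nil .nil)) (.node [66,63,66,60] (.node [74,60] .nil .nil) (.node [61,74,67,62] .nil .nil))) (.node [66,61,63,60] (.node [60,68,65,61] (.node [61,67,64] .nil .nil) (.node [62,67,63] .nil .nil)) (.node [61,69,72,64] (.node [63,63,67,60] .nil .nil) .nil))))))

/-- A part. -/
noncomputable def centWords0_5 : Arr (List ℕ) :=
  (.node [68,61,68,60] centWords0_3 centWords0_4)

/-- A part. -/
noncomputable def centWords0_6 : Arr (List ℕ) :=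
  (.node [60,67,62] centWords0_2 centWords0_5)

/-- A part. -/
noncomputable def centWords0_7 : Arr (List ℕ) :=
  (.node [70,68,60] (.node [73,69,67,63] (.node [70,64,64] (.node [65,62] (.node [65,72,64,61] (.node [65,75,62,60] (.node [74,64,61,60] .nil .nil) (.node [74,63,61,61] .nil .nil)) (.node [73,62,67,60] (.node [62,71,67,60] .nil .nil) (.node [71,70,68,60] .nil .nil))) (.node [68,72,62,60] (.node [70,61,66,63] (.node [63,67,66,61] .nil .nil) (.node [62,71,69,60] .nil .nil)) (.node [70,64,69,61] (.node [60,71,73,62] .nil .nil) (.node [62,75,67,63] .nil .nil)))) (.node [62,70,71,61] (.node [65,62,70,63,60] (.node [66,67,62,60] (.node [60,61,75,61] .nil .nil) (.node [62,75,72,61,60] .nil .nil)) (.node [74,60,62] (.node [75,60,69,60] .nil .nil) (.node [64,65,64] .nil .nil))) (.node [60,67,65,61,60] (.node [74,62,66,60] (.node [60,61,71,61] .nil .nil) (.node [67,69,62,63] .nil .nil)) (.node [70,71,63,60] (.node [66,60,71,60] .nil .nil) (.node [64,62,64,60] .nil .nil))))) (.node [73,65,62]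 (.node [74,60,61,61] (.node [67,60,71,60] (.node [73,67,60,62] (.node [65,61,61,60] .nil .nil) (.node [62,74,60] .nil .nil)) (.node [69,62,69,61] (.node [65,75,68,61,60] .nil .nil) (.node [67,64,62] .nil .nil))) (.node [68,65,64,61] (.node [68,61,61,60] (.node [71,73,64,60] .nil .nil) (.node [67,60,73,61] .nil .nil)) (.node [71,68,68,63] (.node [75,70,64] .nil .nil) (.node [69,63,70,60] .nil .nil)))) (.node [63,68,69,64] (.node [68,60,63,61,60] (.node [72,64,61,61] (.node [63,61,67,60] .nil .nil) (.node [67,63,63,63] .nil .nil)) (.node [67,61,63] (.node [62,68,68,61] .nil .nil) (.node [64,71,65,60] .nil .nil))) (.node [66,63,74,63] (.node [73,66,61,61] (.node [74,60,61,63] .nil .nil) (.node [61,69,73,61] .nil .nil)) (.node [65,68,61,61] (.node [63,66,70,61] .nil .nil) .nil))))) (.node [61,67,73,61] (.node [64,74,61] (.node [68,60,61,60] (.node [71,70,62,60] (.node [66,62] (.node [72,64,64,60] .nil .nil) (.node [75,71,65,61] .nil .nil)) (.node [75,63,67,60] (.node [65,74,68,60] .nil .nil) (.node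 [62,62,71,60] .nil .nil))) (.node [64,60,66,61] (.node [66,63,67,60] (.node [61,60,65,62] .nil .nil) (.node [61,64,69,61] .nil .nil)) (.node [61,66,75,61] (.node [74,68,62] .nil .nil) (.node [61,71,64,61,60] .nil .nil)))) (.node [61,74,75,60] (.node [65,73,62] (.node [72,67,61,63] (.node [63,67,70,62] .nil .nil) (.node [61,63,71,60] .nil .nil)) (.node [61,73,68,64] (.node [65,75,65,61,60] .nil .nil) (.node [74,61,67,60] .nil .nil))) (.node [67,60,62] (.node [63,75,69,63] (.node [67,72,61] .nil .nil) (.node [61,64,61,60] .nil .nil)) (.node [64,70,64] (.node [60,72,66,60] .nil .nil) (.node [65,75,66,60] .nil .nil))))) (.node [70,62,75,60] (.node [66,74,64] (.node [64,64,75,60] (.node [72,67,61,60] (.node [61,68,65,60] .nil .nil) (.node [69,67,60] .nil .nil)) (.node [60,73,62,62] (.node [66,72,62] .nil .nil) (.node [73,61,68,64] .nil .nil))) (.node [66,74,63] (.node [63,68,72,62] (.node [70,74,65,60] .nil .nil) (.node [68,60,72,61] .nil .nil)) (.node [61,71,62] (.node [70,61,67,61] .nil .nil)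 (.node [62,69,63,62] .nil .nil)))) (.node [64,62,71,60] (.node [68,61,63] (.node [72,64,66,61] (.node [74,63,71,60] .nil .nil) (.node [75,70,64,60] .nil .nil)) (.node [61,64,61,63] (.node [68,69,60] .nil .nil) (.node [63,61,69,60] .nil .nil))) (.node [69,72,64] (.node [66,61,69,63] (.node [68,61,63,63] .nil .nil) (.node [73,61,75,63] .nil .nil)) (.node [73,69,63,62] (.node [67,64,67,62] .nil .nil) .nil))))))

/-- A part. -/
noncomputable def centWords0_8 : Arr (List ℕ) :=
  (.node [75,72,64] (.node [71,66,73,62] (.node [65,63,62] (.node [75,62,63,60] (.node [64,66,71,60] (.node [66,68,75,61,60] (.node [73,62,63,61] .nil .nil) (.node [72,60,74,60] .nil .nil)) (.node [63,67,67,60] (.node [63,67,60,62] .nil .nil) (.node [61,61,64] .nil .nil))) (.node [65,69,61,61] (.node [63,61,60] (.node [72,66,64,61] .nil .nil) (.node [61,60,65,61] .nil .nil)) (.node [60,68,72,61,60] (.node [62,70,64,61] .nil .nil) (.node [67,61,70,62] .nil .nil)))) (.node [68,61] (.node [63,65,74,60] (.node [71,64,66,61] (.node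 [72,70,63,62] .nil .nil) (.node [62,69,75,60] .nil .nil)) (.node [61,72,62] (.node [74,61,61,60] .nil .nil) (.node [66,69,67,63] .nil .nil))) (.node [68,71,67,61] (.node [71,73,62] (.node [68,75,64] .nil .nil) (.node [72,75,64] .nil .nil)) (.node [72,65,60] (.node [61,75,63] .nil .nil) (.node [67,72,69,61] .nil .nil))))) (.node [63,73,67,61] (.node [66,61,64,60] (.node [75,73,63] (.node [63,71,64] (.node [69,62,67,60] .nil .nil) (.node [64,73,67,61] .nil .nil)) (.node [65,73,61,61] (.node [65,73,67,61] .nil .nil) (.node [68,68,63] .nil .nil))) (.node [69,73,62,63] (.node [73,72,62,62] (.node [60,69,66,60] .nil .nil) (.node [73,68,63,60] .nil .nil)) (.node [61,66,66,61] (.node [72,61,63,61] .nil .nil) (.node [62,62,64] .nil .nil)))) (.node [64,64,66,61] (.node [61,63,63] (.node [64,60,62,64] (.node [71,60,65,60] .nil .nil) (.node [71,70,64,60] .nil .nil)) (.node [64,70,61,61] (.node [69,75,63] .nil .nil) (.node [60,62,71,60] .nil .nil))) (.node [69,60,63,62] (.node [66,63,62,63] (.node [67,61,72,62]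 .nil .nil) (.node [71,73,61] .nil .nil)) (.node [68,65,60,62] (.node [68,60,75,62] .nil .nil) .nil))))) (.node [62,67,65,60] (.node [60,61,61] (.node [65,67,64,60] (.node [63,61,61,61] (.node [63,70,62] (.node [64,71,75,62] .nil .nil) (.node [71,61,66,60] .nil .nil)) (.node [63,72,64,60] (.node [66,73,64,61] .nil .nil) (.node [72,73,66,62] .nil .nil))) (.node [62,66,75,60] (.node [69,62,75,61] (.node [75,74,65,60] .nil .nil) (.node [63,61,71,62] .nil .nil)) (.node [75,64,65,62] (.node [61,73,61] .nil .nil) (.node [61,69,61,63] .nil .nil)))) (.node [66,62,62] (.node [68,66,61] (.node [65,62,73,61] (.node [74,68,70,61,60] .nil .nil) (.node [72,64,74,62] .nil .nil)) (.node [71,63,61,60] (.node [72,61,67,61] .nil .nil) (.node [74,72,61] .nil .nil))) (.node [66,64,64] (.node [64,72,62] (.node [69,67,66,61,60] .nil .nil) (.node [66,60,71,66,60] .nil .nil)) (.node [69,63,65,60] (.node [60,66,67,61] .nil .nil) (.node [74,62,63,60] .nil .nil))))) (.node [62,74,63] (.node [66,64,75,60] (.node [71,64,74,61]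 (.node [70,62,64,60] (.node [61,64,62] .nil .nil) (.node [64,66,62] .nil .nil)) (.node [70,64,62] (.node [75,61,73,64] .nil .nil) (.node [70,63,63] .nil .nil))) (.node [63,70,60] (.node [62,73,64,61] (.node [62,69,60] .nil .nil) (.node [73,72,61,64] .nil .nil)) (.node [73,75,66,61] (.node [60,67,74,63] .nil .nil) (.node [66,61,63] .nil .nil)))) (.node [61,60,70,61] (.node [75,71,60,62] (.node [72,61,74,64] (.node [71,71,65,60] .nil .nil) (.node [74,62,75,63] .nil .nil)) (.node [66,66,62,63] (.node [64,72,61,60] .nil .nil) (.node [75,68,62] .nil .nil))) (.node [69,63,69,61] (.node [65,61,74,62] (.node [63,75,64] .nil .nil) (.node [61,75,65,62] .nil .nil)) (.node [75,66,62] (.node [64,60,72,60] .nil .nil) .nil))))))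

/-- A part. -/
noncomputable def centWords0_9 : Arr (List ℕ) :=
  (.node [71,60,75,64] centWords0_7 centWords0_8)

/-- A part. -/
noncomputable def centWords0_10 : Arr (List ℕ) :=
  (.node [75,73,60] (.node [66,72,64] (.node [72,70,62,60] (.node [66,75,61,64] (.node [62,74,62] (.node [75,69,61,61] (.node [61,60,74,62] .nil .nil) (.node [60,63,63,60] .nil .nil)) (.node [64,64,72,60] (.node [63,68,64,60] .nil .nil) (.node [62,63,69,61] .nil .nil))) (.node [65,61,68,64] (.node [65,65,61,61] (.node [62,60,66,61] .nil .nil) (.node [62,71,63] .nil .nil)) (.node [73,65,60,62] (.node [71,61,67,61] .nil .nil) (.node [67,66,64] .nil .nil)))) (.node [72,68,61,60] (.node [65,63,68,60] (.node [61,65,65,63] (.node [74,63,66,60] .nil .nil) (.node [66,68,64,60] .nil .nil)) (.node [64,60,74,60] (.node [64,69,65,60] .nil .nil) (.node [75,60,61,61] .nil .nil))) (.node [63,60,72,61] (.node [64,62,73,62] (.node [73,63] .nil .nil) (.node [64,65,61] .nil .nil)) (.node [69,60,61,60] (.node [63,75,60] .nil .nil)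 (.node [63,65,67,62] .nil .nil))))) (.node [61,64,60,62] (.node [64,64,62,60] (.node [61,70,63,61] (.node [68,74,61,60] (.node [71,62,69,60] .nil .nil) (.node [60,67,67,60] .nil .nil)) (.node [62,67,67,60] (.node [66,70,64,60] .nil .nil) (.node [64,68,63,60] .nil .nil))) (.node [69,64,64,61] (.node [70,61,72,60] (.node [63,66,67,60] .nil .nil) (.node [60,69,65,61] .nil .nil)) (.node [63,62,64] (.node [73,71,61,60] .nil .nil) (.node [69,71,63,63] .nil .nil)))) (.node [73,65,69,63] (.node [61,60,68,60] (.node [61,64,70,60] (.node [66,67,70,60] .nil .nil) (.node [64,75,70,60] .nil .nil)) (.node [61,65,69,60] (.node [67,66,67,63] .nil .nil) (.node [60,62,72,60] .nil .nil))) (.node [68,71,67,60] (.node [75,61,63,60] (.node [66,61,74,61] .nil .nil) (.node [67,70,66,61] .nil .nil)) (.node [60,66,67,60] (.node [65,62,63,61] .nil .nil) .nil))))) (.node [62,62,70,61] (.node [69,65,63,60] (.node [70,72,63] (.node [68,63,70,60] (.node [60,64,75,61] (.node [61,67,67,60] .nil .nil) (.node [65,68,63,61]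 .nil .nil)) (.node [60,72,62] (.node [71,67,64,60] .nil .nil) (.node [64,71,67,61] .nil .nil))) (.node [63,60,65,60] (.node [60,62,67,64] (.node [63,61,66,60] .nil .nil) (.node [60,63,61] .nil .nil)) (.node [68,62,73,60] (.node [75,65,63,60] .nil .nil) (.node [68,73,64,60] .nil .nil)))) (.node [64,71,73,61] (.node [72,69,61,60] (.node [61,64,75,60] (.node [73,70,65,61,60] .nil .nil) (.node [63,73,61,60] .nil .nil)) (.node [67,61,61] (.node [72,69,60] .nil .nil) (.node [66,63,63,63] .nil .nil))) (.node [75,72,63,63] (.node [73,66,74,62] (.node [65,75,73,60] .nil .nil) (.node [68,64,75,60] .nil .nil)) (.node [61,60,63,60] (.node [75,66,61,60] .nil .nil) (.node [62,70,67,64] .nil .nil))))) (.node [68,72,61] (.node [64,65,64,60] (.node [61,71,65,63] (.node [70,63,67,62] (.node [72,65,62,62] .nil .nil) (.node [66,67,65,60] .nil .nil)) (.node [63,68,62] (.node [60,65,65,60] .nil .nil) (.node [64,64,71,60] .nil .nil))) (.node [64,75,74,60] (.node [63,74,63] (.node [74,62,69,60] .nil .nil) (.node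 [66,62,68,64] .nil .nil)) (.node [68,75,62,60] (.node [74,60,63,61] .nil .nil) (.node [60,68,73,61] .nil .nil)))) (.node [66,64,70,60] (.node [61,68,66,61] (.node [69,66,60,62] (.node [70,64,64,60] .nil .nil) (.node [71,70,65,61] .nil .nil)) (.node [66,67,67,61,60] (.node [72,70,60] .nil .nil) (.node [69,61,72,60] .nil .nil))) (.node [62,66,63] (.node [68,70,61,60] (.node [74,69,64] .nil .nil) (.node [64,60,67,60] .nil .nil)) (.node [61,72,65,64] (.node [60,63,60] .nil .nil) .nil))))))

/-- A part. -/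
noncomputable def centWords0_11 : Arr (List ℕ) :=
  (.node [60,74,60] (.node [61,61,71,61] (.node [67,63,65,60] (.node [72,60,61,61] (.node [75,61,61,63] (.node [71,62,67,62] (.node [64,64,68,61] .nil .nil) (.node [60,63,66,61] .nil .nil)) (.node [60,63,73,61] (.node [61,70,61,60] .nil .nil) (.node [69,68,63] .nil .nil))) (.node [62,62,66,60] (.node [63,72,70,60] (.node [61,60,73,61] .nil .nil) (.node [60,65,60] .nil .nil)) (.node [70,63,75,61] (.node [74,75,63] .nil .nil) (.node [69,61,71,60] .nil .nil)))) (.node [63,67,69,61] (.node [75,61,64,61] (.node [68,63,66,60] (.node [70,64,65,60] .nil .nil) (.node [73,64,68,62] .nil .nil)) (.node [63,72,63] (.node [72,67,60,61,60] .nil .nil) (.node [65,73,64,60] .nil .nil))) (.node [72,64,67,60] (.node [65,73,64,61] (.node [61,66,61] .nil .nil) (.node [68,63,73,64] .nil .nil)) (.node [70,67,69,61] (.node [70,68,64] .nil .nil) (.node [66,67,61,61] .nil .nil))))) (.node [72,60,67,61] (.node [71,75,61,61,60] (.node [62,75,66,61] (.node [63,60,69,63]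 (.node [62,62,72,62] .nil .nil) (.node [64,73,60] .nil .nil)) (.node [73,72,64,61] (.node [66,60,74,62] .nil .nil) (.node [73,60,70,60] .nil .nil))) (.node [61,64,60] (.node [62,71,63,62,60] (.node [64,60,74,62] .nil .nil) (.node [62,69,61,61] .nil .nil)) (.node [67,74,63,60] (.node [64,62,68,60] .nil .nil) (.node [67,66,64,60] .nil .nil)))) (.node [70,62,69,60] (.node [73,66,64] (.node [71,69,65,61] (.node [60,63,60,62] .nil .nil) (.node [63,65,64] .nil .nil)) (.node [62,67,63,60] (.node [71,65,61,60] .nil .nil) (.node [61,60,66,60] .nil .nil))) (.node [67,61,73,62] (.node [64,69,62,63] (.node [63,69,64,61] .nil .nil) (.node [67,73,64,62] .nil .nil)) (.node [72,67,69,61] (.node [66,63,62] .nil .nil) .nil))))) (.node [65,63] (.node [62,62,72,63] (.node [71,64,60] (.node [68,73,60] (.node [63,73,65,63] (.node [72,64,62] .nil .nil) (.node [68,66,64,60] .nil .nil)) (.node [62,65,63,70,60] (.node [64,74,69,61] .nil .nil) (.node [74,60,61,60] .nil .nil))) (.node [71,60,63,61] (.node [67,60,73,60]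 (.node [67,66,60] .nil .nil) (.node [67,66,61] .nil .nil)) (.node [73,62,67,63,60] (.node [63,69,62] .nil .nil) (.node [72,67,63,60] .nil .nil)))) (.node [73,70,62] (.node [67,64,65,62] (.node [72,63,70,64] (.node [61,68,63,60] .nil .nil) (.node [62,72,64] .nil .nil)) (.node [67,74,60,63] (.node [64,67,64,61] .nil .nil) (.node [67,74,70,61,60] .nil .nil))) (.node [67,74,66,60] (.node [75,63,70,61,60] (.node [62,65,62] .nil .nil) (.node [70,66,62,60] .nil .nil)) (.node [66,74,62] (.node [61,67,63,60] .nil .nil) (.node [61,70,68,60] .nil .nil))))) (.node [63,63,74,60] (.node [70,66,67,61] (.node [71,75,62,60] (.node [69,66,66,62] (.node [64,74,69,60] .nil .nil) (.node [65,71,68,60] .nil .nil)) (.node [70,61,63,63] (.node [74,61,60] .nil .nil) (.node [74,60,63,60] .nil .nil))) (.node [62,68,66,61] (.node [61,70,62] (.node [70,60,61,61] .nil .nil) (.node [62,68,63,62] .nil .nil)) (.node [62,72,65,61] (.node [73,66,63] .nil .nil) (.node [65,64,70,60] .nil .nil)))) (.node [61,63,73,61,60] (.node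 [61,68,69,60] (.node [67,74,66,61,60] (.node [72,64,60] .nil .nil) (.node [67,70,64,60] .nil .nil)) (.node [67,66,61,60] (.node [63,63,70,62] .nil .nil) (.node [64,60,67,61] .nil .nil))) (.node [64,67,72,60] (.node [68,75,67,63] (.node [70,64,61,60] .nil .nil) (.node [75,61,71,60] .nil .nil)) (.node [64,66,64,61] (.node [63,73,67,62] .nil .nil) .nil))))))

/-- A part. -/
noncomputable def centWords0_12 : Arr (List ℕ) :=
  (.node [67,62,67,61] centWords0_10 centWords0_11)

/-- A part. -/
noncomputable def centWords0_13 : Arr (List ℕ) :=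
  (.node [70,68,60,63] centWords0_9 centWords0_12)

/-- A part. -/
noncomputable def centWords0_14 : Arr (List ℕ) :=
  (.node [66,64,74,63] centWords0_6 centWords0_13)

/-- A part. -/
noncomputable def centWords0_15 : Arr (List ℕ) :=
  (.node [62,60,72,61] (.node [75,68,68,64] (.node [75,64,64] (.node [61,70,64] (.node [63,62,64,61] (.node [66,72,62,60] (.node [66,60,64,61] .nil .nil) (.node [63,75,70,62] .nil .nil)) (.node [65,72,67,60] (.node [73,67,64] .nil .nil) (.node [64,73,70,60] .nil .nil))) (.node [63,67,61] (.node [71,66,61] (.node [72,67,64] .nil .nil) (.node [70,64,61] .nil .nil)) (.node [65,68,61,60] (.node [63,69,61,60] .nil .nil) (.node [73,66,63,60] .nil .nil)))) (.node [71,62,62] (.node [63,74,68,61] (.node [67,63,63,61] (.node [70,63,67,61,60] .nil .nil) (.node [68,72,64,60] .nil .nil)) (.node [62,72,62] (.node [64,65,69,63] .nil .nil) (.node [70,63,63,60] .nil .nil))) (.node [63,69,63,62] (.node [75,62,63] (.node [71,64] .nil .nil) (.node [74,60,63] .nil .nil)) (.node [69,61,61,60]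 (.node [74,65,68,61] .nil .nil) (.node [74,69,60,63] .nil .nil))))) (.node [73,72,63,62] (.node [72,62,74,61] (.node [64,72,65,61] (.node [70,61,64] (.node [71,60,73,61] .nil .nil) (.node [68,72,62,62] .nil .nil)) (.node [73,68,61,60] (.node [67,69,63] .nil .nil) (.node [74,63,65,61] .nil .nil))) (.node [68,69,61] (.node [66,66,63,61] (.node [62,66,63,62] .nil .nil) (.node [73,63,65,61] .nil .nil)) (.node [74,70,60] (.node [63,67,61,61] .nil .nil) (.node [60,65,69,61] .nil .nil)))) (.node [63,61,65,60] (.node [62,66,62,63] (.node [61,61,68,61] (.node [61,68,65,63] .nil .nil) (.node [64,74,64] .nil .nil)) (.node [64,65,70,63] (.node [66,75,61,60] .nil .nil) (.node [74,63,62,62] .nil .nil))) (.node [64,68,64,61] (.node [63,75,69,61,60] (.node [68,66,61,61] .nil .nil) (.node [72,68,63] .nil .nil)) (.node [65,61,69,61] (.node [64,72,68,63] .nil .nil) .nil))))) (.node [61,65,67,62] (.node [71,62,65,61] (.node [71,63,72,60] (.node [71,62,71,60] (.node [61,60,65,64] (.node [75,63,60] .nil .nil) (.node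 [66,61,67,62] .nil .nil)) (.node [69,61,63,60] (.node [63,70,61,60] .nil .nil) (.node [72,73,64,61] .nil .nil))) (.node [63,75,74,61] (.node [70,62,66,64] (.node [66,67,67,60] .nil .nil) (.node [75,74,60] .nil .nil)) (.node [68,64,74,60] (.node [60,74,71,61] .nil .nil) (.node [71,63,69,63] .nil .nil)))) (.node [67,64,70,60] (.node [73,66,61] (.node [73,69,60] (.node [72,62,64,61] .nil .nil) (.node [61,74,64,60] .nil .nil)) (.node [64,66,61,70,60] (.node [70,71,60,62] .nil .nil) (.node [75,71,61,60] .nil .nil))) (.node [69,73,65,61] (.node [62,71,63,61,60] (.node [60,62,63,60] .nil .nil) (.node [68,65,67,61] .nil .nil)) (.node [64,60,72,61] (.node [73,71,60] .nil .nil) (.node [73,62,65,62] .nil .nil))))) (.node [75,62,60] (.node [75,72,64,62] (.node [69,64,74,60] (.node [60,73,64,61] (.node [62,60,61,61] .nil .nil) (.node [62,75,60] .nil .nil)) (.node [72,64,72,63] (.node [70,60,73,61] .nil .nil) (.node [72,60,64,61] .nil .nil))) (.node [73,69,66,60] (.node [61,70,61,64] (.node [72,62,64,60]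 .nil .nil) (.node [68,75,60] .nil .nil)) (.node [63,73,64,60] (.node [63,75,61,61,60] .nil .nil) (.node [64,69,68,60] .nil .nil)))) (.node [70,63,74,60] (.node [73,60,73,61] (.node [62,64,70,60] (.node [62,67,69,64] .nil .nil) (.node [61,67,66,61] .nil .nil)) (.node [64,70,60] (.node [65,75,62] .nil .nil) (.node [68,65,73,60] .nil .nil))) (.node [73,69,63,63] (.node [62,62] (.node [66,62,63,61] .nil .nil) (.node [63,71,65,62] .nil .nil)) (.node [64,73,67,60] (.node [75,60,61,60] .nil .nil) .nil))))))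

/-- A part. -/
noncomputable def centWords0_16 : Arr (List ℕ) :=
  (.node [75,63,63] (.node [73,71,68,61] (.node [66,64,71,62] (.node [63,61,69,62] (.node [75,68,61] (.node [73,67,61] (.node [72,62,62] .nil .nil) (.node [67,67,62,60] .nil .nil)) (.node [74,61,72,60] (.node [61,65,63,60] .nil .nil) (.node [62,60,62] .nil .nil))) (.node [64,62,68,61] (.node [71,60,71,62] (.node [72,64,71,63] .nil .nil) (.node [65,72,61,60] .nil .nil)) (.node [60,73,70,63] (.node [68,68,65,60] .nil .nil) (.node [69,66,70,61] .nil .nil)))) (.node [72,68,68,61] (.node [64,72,70,60] (.node [67,61] (.node [69,63,72,62] .nil .nil) (.node [65,60,61,60] .nil .nil)) (.node [68,73,65,61] (.node [75,61,63,61] .nil .nil) (.node [62,62,64,61] .nil .nil))) (.node [69,60,67,60] (.node [65,63,74,62] (.node [66,61,73,61] .nil .nil) (.node [63,62,65,61,60] .nil .nil)) (.node [67,69,68,63] (.node [60,69,75,60] .nil .nil) (.node [70,66,66,63] .nil .nil))))) (.node [70,61] (.node [61,67,70,60] (.node [67,72,60] (.node [65,71,61]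 (.node [66,71,60] .nil .nil) (.node [64,68,64,60] .nil .nil)) (.node [62,62,63,63] (.node [70,60,62,62] .nil .nil) (.node [72,68,61,64] .nil .nil))) (.node [66,75,64,61,60] (.node [75,62,71,60] (.node [73,60,69,60] .nil .nil) (.node [64,68,64,61,60] .nil .nil)) (.node [60,65,63,63] (.node [61,61,60] .nil .nil) (.node [62,60,70,62] .nil .nil)))) (.node [71,65,63,60] (.node [64,60,71,60] (.node [69,64,68,60] (.node [65,61,63,60] .nil .nil) (.node [73,63,69,63] .nil .nil)) (.node [61,64,66,64] (.node [61,63,62,62] .nil .nil) (.node [64,64,73,62] .nil .nil))) (.node [69,61,65,60] (.node [71,63,72,62] (.node [68,64,64] .nil .nil) (.node [62,68,63] .nil .nil)) (.node [73,71,61] (.node [73,64] .nil .nil) .nil))))) (.node [67,64,67,64] (.node [65,65,63,60] (.node [67,60,66,60] (.node [63,70,64,61] (.node [66,64,62,62] (.node [62,68,62] .nil .nil) (.node [66,70,64,61] .nil .nil)) (.node [67,71,68,61] (.node [75,61,61] .nil .nil) (.node [69,65,63,61] .nil .nil))) (.node [69,72,61,60] (.node [66,73,64,60]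 (.node [62,65,64,64] .nil .nil) (.node [74,64,68,60] .nil .nil)) (.node [72,66,61,64] (.node [75,63] .nil .nil) (.node [74,68,60] .nil .nil)))) (.node [72,68,61,61] (.node [63,68,62,62] (.node [61,70,74,62] (.node [73,68,66,61] .nil .nil) (.node [71,65,70,60] .nil .nil)) (.node [62,73,60] (.node [74,67,62,60] .nil .nil) (.node [64,73,63] .nil .nil))) (.node [75,60,74,60] (.node [64,64,60,62,60] (.node [74,67,65,60] .nil .nil) (.node [64,65,73,61] .nil .nil)) (.node [67,67,74,61] (.node [61,60,64,60] .nil .nil) (.node [61,70,75,62] .nil .nil))))) (.node [66,62,62,63] (.node [67,63,61,60] (.node [69,64,71,60] (.node [63,65,61,61,60] (.node [68,64,64,61] .nil .nil) (.node [61,72,61,61] .nil .nil)) (.node [66,68,65,60] (.node [73,69,60,63] .nil .nil) (.node [71,68,66,60] .nil .nil))) (.node [68,69,62] (.node [74,65,65,60] (.node [64,69,62,60] .nil .nil) (.node [75,63,75,64] .nil .nil)) (.node [62,71,60] (.node [66,74,63,60] .nil .nil) (.node [68,66,61,60] .nil .nil)))) (.node [73,72,62] (.node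 [75,69,61,60] (.node [63,68,74,60] (.node [64,65,62,60] .nil .nil) (.node [74,63,74,64] .nil .nil)) (.node [62,63,67,62] (.node [68,71,61,61] .nil .nil) (.node [73,63,60] .nil .nil))) (.node [64,60,64,61] (.node [65,61,68,61,60] (.node [64,68,66,62] .nil .nil) (.node [68,66,64] .nil .nil)) (.node [60,62,63] (.node [63,65,65,62] .nil .nil) .nil))))))

/-- A part. -/
noncomputable def centWords0_17 : Arr (List ℕ) :=
  (.node [69,73,68,60] centWords0_15 centWords0_16)

/-- A part. -/
noncomputable def centWords0_18 : Arr (List ℕ) :=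
  (.node [61,61,71,60] (.node [66,63,63] (.node [74,63,68,60] (.node [60,74,65,63] (.node [75,61,60] (.node [71,64,61] (.node [70,62,64,61] .nil .nil) (.node [66,69,60] .nil .nil)) (.node [70,64,60] (.node [72,61,66,63] .nil .nil) (.node [67,64,62,63] .nil .nil))) (.node [74,66,67,61] (.node [69,60,62] (.node [74,62,65,60] .nil .nil) (.node [65,69,61,60] .nil .nil)) (.node [61,74,70,61] (.node [60,71,63,60] .nil .nil) (.node [72,62,62,60] .nil .nil)))) (.node [63,63,70,60] (.node [75,67,61,61] (.node [73,61,74,60] (.node [73,72,62,60] .nil .nil) (.node [64,61,67,60] .nil .nil)) (.node [66,62,66,63] (.node [62,75,70,60] .nil .nil) (.node [64,64,64,60] .nil .nil))) (.node [73,71,68,62] (.node [74,67,62,62] (.node [66,73,64] .nil .nil) (.node [60,72,63,60] .nil .nil)) (.node [71,66,74,60] (.node [61,71,64] .nil .nil) (.node [71,62,73,60] .nil .nil))))) (.node [66,63,66,61] (.node [65,70,63,63] (.node [67,60] (.node [74,64,71,61] (.node [64,62,64,61] .nil .nil) (.node [64,64,64,62,60] .nil .nil))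 (.node [64,67,62,60] (.node [65,64,65,63] .nil .nil) (.node [70,64,74,61] .nil .nil))) (.node [70,68,61,60] (.node [60,68,62,63,60] (.node [74,61,70,61] .nil .nil) (.node [74,62,67,62] .nil .nil)) (.node [69,60] (.node [73,60,71,60] .nil .nil) (.node [75,61,66,63] .nil .nil)))) (.node [65,75,60] (.node [66,61,70,62] (.node [68,68,65,61] (.node [63] .nil .nil) (.node [68,62,62] .nil .nil)) (.node [67,73,64] (.node [74,64,70,62] .nil .nil) (.node [62,68,61,61] .nil .nil))) (.node [65,71,63] (.node [63,67,62,62] (.node [72,62,64,62] .nil .nil) (.node [63,61,61] .nil .nil)) (.node [69,75,61] (.node [60,61,60] .nil .nil) .nil))))) (.node [70,65,69,63] (.node [69,64,64,60] (.node [60,63,69,60] (.node [66,74,61,60] (.node [67,63,72,61] (.node [62,67,60] .nil .nil) (.node [63,65,61] .nil .nil)) (.node [60,66,62,60] (.node [66,71,61,60] .nil .nil) (.node [71,64,64] .nil .nil))) (.node [68,65,61,61] (.node [72,73,61] (.node [75,69,66,60] .nil .nil) (.node [66,61,67,61] .nil .nil)) (.node [72,60,69,64]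 (.node [64,62,62] .nil .nil) (.node [70,61,72,61] .nil .nil)))) (.node [63,62,65,63] (.node [67,60,69,62] (.node [63,66,74,61] (.node [72,70,62,63] .nil .nil) (.node [67,64,75,63] .nil .nil)) (.node [68,60,74,62] (.node [61,68,71,60] .nil .nil) (.node [61,67,74,61] .nil .nil))) (.node [70,66,68,61] (.node [68,62,65,63] (.node [63,63,63] .nil .nil) (.node [64,66,64] .nil .nil)) (.node [63,61,65,61] (.node [60,62,66,60] .nil .nil) (.node [69,63,71,60] .nil .nil))))) (.node [69,71,62,60] (.node [74,65,60] (.node [67,72,64,61] (.node [70,72,67,61] (.node [62,72,61,61] .nil .nil) (.node [69,65,62,60] .nil .nil)) (.node [68,63,63] (.node [64,68,75,61] .nil .nil) (.node [74,68,65,60] .nil .nil))) (.node [75,61,67,61] (.node [66,67,64] (.node [63,75,73,60] .nil .nil) (.node [69,63,75,60] .nil .nil)) (.node [69,72,61] (.node [64,60,65,61] .nil .nil) (.node [73,62,62,60] .nil .nil)))) (.node [67,64,61,60] (.node [68,68,62] (.node [73,61,61] (.node [71,64,61,60] .nil .nil) (.node [67,64,64] .nil .nil))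 (.node [61,72,70,60] (.node [70,61,72,63] .nil .nil) (.node [65,75,63,63] .nil .nil))) (.node [75,60,62,63] (.node [64,65,63] (.node [66,69,64,61] .nil .nil) (.node [66,73,66,61] .nil .nil)) (.node [62,62,62] (.node [67,65,62,60] .nil .nil) .nil))))))

/-- A part. -/
noncomputable def centWords0_19 : Arr (List ℕ) :=
  (.node [63,63,62] (.node [64,65,64,61] (.node [60,62,66,63] (.node [65,63,72,62] (.node [72,69,62] (.node [64,67,60] (.node [75,64,68,63] .nil .nil) (.node [62,65,62,63] .nil .nil)) (.node [74,71,61] (.node [73,68,60] .nil .nil) (.node [67,63,69,61] .nil .nil))) (.node [74,62,64,61] (.node [61,64,61] (.node [70,72,62] .nil .nil) (.node [70,71,61,60] .nil .nil)) (.node [69,62,72,60] (.node [66,60,75,62] .nil .nil) (.node [65,69,65,60] .nil .nil)))) (.node [62,68,61,60] (.node [61,61,73,60] (.node [66,61,73,60] (.node [75,68,70,61,60] .nil .nil) (.node [74,66,68,60] .nil .nil)) (.node [64,62,72,62] (.node [63,63,66,60] .nil .nil) (.node [75,71,62,62] .nil .nil))) (.node [74,71,61,61]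 (.node [63,74,60,62] (.node [60,64,62,62] .nil .nil) (.node [64,70,62,60] .nil .nil)) (.node [64,69,64,64] (.node [65,63,73,62] .nil .nil) (.node [66,63,71,63] .nil .nil))))) (.node [63,66,71,60] (.node [67,64,66,64] (.node [71,63,65,60] (.node [68,69,61,60] (.node [71,62,63] .nil .nil) (.node [68,62,65,61] .nil .nil)) (.node [69,64,66,63] (.node [63,74,64] .nil .nil) (.node [62,73,66,60] .nil .nil))) (.node [75,66,63] (.node [64,65,75,60] (.node [71,65,62,63] .nil .nil) (.node [74,71,62] .nil .nil)) (.node [65,71,64] (.node [70,68,73,64] .nil .nil) (.node [74,69,61,61] .nil .nil)))) (.node [72,61,65,62] (.node [73,69,65,60] (.node [74,65,60,62] (.node [73,66,60] .nil .nil) (.node [69,68,64,61,60] .nil .nil)) (.node [61,73,60,63,60] (.node [65,63,63] .nil .nil) (.node [72,68,62] .nil .nil))) (.node [66,63,62,60] (.node [67,64,73,61] (.node [62,64] .nil .nil) (.node [65,65,61] .nil .nil)) (.node [70,61,74,61,60] (.node [64,71,63] .nil .nil) .nil))))) (.node [74,65,63] (.node [64,61,61,60] (.node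 [64,61,63,61] (.node [72,74,60,62] (.node [69,63,66,64] (.node [61,65,70,60] .nil .nil) (.node [72,61,60] .nil .nil)) (.node [68,73,61,61] (.node [60,63,72,60] .nil .nil) (.node [73,67,61,60] .nil .nil))) (.node [74,68,61,60] (.node [75,70,63] (.node [61,72,73,64] .nil .nil) (.node [69,64,61,63] .nil .nil)) (.node [73,64,70,60] (.node [74,67,64,60] .nil .nil) (.node [70,63,65,61] .nil .nil)))) (.node [65,67,61] (.node [64,65,65,61] (.node [65,64,73,60] (.node [64,72,66,60] .nil .nil) (.node [66,64,65,64] .nil .nil)) (.node [68,62,74,60] (.node [64,70,62] .nil .nil) (.node [67,67,63,60] .nil .nil))) (.node [68,63] (.node [72,60,64,62] (.node [64,66,61] .nil .nil) (.node [64,71,63,60] .nil .nil)) (.node [69,65,63,62] (.node [64,72,63,60] .nil .nil) (.node [72,61,63] .nil .nil))))) (.node [62,62,75,64] (.node [73,61,61,63] (.node [72,63,63,60] (.node [66,61,74,60] (.node [62,65,64,60] .nil .nil) (.node [67,62,68,60] .nil .nil)) (.node [67,74,63] (.node [60,65,68,63] .nil .nil) (.node [72,69,61,64]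 .nil .nil))) (.node [65,60,64,61] (.node [71,69,63] (.node [61,61,75,60] .nil .nil) (.node [61,69,67,60] .nil .nil)) (.node [69,63,62,60] (.node [62,66,63,60] .nil .nil) (.node [60,75,63,60] .nil .nil)))) (.node [75,62,68,60] (.node [64,67,66,63] (.node [72,61,72,60] (.node [68,63,65,60] .nil .nil) (.node [63,72,62,60] .nil .nil)) (.node [60,75,70,63] (.node [75,74,64,61] .nil .nil) (.node [66,63,69,62] .nil .nil))) (.node [65,74,61] (.node [62,68,75,61] (.node [61,71,66,60] .nil .nil) (.node [68,63,62,60] .nil .nil)) (.node [67,60,68,60] (.node [67,69,64] .nil .nil) .nil))))))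

/-- A part. -/
noncomputable def centWords0_20 : Arr (List ℕ) :=
  (.node [65,67,66,60] centWords0_18 centWords0_19)

/-- A part. -/
noncomputable def centWords0_21 : Arr (List ℕ) :=
  (.node [67,73,65,60] centWords0_17 centWords0_20)

/-- A part. -/
noncomputable def centWords0_22 : Arr (List ℕ) :=
  (.node [60,72,60] (.node [74,63,63,62] (.node [65,60,64,60] (.node [73,62,74,62] (.node [70,65,61,61] (.node [69,68,65,61] (.node [64,64,64,61] .nil .nil) (.node [65,61,70,60] .nil .nil)) (.node [70,66,63] (.node [73,62,75,60] .nil .nil) (.node [66,64,74,60] .nil .nil))) (.node [61,72,62,60] (.node [68,69,68,61] (.node [64,72,61,61] .nil .nil) (.node [67,63,65,64] .nil .nil)) (.node [66,61,75,60] (.node [63,74,64,60] .nil .nil) (.node [65,60,67,62] .nil .nil)))) (.node [63,68,66,64] (.node [61,66,67,61] (.node [62,68,63,60] (.node [61,60,72,62] .nil .nil) (.node [60,63,67,60] .nil .nil)) (.node [72,62,63] (.node [63,73,66,60] .nil .nil) (.node [61,64] .nil .nil))) (.node [62,75,74,61] (.node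 [74,70,61,60] (.node [61,72,61,60] .nil .nil) (.node [61,73,64,60] .nil .nil)) (.node [62,67,61] (.node [70,74,64,61] .nil .nil) (.node [67,74,65,61] .nil .nil))))) (.node [61,74,68,61] (.node [64,69,71,61,60] (.node [71,62,74,60] (.node [72,68,62,62] (.node [72,69,63] .nil .nil) (.node [73,61,60] .nil .nil)) (.node [67,69,64,61] (.node [61,63,67,61] .nil .nil) (.node [67,69,66,61,60] .nil .nil))) (.node [68,74,65,61,60] (.node [62,68,69,60] (.node [65,63,65,62,60] .nil .nil) (.node [70,63,67,60] .nil .nil)) (.node [66,62,64] (.node [62,70,65,61] .nil .nil) (.node [66,72,64,60] .nil .nil)))) (.node [65,68,60] (.node [65,62,64,62] (.node [63,61,64,61] (.node [61,61,69,60] .nil .nil) (.node [65,73,64,62] .nil .nil)) (.node [74,69,60] (.node [63,65,62,60] .nil .nil) (.node [67,75,63] .nil .nil))) (.node [62,64,64,61] (.node [60,66,75,63] (.node [71,64,72,60] .nil .nil) (.node [72,67,64,60] .nil .nil)) (.node [61,67,74,63] (.node [72,61,64,60] .nil .nil) .nil))))) (.node [69,68,66,61,60] (.node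 [74,65,63,60] (.node [69,66,63,60] (.node [73,64,74,61] (.node [64,75,60] (.node [64,71,64,61] .nil .nil) (.node [70,64,74,60] .nil .nil)) (.node [66,63,75,62] (.node [64,64,67,61] .nil .nil) (.node [66,72,63] .nil .nil))) (.node [64,67,61,61] (.node [65,64,61,60] (.node [62,62,73,60] .nil .nil) (.node [61,64,71,62] .nil .nil)) (.node [71,75,60,68,60] (.node [75,63,72,63] .nil .nil) (.node [60,71,66,60] .nil .nil)))) (.node [74,72,62] (.node [68,71,63,62] (.node [63,71,62,60] (.node [64,69,62] .nil .nil) (.node [72,70,64] .nil .nil)) (.node [61,64,65,63] (.node [68,60,64,60] .nil .nil) (.node [60,74,63,60] .nil .nil))) (.node [65,63,71,61] (.node [71,66,61,61] (.node [70,61,70,61] .nil .nil) (.node [67,60,69,60] .nil .nil)) (.node [64,72,66,62] (.node [71,67,63,60] .nil .nil) (.node [64,69,66,61,60] .nil .nil))))) (.node [74,65,63,62] (.node [68,60,70,60] (.node [75,61,73,60] (.node [63,66,62,60] (.node [75,68,61,61] .nil .nil) (.node [60,63,62,60] .nil .nil)) (.node [65,64,72,63] (.node [70,71,64]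 .nil .nil) (.node [66,63,69,60] .nil .nil))) (.node [75,63,74,60] (.node [62,66,71,62] (.node [60,74,64,60] .nil .nil) (.node [74,62,75,61] .nil .nil)) (.node [75,60,72,62] (.node [61,74,64,61] .nil .nil) (.node [65,63,61,61,60] .nil .nil)))) (.node [68,64,74,61] (.node [66,66,61,61] (.node [68,62,69,61] (.node [73,67,62] .nil .nil) (.node [60,63,73,60] .nil .nil)) (.node [72,75,61,61] (.node [63,66,72,62] .nil .nil) (.node [69,71,60] .nil .nil))) (.node [67,60,65,62] (.node [70,72,62,60] (.node [61,71,60] .nil .nil) (.node [67,70,60] .nil .nil)) (.node [67,67,61,60] (.node [69,61,73,60] .nil .nil) .nil))))))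

/-- A part. -/
noncomputable def centWords0_23 : Arr (List ℕ) :=
  (.node [61,64,68,60] (.node [63,68,65,60] (.node [70,74,63,62] (.node [74,63,65,60] (.node [60,65,74,61] (.node [65,63,75,62] (.node [66,63,75,61] .nil .nil) (.node [69,61,60] .nil .nil)) (.node [60,75,65,61] (.node [74,72,63,60] .nil .nil) (.node [66,60,62,63] .nil .nil))) (.node [69,71,61,60] (.node [71,71,62] (.node [68,64,61,60] .nil .nil) (.node [74,66,71,61,60] .nil .nil)) (.node [72,75,65,61] (.node [72,68,60] .nil .nil) (.node [69,62,64] .nil .nil)))) (.node [68,64,68,64] (.node [64,74,66,60] (.node [66,64,65,60] (.node [72,73,63,62] .nil .nil) (.node [65,68,65,60] .nil .nil)) (.node [62,64,64,60] (.node [64,60,63,60] .nil .nil) (.node [61,75,65,61] .nil .nil))) (.node [67,62,74,62] (.node [71,63,60,61,60] (.node [66,67,62] .nil .nil) (.node [67,61,60] .nil .nil)) (.node [62,68,74,61] (.node [73,64,62] .nil .nil) (.node [65,61,65,60] .nil .nil))))) (.node [69,62,71,64] (.node [63,73,64] (.node [73,63,69,60] (.node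 [60,73,67,60] (.node [66,63,61] .nil .nil) (.node [72,66,62,71,60] .nil .nil)) (.node [75,60,67,60] (.node [61,67,61] .nil .nil) (.node [75,66,70,61] .nil .nil))) (.node [71,65,63] (.node [69,65,67,61] (.node [63,62,63,60] .nil .nil) (.node [68,64,62,62] .nil .nil)) (.node [66,73,64,62] (.node [75,65,72,60] .nil .nil) (.node [62,66,61,63] .nil .nil)))) (.node [68,68,64,60] (.node [63,61,70,60] (.node [60,65,64] (.node [62,72,75,62] .nil .nil) (.node [75,73,65,61,60] .nil .nil)) (.node [68,61,61,63] (.node [68,62] .nil .nil) (.node [67,63,62,60] .nil .nil))) (.node [70,60,63] (.node [66,72,69,61] (.node [70,68,66,60] .nil .nil) (.node [65,69,62] .nil .nil)) (.node [60,68,65,60] (.node [68,74,69,60] .nil .nil) .nil))))) (.node [66,63,72,60] (.node [73,60,62,62] (.node [75,61,74,62] (.node [68,73,60,62] (.node [71,67,64,61] (.node [63,73,70,60] .nil .nil) (.node [62,63,60,62] .nil .nil)) (.node [62,64,62] (.node [60,67,61,64] .nil .nil) (.node [72,60,63] .nil .nil))) (.node [73,68,60,62] (.node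 [61,74,65,62] (.node [63,66,66,61] .nil .nil) (.node [67,71,63,62] .nil .nil)) (.node [68,65,72,61] (.node [60,70,62] .nil .nil) (.node [72,63,60] .nil .nil)))) (.node [71,68,61] (.node [66,61,60] (.node [66,74,60,63] (.node [67,67,67,61,60] .nil .nil) (.node [69,64,74,63] .nil .nil)) (.node [61,65,60] (.node [66,75,62] .nil .nil) (.node [63,72,68,60] .nil .nil))) (.node [64,71,68,61] (.node [66,74,65,61] (.node [72,73,66,60] .nil .nil) (.node [64,68,68,64] .nil .nil)) (.node [63,72,62] (.node [68,65,63,60] .nil .nil) (.node [61,68,62] .nil .nil))))) (.node [68,61,71,60] (.node [73,68,61] (.node [68,73,61] (.node [74,70,61,61] (.node [75,72,62,60] .nil .nil) (.node [75,68,66,61] .nil .nil)) (.node [73,71,66,60] (.node [61,69,75,60] .nil .nil) (.node [74,65,61,60] .nil .nil))) (.node [66,72,61,61] (.node [61,68,61,60] (.node [73,61,70,61] .nil .nil) (.node [64,64,61] .nil .nil)) (.node [60,71,69,62] (.node [68,69,65,60] .nil .nil) (.node [68,70,68,61] .nil .nil)))) (.node [68,68,71,61] (.node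 [65,62,60] (.node [73,64,74,60] (.node [63,63,62,62] .nil .nil) (.node [61,65,61] .nil .nil)) (.node [69,66,62] (.node [62,73,62] .nil .nil) (.node [74,67,64] .nil .nil))) (.node [69,60,64,61] (.node [72,63,61] (.node [69,63,66,60] .nil .nil) (.node [63,67,73,60] .nil .nil)) (.node [71,66,70,61] (.node [61,64,67,63] .nil .nil) .nil))))))

/-- A part. -/
noncomputable def centWords0_24 : Arr (List ℕ) :=
  (.node [67,72,65,60] centWords0_22 centWords0_23)

/-- A part. -/
noncomputable def centWords0_25 : Arr (List ℕ) :=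
  (.node [64,61,63,62] (.node [74,70,62] (.node [61,63,73,61] (.node [72,63,62] (.node [64,68,73,61] (.node [67,61,63,60] (.node [75,63,61,60] .nil .nil) (.node [67,62,62,63] .nil .nil)) (.node [60,67,66,60] (.node [61,72,63,60] .nil .nil) (.node [64,62] .nil .nil))) (.node [73,63,60,62] (.node [66,64,61] (.node [63,73,69,60] .nil .nil) (.node [62,63,60] .nil .nil)) (.node [60,66,62,62,60] (.node [73,60] .nil .nil) (.node [74,70,63,62] .nil .nil)))) (.node [66,75,66,61] (.node [66,63,69,61] (.node [68,73,63,62] (.node [72,61,73,60] .nil .nil) (.node [65,73,66,61,60] .nil .nil)) (.node [73,63,61,60] (.node [66,73,62] .nil .nil) (.node [63,65,62] .nil .nil))) (.node [73,62,66,63] (.node [75,73,61] (.node [68,61,64,61,60] .nil .nil) (.node [61,63] .nil .nil)) (.node [75,65,63,61] (.node [71,62,71,64] .nil .nil) (.node [61,75,61] .nil .nil))))) (.node [72,69,62,60] (.node [65,60] (.node [66,75,64] (.node [73,64,61] (.node [65,63,71,62] .nil .nil) (.node [64,61,65,61] .nil .nil)) (.node [74,71,61,64]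 (.node [75,66,68,60] .nil .nil) (.node [71,64,62,62] .nil .nil))) (.node [61,75,63,60] (.node [62,67,69,62] (.node [65,73,62,63] .nil .nil) (.node [64,61,61] .nil .nil)) (.node [63,67,67,61] (.node [60,68,61] .nil .nil) (.node [74,68,65,61] .nil .nil)))) (.node [72,65,64] (.node [71,61,66,61] (.node [60,68,64] (.node [65,62,68,60] .nil .nil) (.node [63,71,70,61,60] .nil .nil)) (.node [60,66,75,61] (.node [69,68,60,62] .nil .nil) (.node [67,62,64,60] .nil .nil))) (.node [64,61,74,62] (.node [71,65,62] (.node [63,60] .nil .nil) (.node [65,68,61] .nil .nil)) (.node [65,63,72,61] (.node [71,60,62,60] .nil .nil) .nil))))) (.node [63,61,69,63] (.node [63,75,63,61] (.node [73,68,66,60] (.node [61,74,61,60] (.node [75,65,60,62] (.node [70,61,66,61] .nil .nil) (.node [61,68,64,60] .nil .nil)) (.node [71,71,61,60] (.node [72,64,65,60] .nil .nil) (.node [75,60] .nil .nil))) (.node [74,61] (.node [62,60,67,60] (.node [65,68,66,60] .nil .nil) (.node [73,60,61,60] .nil .nil)) (.node [64,68,71,60] (.node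 [75,73,61,60] .nil .nil) (.node [67,63,70,61,60] .nil .nil)))) (.node [61,68,73,61] (.node [70,61,64,61] (.node [72,60,62,60] (.node [70,71,63,62] .nil .nil) (.node [73,72,61,63] .nil .nil)) (.node [69,72,75,62] (.node [60,75,73,60] .nil .nil) (.node [62,72,66,60] .nil .nil))) (.node [64,71,65,61] (.node [60,68,69,63] (.node [69,68,65,60] .nil .nil) (.node [63,70,61] .nil .nil)) (.node [61,63,60] (.node [60,71,65,60] .nil .nil) (.node [73,60,64,60] .nil .nil))))) (.node [74,65,70,61] (.node [61,66,68,60] (.node [64,75,61] (.node [63,67,72,60] (.node [64,67,70,61] .nil .nil) (.node [68,60,71,62] .nil .nil)) (.node [68,62,64] (.node [71,60,67,60] .nil .nil) (.node [66,67,66,63] .nil .nil))) (.node [65,65,60] (.node [64,72,65,60] (.node [61,71,61,60] .nil .nil) (.node [64,67,67,61] .nil .nil)) (.node [65,72,61,61] (.node [67,72,61,64] .nil .nil) (.node [62,70,63,60] .nil .nil)))) (.node [66,64,69,61] (.node [66,67,69,61] (.node [72,74,64,61] (.node [74,62,68,60] .nil .nil) (.node [72,61,65,61]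 .nil .nil)) (.node [68,63,69,61] (.node [60,68,69,60] .nil .nil) (.node [73,68,64,64] .nil .nil))) (.node [72,67,67,61] (.node [62,65,61] (.node [60,73,60,63] .nil .nil) (.node [65,75,71,61] .nil .nil)) (.node [61,71,63] (.node [66,71,68,61] .nil .nil) .nil))))))

/-- A part. -/
noncomputable def centWords0_26 : Arr (List ℕ) :=
  (.node [62,60,68,61] (.node [72,62,68,60] (.node [75,60,71,62] (.node [65,69,63] (.node [63,68,60] (.node [63,63,61] (.node [64,61,63,60] .nil .nil) (.node [61,66,62,60] .nil .nil)) (.node [62,74,61,60] (.node [75,61,64] .nil .nil) (.node [62,74,68,61] .nil .nil))) (.node [73,64,72,62] (.node [64,72,69,64] (.node [64,75,63] .nil .nil) (.node [71,73,64,61] .nil .nil)) (.node [63,67,62] (.node [70,68,74,61] .nil .nil) (.node [68,74,64,64] .nil .nil)))) (.node [64,75,72,61] (.node [70,66,61,61] (.node [63,65,71,61,60] (.node [67,64,71,60] .nil .nil) (.node [69,62,68,62] .nil .nil)) (.node [68,61,70,63,60] (.node [72,60,68,60] .nil .nil) (.node [75,74,65,61] .nil .nil)))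 (.node [65,63,67,60] (.node [70,68,64,61] (.node [69,66,71,61,60] .nil .nil) (.node [70,61,63,60] .nil .nil)) (.node [71,69,62] (.node [73,61,64] .nil .nil) (.node [65,63,68,62] .nil .nil))))) (.node [70,66,64,61] (.node [61,68,68,61] (.node [66,69,68,61,60] (.node [72,68,65,61] (.node [73,75,60,62] .nil .nil) (.node [63,69,60,61,60] .nil .nil)) (.node [66,73,60,62] (.node [72,61,67,60] .nil .nil) (.node [74,62,63] .nil .nil))) (.node [71,62,74,61] (.node [75,62,64,61] (.node [69,64,75,61] .nil .nil) (.node [68,64,62] .nil .nil)) (.node [67,66,62] (.node [67,63,62,62] .nil .nil) (.node [65,62,62] .nil .nil)))) (.node [60,72,69,62] (.node [70,65,63] (.node [64,61,63] (.node [70,60,72,60] .nil .nil) (.node [71,63,60] .nil .nil)) (.node [67,60,75,62] (.node [74,65,63,63] .nil .nil) (.node [65,69,67,62] .nil .nil))) (.node [65,64,60] (.node [69,63,67,60] (.node [66,73,65,61] .nil .nil) (.node [64,68,70,61] .nil .nil)) (.node [65,70,66,61] (.node [64,61,70,61] .nil .nil) .nil))))) (.node [61,66,74,62]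 (.node [68,62,74,61] (.node [70,66,64] (.node [65,65,70,60] (.node [62,73,65,60] (.node [74,63,74,60] .nil .nil) (.node [71,67,61] .nil .nil)) (.node [63,62,68,61] (.node [72,62,65,62] .nil .nil) (.node [62,74,71,61] .nil .nil))) (.node [64,69,65,61] (.node [61,71,69,60] (.node [69,61,66,61] .nil .nil) (.node [67,62,75,60] .nil .nil)) (.node [65,64,64,61] (.node [61,65,61,60] .nil .nil) (.node [61,61,68,60] .nil .nil)))) (.node [66,62,63,63] (.node [68,71,62,60] (.node [71,61,63,61] (.node [63,66,71,62] .nil .nil) (.node [67,65,64] .nil .nil)) (.node [67,72,64] (.node [73,60,70,62] .nil .nil) (.node [73,61,63] .nil .nil))) (.node [61,63,67,61,60] (.node [63,68,61,64] (.node [71,67,63] .nil .nil) (.node [68,63,75,60] .nil .nil)) (.node [62,70,60] (.node [68,71,64,60] .nil .nil) (.node [64,60,64,62] .nil .nil))))) (.node [65,64,75,60] (.node [75,63,65,60] (.node [72,62,60] (.node [64,74,70,60] (.node [67,69,61] .nil .nil) (.node [64,73,66,61] .nil .nil)) (.node [75,62,70,63] (.node [72,73,64]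 .nil .nil) (.node [63,61,63,60] .nil .nil))) (.node [61,67,63] (.node [63,74,60] (.node [61,70,61] .nil .nil) (.node [66,60,61,60] .nil .nil)) (.node [62,72,60,63] (.node [66,62,71,60] .nil .nil) (.node [69,66,63] .nil .nil)))) (.node [70,72,63,62] (.node [74,63,63,60] (.node [67,64,67,60] (.node [63,75,66,64] .nil .nil) (.node [65,71,65,61,60] .nil .nil)) (.node [62,67,71,60] (.node [62,69,63] .nil .nil) (.node [67,60,66,64] .nil .nil))) (.node [62,63,66,61] (.node [66,62,68,62] (.node [61,68,68,60] .nil .nil) (.node [64,67,63,60] .nil .nil)) (.node [60,63,65,63] (.node [67,75,63,60] .nil .nil) .nil))))))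

/-- A part. -/
noncomputable def centWords0_27 : Arr (List ℕ) :=
  (.node [62,72,61,60] centWords0_25 centWords0_26)

/-- A part. -/
noncomputable def centWords0_28 : Arr (List ℕ) :=
  (.node [60,66,66,62] centWords0_24 centWords0_27)

/-- A part. -/
noncomputable def centWords0_29 : Arr (List ℕ) :=
  (.node [70,68,65,60] centWords0_21 centWords0_28)

/-- A part. -/
noncomputable def centWords0_30 : Arr (List ℕ) :=
  (.node [70,64,62,60] centWords0_14 centWords0_29)

/-- A part. -/
noncomputable def centWords0_31 : Arr (List ℕ) :=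
  (.node [69,72,61,63] (.node [68,61,65,62] (.node [64,71,62,60] (.node [71,73,60,62] (.node [72,68,65,61,60] (.node [73,60,67,60] (.node [60,72,62,60] .nil .nil) (.node [74,67,61,60] .nil .nil)) (.node [66,60,63] (.node [68,65,63,63] .nil .nil) (.node [62,60,74,62] .nil .nil))) (.node [65,62,75,60] (.node [72,62,74,63] (.node [62,65,70,60] .nil .nil) (.node [61,67,62,60] .nil .nil)) (.node [74,61,61] (.node [67,65,62] .nil .nil) (.node [64,69,63,61] .nil .nil)))) (.node [66,62,65,61] (.node [61,73,72,62] (.node [61,73,72,60] (.node [63,70,62,62] .nil .nil) (.node [71,69,60] .nil .nil)) (.node [68,62,63] (.node [75,61,60,63,60] .nil .nil) (.node [63,70,68,62] .nil .nil))) (.node [74,67,67,61] (.node [67,73,66,61] (.node [60,74,70,60] .nil .nil) (.node [65,70,60] .nil .nil)) (.node [65,60,66,62] (.node [62,63] .nil .nil) (.node [65,72,60] .nil .nil))))) (.node [61,71,61,61] (.node [70,65,63,61] (.node [72,60,66,61] (.node [71,63,67,62] (.node [67,60,61,63] .nil .nil) (.node [68,64,65,60] .nil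 .nil)) (.node [67,63,67,62] (.node [65,68,64,64] .nil .nil) (.node [62,72,63] .nil .nil))) (.node [69,61,75,63] (.node [62,74,61] (.node [65,63,61,60] .nil .nil) (.node [74,62,72,63] .nil .nil)) (.node [60,71,64] (.node [67,67,73,60] .nil .nil) (.node [69,66,67,60] .nil .nil)))) (.node [69,61,63,62,60] (.node [63,71,62,62] (.node [60,69,63,61,60] (.node [75,61] .nil .nil) (.node [67,72,61,63] .nil .nil)) (.node [66,70,64] (.node [61,61,63,60] .nil .nil) (.node [75,66,60] .nil .nil))) (.node [68,73,72,60] (.node [63,62,66,60] (.node [65,74,61,60] .nil .nil) (.node [60,70,60] .nil .nil)) (.node [65,67,69,61,60] (.node [69,64,62] .nil .nil) .nil))))) (.node [64,69,67,62] (.node [72,70,62,63,60] (.node [68,72,68,60] (.node [65,61,72,63] (.node [64,75,61,60] (.node [73,61,63,63] .nil .nil) (.node [71,67,60] .nil .nil)) (.node [74,63,67,61] (.node [75,63,67,61,60] .nil .nil) (.node [67,71,73,61] .nil .nil))) (.node [68,75,61] (.node [73,62,71,60] (.node [60,68,62] .nil .nil) (.node [70,67,64,60]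 .nil .nil)) (.node [66,66,61,64] (.node [75,62] .nil .nil) (.node [64,68,68,62] .nil .nil)))) (.node [75,71,63,61,60] (.node [60,75,62,62] (.node [60,75,64] (.node [62,63,61,60] .nil .nil) (.node [63,71,69,60] .nil .nil)) (.node [68,72,62] (.node [74,71,65,61,60] .nil .nil) (.node [63,69,67,63] .nil .nil))) (.node [74,60,67,60] (.node [66,61,71,60] (.node [63,68,69,61] .nil .nil) (.node [60,74,75,60] .nil .nil)) (.node [60,64,61,60] (.node [61,67,60] .nil .nil) (.node [72,63] .nil .nil))))) (.node [65,61,63,61] (.node [68,73,63,63] (.node [74,61,73,60] (.node [66,71,62,60] (.node [69,61,64,62] .nil .nil) (.node [66,63,67,61] .nil .nil)) (.node [62,75,73,60] (.node [71,66,64] .nil .nil) (.node [75,61,69,64] .nil .nil))) (.node [69,63,72,60] (.node [64,62,63,60] (.node [72,64,62,62] .nil .nil) (.node [69,61,67,60] .nil .nil)) (.node [63,72,66,60] (.node [68,63,60,62] .nil .nil) (.node [63,71,70,61] .nil .nil)))) (.node [61,73,62] (.node [65,65,63] (.node [75,72,61,61] (.node [74,68,70,61] .nil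 .nil) (.node [71,62,65,63] .nil .nil)) (.node [75,66,60,62] (.node [62,69,62,64] .nil .nil) (.node [73,61,69,60] .nil .nil))) (.node [65,67,64] (.node [63,62,64,60] (.node [73,62] .nil .nil) (.node [71,73,60,61,60] .nil .nil)) (.node [69,61,61,61] (.node [60,72,75,62] .nil .nil) .nil))))))

/-- A part. -/
noncomputable def centWords0_32 : Arr (List ℕ) :=
  (.node [66,75,66,60] (.node [65,63,75,61] (.node [62,69,62] (.node [67,71,62] (.node [73,63,65,60] (.node [62,66,67,64] (.node [64,65,60] .nil .nil) (.node [68,64,73,61] .nil .nil)) (.node [63,60,62] (.node [74,65,62,62] .nil .nil) (.node [73,64,65,61] .nil .nil))) (.node [63,60,61,61,60] (.node [61,72,65,62] (.node [61,75,60,62] .nil .nil) (.node [64,60,62,60] .nil .nil)) (.node [61,61] (.node [74,60,70,62] .nil .nil) (.node [66,66,64,61] .nil .nil)))) (.node [61,70,65,61,60] (.node [75,68,64,61] (.node [67,69,63,65,60] (.node [62,66,71,60] .nil .nil) (.node [61,74,63] .nil .nil)) (.node [75,62,64,62] (.node [72,69,66,62] .nil .nil) (.node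 [65,75,61,60] .nil .nil))) (.node [74,70,65,61] (.node [61,75,61,63] (.node [64,67,63] .nil .nil) (.node [68,68,61,61] .nil .nil)) (.node [63,67,63,61] (.node [63,67,64,61] .nil .nil) (.node [61,72,65,61] .nil .nil))))) (.node [63,65,60] (.node [69,71,64,64] (.node [68,61,67,60] (.node [60,67,60] (.node [65,72,64,60] .nil .nil) (.node [63,67,66,60] .nil .nil)) (.node [61,73,64] (.node [69,66,64] .nil .nil) (.node [62,60,62,63] .nil .nil))) (.node [66,64,61,63] (.node [65,63,68,61] (.node [62,73,67,60] .nil .nil) (.node [62,66,74,61] .nil .nil)) (.node [69,64,62,60] (.node [74,61,65,61,60] .nil .nil) (.node [63,74,65,61] .nil .nil)))) (.node [60,70,61] (.node [65,73,67,60] (.node [69,63,65,62] (.node [62,71,61,61] .nil .nil) (.node [71,71,61,61] .nil .nil)) (.node [65,74,61,61] (.node [72,68,61] .nil .nil) (.node [62,71,65,60] .nil .nil))) (.node [67,60,62,60] (.node [75,65,62] (.node [72,69,61,63] .nil .nil) (.node [66,60,72,60] .nil .nil)) (.node [74,60,75,62] (.node [71,62,62,60] .nil .nil)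 .nil))))) (.node [69,72,63] (.node [67,60,72,60] (.node [66,71,66,63] (.node [61,66,63,61] (.node [66,62,64,60] (.node [61,71,69,62] .nil .nil) (.node [73,71,62] .nil .nil)) (.node [60,67,72,61] (.node [67,74,61,60] .nil .nil) (.node [61,61,61,60] .nil .nil))) (.node [61,70,63,60] (.node [71,66,60] (.node [62,68,64] .nil .nil) (.node [74,63,65,62] .nil .nil)) (.node [65,65,61,60] (.node [62,69,67,62] .nil .nil) (.node [68,60,63] .nil .nil)))) (.node [61,73,60] (.node [61,63,66,60] (.node [66,71,63,60] (.node [61,75,61,60] .nil .nil) (.node [70,60,64,60] .nil .nil)) (.node [73,66,64,61] (.node [65,62,64,61] .nil .nil) (.node [60,74,63] .nil .nil))) (.node [61,75,63,61] (.node [69,61,70,61] (.node [66,71,64,60] .nil .nil) (.node [65,74,66,61,60] .nil .nil)) (.node [64,67,73,61] (.node [71,71,61] .nil .nil) (.node [75,73,64] .nil .nil))))) (.node [67,62,71,60] (.node [63,71,73,61] (.node [71,61,71,64] (.node [65,75,61] (.node [73,69,62,62] .nil .nil) (.node [70,63,66,61] .nil .nil)) (.node [73,61,68,60]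 (.node [66,68,60] .nil .nil) (.node [63,61,71,60] .nil .nil))) (.node [67,64,66,62,60] (.node [74,64,60] (.node [63,63,62,60] .nil .nil) (.node [74,67,64,62] .nil .nil)) (.node [73,63,60,61,60] (.node [66,62,74,60] .nil .nil) (.node [72,75,62,62] .nil .nil)))) (.node [60,61,69,63] (.node [62,66,60] (.node [61,74,60,62] (.node [72,73,61,64] .nil .nil) (.node [65,63,61] .nil .nil)) (.node [65,62,73,60] (.node [73,61,73,61] .nil .nil) (.node [74,62,74,60] .nil .nil))) (.node [70,60,73,63] (.node [75,68,66,60] (.node [65,72,65,61] .nil .nil) (.node [61,73,60,63] .nil .nil)) (.node [63,73,63,60] (.node [75,71,67,61] .nil .nil) .nil))))))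

/-- A part. -/
noncomputable def centWords0_33 : Arr (List ℕ) :=
  (.node [73,60,66,60] centWords0_31 centWords0_32)

/-- A part. -/
noncomputable def centWords0_34 : Arr (List ℕ) :=
  (.node [66,60,66,62] (.node [68,65,65,60] (.node [62,64,62,60] (.node [73,75,61,60] (.node [61,71,60,62] (.node [74,66,62] (.node [72,73,68,61] .nil .nil) (.node [63,62,62] .nil .nil)) (.node [69,65,60] (.node [67,75,62,60] .nil .nil) (.node [74,72,61,60] .nil .nil))) (.node [63,69,75,61] (.node [67,62,72,60] (.node [61,68,66,60] .nil .nil) (.node [71,63,65,61] .nil .nil)) (.node [69,67,62,60] (.node [74,64,62,62] .nil .nil) (.node [73,68,64] .nil .nil)))) (.node [64,71,60,62] (.node [70,61,61,63] (.node [73,66,62] (.node [64,61,69,61] .nil .nil) (.node [67,64] .nil .nil)) (.node [61,68,74,61] (.node [65,69,62,60] .nil .nil) (.node [67,64,66,61] .nil .nil))) (.node [71,64,69,61] (.node [65,62,72,60] (.node [73,62,65,60] .nil .nil) (.node [73,64,71,63] .nil .nil)) (.node [74,61,68,60] (.node [69,68,61] .nil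 .nil) (.node [65,71,64,61] .nil .nil))))) (.node [71,62,70,60] (.node [67,75,64] (.node [62,73,71,60] (.node [60,67,70,61] (.node [67,72,63] .nil .nil) (.node [70,66,70,61] .nil .nil)) (.node [73,67,67,61] (.node [70,68,63,62] .nil .nil) (.node [71,62] .nil .nil))) (.node [74,64,68,63] (.node [68,70,62,60] (.node [71,60,64,62] .nil .nil) (.node [61,69,71,60] .nil .nil)) (.node [63,62,74,60] (.node [62,72,63,60] .nil .nil) (.node [72,63,67,60] .nil .nil)))) (.node [70,63,71,60] (.node [74,63,61] (.node [67,63,72,62] (.node [64,72,64] .nil .nil) (.node [61,61,69,61] .nil .nil)) (.node [65,60,65,60] (.node [71,69,66,61] .nil .nil) (.node [70,62,60] .nil .nil))) (.node [68,61,67,61] (.node [67,63,60,62] (.node [72,65,72,61] .nil .nil) (.node [67,61,66,61] .nil .nil)) (.node [63,67,72,62,60] (.node [67,67,65,63] .nil .nil) .nil))))) (.node [61,63,63,61] (.node [73,71,64,60] (.node [65,69,60] (.node [60,64,60,61,60] (.node [71,75,61,61] (.node [65,61,66,60] .nil .nil) (.node [73,62,72,63] .nil .nil))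 (.node [71,68,64,61] (.node [63,75,62,60] .nil .nil) (.node [73,63,61,61] .nil .nil))) (.node [62,62,62,64] (.node [71,65,64,61] (.node [62,70,61,60] .nil .nil) (.node [72,70,61,63] .nil .nil)) (.node [64,68,63,62] (.node [62,64,60] .nil .nil) (.node [65,61,66,64] .nil .nil)))) (.node [68,60,64,61,60] (.node [66,64,64,61] (.node [66,72,60] (.node [66,66,66,62] .nil .nil) (.node [66,69,64] .nil .nil)) (.node [64,69,61,63] (.node [64,64,65,60] .nil .nil) (.node [74,68,63,60] .nil .nil))) (.node [64,61] (.node [71,67,64,67,60] (.node [63,72,64] .nil .nil) (.node [67,61,60,62] .nil .nil)) (.node [63,71,68,60] (.node [72,63,74,60] .nil .nil) (.node [72,67,60] .nil .nil))))) (.node [75,60,67,61] (.node [74,66,64,60] (.node [68,66,70,61] (.node [60,65,75,60] (.node [73,68,69,61] .nil .nil) (.node [62,75,66,60] .nil .nil)) (.node [66,64,62] (.node [75,74,61] .nil .nil) (.node [65,65,64,60] .nil .nil))) (.node [66,73,63] (.node [61,73,67,61] (.node [61,63,62] .nil .nil) (.node [68,72,67,60] .nil .nil))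 (.node [61,71,64,60] (.node [63,69,61,61] .nil .nil) (.node [68,70,65,63] .nil .nil)))) (.node [64,65,68,63] (.node [60,66,74,63] (.node [66,62,72,60] (.node [60,71,63,62] .nil .nil) (.node [71,70,63,60] .nil .nil)) (.node [66,75,61,61] (.node [71,61,60] .nil .nil) (.node [75,67,63] .nil .nil))) (.node [64,71,61] (.node [71,63,66,60] (.node [74,69,61] .nil .nil) (.node [64,65,67,60] .nil .nil)) (.node [60,62,64] (.node [63,75,67,62] .nil .nil) .nil))))))

/-- A part. -/
noncomputable def centWords0_35 : Arr (List ℕ) :=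
  (.node [68,65,64,60] (.node [68,63,61,60] (.node [70,62,62,64,60] (.node [75,70,62,60] (.node [71,62,63,61] (.node [69,64,61,61] (.node [69,60,64,64] .nil .nil) (.node [74,66,60,61,60] .nil .nil)) (.node [60,75,62] (.node [71,62,72,61] .nil .nil) (.node [74,72,69,61] .nil .nil))) (.node [66,62,70,61] (.node [73,61,71,62] (.node [73,62,68,60] .nil .nil) (.node [69,61,72,63] .nil .nil)) (.node [65,64,72,60] (.node [63,66,61,61] .nil .nil) (.node [65,70,64,60] .nil .nil)))) (.node [71,61,63,60] (.node [67,61,61,61] (.node [71,64,70,60] (.node [73,70,61,60] .nil .nil) (.node [69,60,63] .nil .nil)) (.node [68,68,61] (.node [60,67,63] .nil .nil) (.node [65,64,66,61] .nil .nil))) (.node [69,60,65,64] (.node [61,73,60,61,60] (.node [62,60,64,60] .nil .nil) (.node [68,66,62] .nil .nil)) (.node [71,61,61,61] (.node [63,68,72,61] .nil .nil) (.node [65,74,64] .nil .nil))))) (.node [70,74,66,61] (.node [60,61,61,60] (.node [71,70,61] (.node [62,72,62,60] (.node [63,70,64,60] .nil .nil) (.node [69,61,75,61]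 .nil .nil)) (.node [69,61,64] (.node [60,68,61,61] .nil .nil) (.node [66,66,60,62] .nil .nil))) (.node [60,65,62,60] (.node [63,62,75,60] (.node [68,72,66,61] .nil .nil) (.node [63,72,67,61] .nil .nil)) (.node [66,69,63,63] (.node [70,61,64,60] .nil .nil) (.node [72,62,67,64] .nil .nil)))) (.node [73,67,65,63] (.node [73,70,64,60] (.node [64,61,67,61] (.node [63,62,62,60] .nil .nil) (.node [68,62,63,60] .nil .nil)) (.node [71,65,61] (.node [66,71,63] .nil .nil) (.node [62,64,68,62] .nil .nil))) (.node [67,60,74,60] (.node [73,71,62,60] (.node [63,61,63,61] .nil .nil) (.node [60,75,70,60] .nil .nil)) (.node [75,71,61] (.node [68,70,63,60] .nil .nil) .nil))))) (.node [69,62,65,60] (.node [71,62,65,60] (.node [73,65,63,60] (.node [69,65,61,61] (.node [69,64,72,60] (.node [70,62,65,60] .nil .nil) (.node [66,64,60,62,60] .nil .nil)) (.node [64,68,64] (.node [70,60,65,60] .nil .nil) (.node [66,68,63,62] .nil .nil))) (.node [60,74,62] (.node [60,65,60,62] (.node [62,60] .nil .nil) (.node [63,60,67,62]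 .nil .nil)) (.node [66,62,66,60] (.node [68,68,60] .nil .nil) (.node [66,74,60,62] .nil .nil)))) (.node [61,67,62,62] (.node [66,71,65,61] (.node [74,67,63,63] (.node [73,66,61,60] .nil .nil) (.node [62,62,72,63,60] .nil .nil)) (.node [68,74,63,60] (.node [66,74,66,61] .nil .nil) (.node [74,75,60,61,60] .nil .nil))) (.node [71,60,70,60] (.node [62,66,61,60] (.node [63,71,74,63] .nil .nil) (.node [73,66,69,63] .nil .nil)) (.node [60,71,65,61] (.node [70,63,71,62] .nil .nil) (.node [70,60,62,60] .nil .nil))))) (.node [62,71,73,61] (.node [64,73,61,63] (.node [73,63,66,60] (.node [66,66,62] (.node [70,64,68,61] .nil .nil) (.node [71,75,62] .nil .nil)) (.node [63,69,61,64] (.node [71,66,63] .nil .nil) (.node [66,64,67,63] .nil .nil))) (.node [67,70,63,61,60] (.node [61,65,67,61] (.node [61,72,61] .nil .nil) (.node [71,62,62,63] .nil .nil)) (.node [61,72,73,61] (.node [67,62,74,61] .nil .nil) (.node [63,63,75,60] .nil .nil)))) (.node [74,68,61] (.node [70,68,60,62] (.node [63,67,71,60] (.node [68,70,61]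 .nil .nil) (.node [68,63,65,61] .nil .nil)) (.node [65,60,62] (.node [64,68,69,60] .nil .nil) (.node [66,60,73,63] .nil .nil))) (.node [60,72,66,61,60] (.node [68,71,70,63] (.node [66,60,66,60] .nil .nil) (.node [63,69,66,62] .nil .nil)) (.node [68,66,62,60] (.node [60,61,72,62] .nil .nil) .nil))))))

/-- A part. -/
noncomputable def centWords0_36 : Arr (List ℕ) :=
  (.node [74,60,66,60] centWords0_34 centWords0_35)

/-- A part. -/
noncomputable def centWords0_37 : Arr (List ℕ) :=
  (.node [60,66,60] centWords0_33 centWords0_36)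

/-- A part. -/
noncomputable def centWords0_38 : Arr (List ℕ) :=
  (.node [68,73,65,60] (.node [62,60,67,61] (.node [66,72,65,60] (.node [65,62,66,60] (.node [72,63,67,61] (.node [62,63,68,62] (.node [70,72,61,60] .nil .nil) (.node [69,68,61,60] .nil .nil)) (.node [62,72,67,61] (.node [64,67,69,63] .nil .nil) (.node [63,65,68,60] .nil .nil))) (.node [60,71,65,63] (.node [61,64,67,61] (.node [75,61,63] .nil .nil) (.node [62,75,60,63] .nil .nil)) (.node [69,67,61] (.node [71,75,69,61,60] .nil .nil) (.node [68,70,60] .nil .nil)))) (.node [61,63,65,63] (.node [66,69,61,60] (.node [66,62,60] (.node [69,62,71,60] .nil .nil) (.node [67,74,65,60] .nil .nil)) (.node [68,61,72,61] (.node [73,72,60] .nil .nil) (.node [64,66,63] .nil .nil))) (.node [61,63,61,60] (.node [61,63,70,60] (.node [75,60,66,60] .nil .nil) (.node [61,72,66,60] .nil .nil)) (.node [69,71,66,60] (.node [64,67,63,61] .nil .nil) (.node [72,65,62,63] .nil .nil))))) (.node [72,60,69,62] (.node [65,65,74,60] (.node [66,66,64] (.node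 [63,65,68,61] (.node [61,63,75,60] .nil .nil) (.node [63,73,61,61,60] .nil .nil)) (.node [66,66,61] (.node [67,74,66,61] .nil .nil) (.node [71,70,66,61,60] .nil .nil))) (.node [69,62,62] (.node [71,60,66,61] (.node [75,65,61] .nil .nil) (.node [60,69,75,61] .nil .nil)) (.node [61,69,62] (.node [67,63,60,61,60] .nil .nil) (.node [67,72,66,60] .nil .nil)))) (.node [61,64,64,60] (.node [74,71,62,60] (.node [65,74,64,61] (.node [60,72,61,63] .nil .nil) (.node [63,75,60,62] .nil .nil)) (.node [60,69,62,64] (.node [68,74,62] .nil .nil) (.node [61,71,62,60] .nil .nil))) (.node [64,62,72,60] (.node [71,74,66,61,60] (.node [60,64,72,60] .nil .nil) (.node [74,75,60] .nil .nil)) (.node [63,74,67,60] (.node [61,72,64,60] .nil .nil) .nil))))) (.node [71,63,67,61] (.node [61,65,62] (.node [74,61,73,62] (.node [73,65,70,61] (.node [75,67,64,61] (.node [75,73,64,62] .nil .nil) (.node [64,70,64,61] .nil .nil)) (.node [73,68,61,61] (.node [63,63,67,61] .nil .nil) (.node [63,60,73,63] .nil .nil))) (.node [63,62,75,61]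 (.node [73,60,62] (.node [66,63,61,61] .nil .nil) (.node [74,66,63] .nil .nil)) (.node [69,73,66,62] (.node [70,62,66,60] .nil .nil) (.node [69,75,61,63] .nil .nil)))) (.node [66,72,62,63] (.node [75,64,61,63,60] (.node [67,61,67,61] (.node [71,67,66,61] .nil .nil) (.node [61,66,60] .nil .nil)) (.node [70,67,61,61] (.node [64,61,68,60] .nil .nil) (.node [66,62,63] .nil .nil))) (.node [72,61,61] (.node [68,60,62] (.node [62,72,64,61] .nil .nil) (.node [75,64] .nil .nil)) (.node [63,71,65,60] (.node [69,61,64,60] .nil .nil) (.node [63,69,63] .nil .nil))))) (.node [63,72,68,61] (.node [71,63] (.node [60,72,65,62] (.node [74,65,75,61] (.node [63,67,74,61] .nil .nil) (.node [68,65,61] .nil .nil)) (.node [68,71,64] (.node [75,62,62,60] .nil .nil) (.node [72,68,63,63] .nil .nil))) (.node [73,64,64] (.node [67,63,60] (.node [71,62,66,63] .nil .nil) (.node [60,64,71,60] .nil .nil)) (.node [66,64,60,62] (.node [74,64,64,61] .nil .nil) (.node [62,73,65,61] .nil .nil)))) (.node [65,64,68,60] (.node [70,60,65,61]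 (.node [63,62,70,61] (.node [70,62,64,62] .nil .nil) (.node [60,62,65,60] .nil .nil)) (.node [70,62,72,63] (.node [65,65,62] .nil .nil) (.node [67,74,64,60] .nil .nil))) (.node [64,74,72,62] (.node [62,73,61,63] (.node [68,73,62,62] .nil .nil) (.node [73,61,67,60] .nil .nil)) (.node [63,63,70,63] (.node [60,74,63,61] .nil .nil) .nil))))))

/-- A part. -/
noncomputable def centWords0_39 : Arr (List ℕ) :=
  (.node [63,66,68,60] (.node [64,69,72,61,60] (.node [68,64,60,62] (.node [74,70,61] (.node [72,66,61,60] (.node [62,67,74,61] (.node [74,66,61] .nil .nil) (.node [75,62,66,60] .nil .nil)) (.node [71,71,62,63] (.node [62,74,61,61] .nil .nil) (.node [62,67,62] .nil .nil))) (.node [61,72,63] (.node [70,62,63,61] (.node [72,63,65,61] .nil .nil) (.node [72,73,61,61] .nil .nil)) (.node [61,65,63,62] (.node [73,67,64,60] .nil .nil) (.node [60,74,69,60] .nil .nil)))) (.node [63,75,65,61,60] (.node [71,68,65,61,60] (.node [75,64,67,60] (.node [71,66,61,60] .nil .nil) (.node [60,70,66,61] .nil .nil))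 (.node [60,62,75,63] (.node [70,66,62] .nil .nil) (.node [60,70,63,61] .nil .nil))) (.node [62,64,61,60] (.node [73,71,66,61,60] (.node [62,68,60] .nil .nil) (.node [62,62,62,60] .nil .nil)) (.node [75,61,64,61,60] (.node [62,73,61,61] .nil .nil) (.node [68,61,66,62] .nil .nil))))) (.node [70,64,75,61] (.node [75,67,63,61] (.node [68,62,65,60] (.node [65,60,65,61] (.node [65,62,74,61] .nil .nil) (.node [69,68,63,62] .nil .nil)) (.node [71,68,62] (.node [64,67,69,61] .nil .nil) (.node [63,69,60,62] .nil .nil))) (.node [64,74,63] (.node [60,66,64] (.node [66,69,65,61] .nil .nil) (.node [68,62,64,60] .nil .nil)) (.node [67,61,61,60] (.node [69,65,64,60] .nil .nil) (.node [67,61,64] .nil .nil)))) (.node [74,67,60] (.node [70,74,66,60] (.node [64,64,61,61] (.node [73,67,63] .nil .nil) (.node [75,60,63,61] .nil .nil)) (.node [62,65,63] (.node [62,69,67,65,60] .nil .nil) (.node [62,74,70,61] .nil .nil))) (.node [66,68,66,60] (.node [64,62,69,61] (.node [75,61,68,60] .nil .nil) (.node [63,69,61] .nil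 .nil)) (.node [70,63,66,60] (.node [60,68,75,61] .nil .nil) .nil))))) (.node [72,68,66,60] (.node [75,66,64] (.node [70,65,63,60] (.node [67,62,63,60] (.node [72,64,75,60] (.node [75,65,69,60] .nil .nil) (.node [67,71,61,61] .nil .nil)) (.node [65,72,61] (.node [65,73,63] .nil .nil) (.node [66,66,67,60] .nil .nil))) (.node [61,67,72,61] (.node [66,68,63] (.node [70,66,61] .nil .nil) (.node [61,63,63,63] .nil .nil)) (.node [68,62,64,62] (.node [66,74,67,60] .nil .nil) (.node [64,66,61,63] .nil .nil)))) (.node [75,61,71,62] (.node [64,73,60,62] (.node [70,60] (.node [65,62,71,60] .nil .nil) (.node [74,66,63,60] .nil .nil)) (.node [61,66,64,60] (.node [67,67,64,61] .nil .nil) (.node [71,62,75,61] .nil .nil))) (.node [65,62,75,61] (.node [67,64,69,62] (.node [63,63,60,63] .nil .nil) (.node [75,64,62] .nil .nil)) (.node [71,65,67,61] (.node [63,67,64,60] .nil .nil) (.node [69,67,65,60] .nil .nil))))) (.node [72,61,74,61] (.node [64,69,61,60] (.node [72,61,61,67,60] (.node [71,60,69,63] (.node [68,61,64,62]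 .nil .nil) (.node [69,62,74,63] .nil .nil)) (.node [65,63,72,60] (.node [71,69,64,64] .nil .nil) (.node [66,73,61,60] .nil .nil))) (.node [63,71,61] (.node [69,66,60] (.node [71,63,73,62] .nil .nil) (.node [74,71,68,61,60] .nil .nil)) (.node [61,69,72,63] (.node [75,65,64,60] .nil .nil) (.node [64,65,62] .nil .nil)))) (.node [72,61,71,62] (.node [66,64,73,61] (.node [75,72,61,60] (.node [63,66,69,60] .nil .nil) (.node [71,68,60] .nil .nil)) (.node [69,61,74,60] (.node [71,70,61,60] .nil .nil) (.node [61,71,63,62] .nil .nil))) (.node [71,60,62,64] (.node [65,61,70,62] (.node [63,69,68,60] .nil .nil) (.node [60,71,67,60] .nil .nil)) (.node [64,73,65,61] (.node [70,66,61,60] .nil .nil) .nil))))))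

/-- A part. -/
noncomputable def centWords0_40 : Arr (List ℕ) :=
  (.node [60,73,60] centWords0_38 centWords0_39)

/-- A part. -/
noncomputable def centWords0_41 : Arr (List ℕ) :=
  (.node [66,71,64] (.node [65,61,64,62] (.node [68,73,67,61] (.node [60,65,71,63] (.node [60,65,70,61] (.node [61,75,64,62] (.node [65,64,65,61,60] .nil .nil) (.node [75,62,60,62] .nil .nil)) (.node [68,68,74,61] (.node [62,60,73,60] .nil .nil) (.node [66,62,65,60] .nil .nil))) (.node [61,72,60] (.node [74,62,73,60] (.node [61,75,62] .nil .nil) (.node [71,63,65,67,60] .nil .nil)) (.node [67,74,61] (.node [64,62,65,60] .nil .nil) (.node [63,62,63] .nil .nil)))) (.node [70,64,69,62] (.node [69,62] (.node [60,62,73,61] (.node [68,64,72,62] .nil .nil) (.node [67,61,70,60] .nil .nil)) (.node [63,72,64,61] (.node [67,60,67,60] .nil .nil) (.node [64,68,60] .nil .nil))) (.node [60,70,72,63] (.node [61,63,61,61] (.node [67,63,62] .nil .nil) (.node [66,61,74,62] .nil .nil)) (.node [74,62,74,61] (.node [72,61,70,60] .nil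 .nil) (.node [72,63,65,64] .nil .nil))))) (.node [62,71,69,64] (.node [66,64,60] (.node [60,68,71,61] (.node [69,65,65,61] (.node [60,63,71,61] .nil .nil) (.node [70,63,62] .nil .nil)) (.node [69,63,71,61] (.node [62,71,61,60] .nil .nil) (.node [71,62,64,60] .nil .nil))) (.node [68,61,64] (.node [63,68,64,64] (.node [65,65,68,61] .nil .nil) (.node [60,73,63,60] .nil .nil)) (.node [68,60,62,60] (.node [64,62,62,63] .nil .nil) (.node [65,62,63] .nil .nil)))) (.node [62,67,67,61] (.node [70,72,67,64] (.node [66,75,62,63] (.node [67,62] .nil .nil) (.node [73,69,61] .nil .nil)) (.node [61,65,63] (.node [63,69,72,63] .nil .nil) (.node [67,64,62,62] .nil .nil))) (.node [71,67,67,60] (.node [65,64,68,62] (.node [73,62,74,60] .nil .nil) (.node [73,62,63] .nil .nil)) (.node [61,74,69,60] (.node [66,68,64,62] .nil .nil) .nil))))) (.node [63,71,69,61] (.node [71,64,73,60] (.node [64,62,74,62] (.node [63,60,67,60] (.node [68,64,70,60] (.node [71,71,70,63] .nil .nil) (.node [71,64,74,62] .nil .nil)) (.node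 [67,61,73,60] (.node [62,60,70,60] .nil .nil) (.node [62,72,61] .nil .nil))) (.node [63,65,70,61] (.node [62,65,71,61] (.node [64,67,67,60] .nil .nil) (.node [75,65,63] .nil .nil)) (.node [73,62,65,63] (.node [72,64,74,60] .nil .nil) (.node [62,67,63,62] .nil .nil)))) (.node [71,63,67,62,60] (.node [69,62,75,64] (.node [68,72,63] (.node [61,74,66,61] .nil .nil) (.node [68,63,71,63] .nil .nil)) (.node [68,62,60,63] (.node [66,67,66,61] .nil .nil) (.node [65,74,60] .nil .nil))) (.node [70,63,62,64] (.node [71,61,70,60] (.node [70,60,67,62] .nil .nil) (.node [63,63,65,60] .nil .nil)) (.node [71,61,69,61] (.node [72,61,64] .nil .nil) (.node [71,66,68,60] .nil .nil))))) (.node [75,65,64,61] (.node [60,71,61,60] (.node [74,61,74,61] (.node [73,70,61,61] (.node [66,75,61] .nil .nil) (.node [63,65,69,60] .nil .nil)) (.node [61,73,71,61] (.node [72,69,67,61] .nil .nil) (.node [60,69,61,61] .nil .nil))) (.node [64,60] (.node [62,74,65,62] (.node [60,75,62,63] .nil .nil) (.node [71,63,75,60] .nil .nil))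 (.node [63,71,64,60] (.node [60,74,64,65,60] .nil .nil) (.node [65,64,65,61] .nil .nil)))) (.node [72,67,62] (.node [67,71,64,61] (.node [74,69,66,62] (.node [75,74,70,61] .nil .nil) (.node [68,60] .nil .nil)) (.node [66,69,61] (.node [75,68,74,61] .nil .nil) (.node [66,67,63] .nil .nil))) (.node [66,61,66,63] (.node [65,71,62,62] (.node [72,62,75,60] .nil .nil) (.node [60,64,68,62] .nil .nil)) (.node [63,60,70,60] (.node [64,61,61,61] .nil .nil) .nil))))))

/-- A part. -/
noncomputable def centWords0_42 : Arr (List ℕ) :=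
  (.node [71,71,64] (.node [69,73,62] (.node [69,61,68,61] (.node [72,65,63,63] (.node [60,65,68,60] (.node [71,66,62,63] (.node [61,67,64,60] .nil .nil) (.node [68,63,60] .nil .nil)) (.node [67,64,65,61] (.node [66,60,63,61] .nil .nil) (.node [67,63,66,61] .nil .nil))) (.node [74,62,70,60] (.node [63,61,64,60] (.node [70,64,66,62] .nil .nil) (.node [68,63,68,60] .nil .nil)) (.node [65,71,61,61] (.node [62,66,69,60] .nil .nil) (.node [67,73,66,64] .nil .nil)))) (.node [61,65,62,60] (.node [62,64,65,60] (.node [60,70,62,60] (.node [74,75,62,63] .nil .nil) (.node [66,64,72,61] .nil .nil)) (.node [74,61,63,60] (.node [74,67,74,62] .nil .nil) (.node [61,67,61,61] .nil .nil))) (.node [64,60,61,60] (.node [62,62,69,60] (.node [65,72,64,61,60] .nil .nil) (.node [61,68,64] .nil .nil)) (.node [72,62,63,61] (.node [73,64,66,63] .nil .nil) (.node [60,73,66,61,60] .nil .nil))))) (.node [71,61,64,61] (.node [63,67,70,61] (.node [61,70,60] (.node [67,62,73,63] (.node [61,68,61] .nil .nil) (.node [60,64,60,62]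 .nil .nil)) (.node [64,61,60] (.node [75,70,60] .nil .nil) (.node [67,70,62] .nil .nil))) (.node [60,67,73,60] (.node [63,70,64,62] (.node [62,71,64] .nil .nil) (.node [61,66,73,62] .nil .nil)) (.node [68,64,61] (.node [65,65,67,60] .nil .nil) (.node [64,64,64] .nil .nil)))) (.node [70,65,69,60] (.node [73,60,66,61] (.node [75,64,61,60] (.node [71,68,63] .nil .nil) (.node [62,70,63,63] .nil .nil)) (.node [65,74,65,61] (.node [67,73,63,60] .nil .nil) (.node [60,67,61] .nil .nil))) (.node [65,65,65,60] (.node [60,73,61,61,60] (.node [64,69,61] .nil .nil) (.node [66,62,75,60] .nil .nil)) (.node [61,70,63] (.node [68,60,73,61] .nil .nil) .nil))))) (.node [65,65,64] (.node [70,63,61] (.node [60,62,62] (.node [61,73,65,60] (.node [61,65,71,64] (.node [75,61,64,60] .nil .nil) (.node [62,65,75,61,60] .nil .nil)) (.node [61,64,62,60] (.node [75,63,62,60] .nil .nil) (.node [62,60,75,62] .nil .nil))) (.node [61,60,61,61] (.node [75,71,65,60] (.node [60,61,64] .nil .nil) (.node [75,63,63,60] .nil .nil))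 (.node [63,75,74,60] (.node [73,61,61,60] .nil .nil) (.node [64,66,67,60] .nil .nil)))) (.node [64,71,64] (.node [69,65,64,61] (.node [70,67,62,60] (.node [67,75,61] .nil .nil) (.node [68,62,68,62] .nil .nil)) (.node [67,63,63] (.node [66,73,66,60] .nil .nil) (.node [66,60,74,60] .nil .nil))) (.node [69,67,61,63] (.node [75,69,62,60] (.node [65,61,64,60] .nil .nil) (.node [73,68,65,60] .nil .nil)) (.node [69,68,61,61] (.node [66,71,67,60] .nil .nil) (.node [75,69,63] .nil .nil))))) (.node [60,75,61,60] (.node [75,70,61] (.node [63,68,71,61] (.node [68,66,64,61] (.node [71,62,64,61] .nil .nil) (.node [72,69,65,61] .nil .nil)) (.node [70,67,66,61] (.node [62,62,60] .nil .nil) (.node [73,65,64,61] .nil .nil))) (.node [72,66,62] (.node [61,66,62] (.node [61,63,65,60] .nil .nil) (.node [70,75,63] .nil .nil)) (.node [68,65,74,63] (.node [64,72,69,61] .nil .nil) (.node [69,63,61,64] .nil .nil)))) (.node [64,70,60,63] (.node [62,64,68,60] (.node [66,63,70,60] (.node [67,67,65,60] .nil .nil) (.node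 [63,71,68,61] .nil .nil)) (.node [66,61,64] (.node [67,67,60] .nil .nil) (.node [69,68,72,61] .nil .nil))) (.node [69,64,61,60] (.node [62,62,74,62] (.node [65,70,63,60] .nil .nil) (.node [75,68,64] .nil .nil)) (.node [66,66,63,62] (.node [62,75,70,61] .nil .nil) .nil))))))

/-- A part. -/
noncomputable def centWords0_43 : Arr (List ℕ) :=
  (.node [60,67,62,60] centWords0_41 centWords0_42)

/-- A part. -/
noncomputable def centWords0_44 : Arr (List ℕ) :=
  (.node [72,67,63,63] centWords0_40 centWords0_43)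

/-- A part. -/
noncomputable def centWords0_45 : Arr (List ℕ) :=
  (.node [63,60,63] centWords0_37 centWords0_44)

/-- A part. -/
noncomputable def centWords0_46 : Arr (List ℕ) :=
  (.node [60,62,60] (.node [68,73,64,64] (.node [68,64,72,61] (.node [64,64,68,60] (.node [74,65,62] (.node [74,64,61] (.node [62,71,63,60] .nil .nil) (.node [75,61,61,60] .nil .nil)) (.node [64,65,63,61] (.node [64,68,62,62] .nil .nil) (.node [62,66,66,61,60] .nil .nil))) (.node [64,72,75,62] (.node [75,62,73,60] (.node [60,63,66,60] .nil .nil) (.node [71,70,63] .nil .nil)) (.node [63,74,68,60] (.node [72,62,69,60] .nil .nil) (.node [73,75,74,61] .nil .nil)))) (.node [72,62] (.node [71,74,63,62] (.node [75,61,64,62] (.node [66,61,68,61] .nil .nil) (.node [63,70,66,61] .nil .nil)) (.node [75,64,65,60] (.node [69,75,64] .nil .nil) (.node [75,65,67,60] .nil .nil))) (.node [68,70,62] (.node [68,63,72,61] (.node [68,63,62] .nil .nil) (.node [66,62,73,60] .nil .nil)) (.node [67,61,75,62] (.node [65,63,69,60] .nil .nil)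 (.node [64,64,62,62] .nil .nil))))) (.node [62,71,66,64] (.node [70,63] (.node [66,64,67,61] (.node [75,68,63,62] (.node [66,72,63,60] .nil .nil) (.node [74,63,60] .nil .nil)) (.node [63,61,67,62] (.node [72,64,61,60] .nil .nil) (.node [71,60,70,61] .nil .nil))) (.node [62,69,61] (.node [71,73,70,63] (.node [66,60] .nil .nil) (.node [71,73,63] .nil .nil)) (.node [72,64,67,64] (.node [72,60,70,60] .nil .nil) (.node [67,60,74,62] .nil .nil)))) (.node [72,60,62] (.node [62,75,69,62,60] (.node [64,60,71,62] (.node [61,60,65,60] .nil .nil) (.node [63,72,61,60] .nil .nil)) (.node [71,64,74,61,60] (.node [66,66,64,62] .nil .nil) (.node [62,60,72,60] .nil .nil))) (.node [70,61,65,60] (.node [63,66,60] (.node [65,60,62,60] .nil .nil) (.node [62,69,68,60] .nil .nil)) (.node [65,61,70,62,60] (.node [73,66,70,61] .nil .nil) .nil))))) (.node [65,68,64,61] (.node [65,70,61] (.node [67,65,63] (.node [64,65,68,62] (.node [61,74,60] (.node [74,70,64,60] .nil .nil) (.node [69,64,69,61] .nil .nil)) (.node [63,62,69,60]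 (.node [65,68,60,63] .nil .nil) (.node [72,61,61,63] .nil .nil))) (.node [71,61,75,64] (.node [65,61,72,62] (.node [60,62,68,60] .nil .nil) (.node [66,60,69,63] .nil .nil)) (.node [62,67,61,61] (.node [60,62,75,60] .nil .nil) (.node [71,63,65,64] .nil .nil)))) (.node [64,73,69,60] (.node [62,63,61] (.node [64,74,61,60] (.node [63,74,62,63] .nil .nil) (.node [67,66,60,62] .nil .nil)) (.node [65,71,63,62] (.node [68,72,61,60] .nil .nil) (.node [71,60] .nil .nil))) (.node [69,62,62,62,60] (.node [60,64,62] (.node [67,61,75,60] .nil .nil) (.node [68,72,60,62] .nil .nil)) (.node [62,74,65,61] (.node [60,73,64,60] .nil .nil) (.node [66,60,63,60] .nil .nil))))) (.node [63,67,61,64] (.node [64,64,70,60] (.node [66,72,67,61] (.node [63,68,61] (.node [63,66,75,62] .nil .nil) (.node [75,71,64,60] .nil .nil)) (.node [60,63,73,62] (.node [75,69,64,61] .nil .nil) (.node [65,64,61,61] .nil .nil))) (.node [69,60,66,61] (.node [66,61,70,60] (.node [71,71,64,60] .nil .nil) (.node [70,68,61,64] .nil .nil)) (.node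 [74,61,64,61] (.node [65,74,68,63] .nil .nil) (.node [67,65,63,60] .nil .nil)))) (.node [63,63,66,61] (.node [62,69,65,61] (.node [67,60,75,62,60] (.node [71,67,65,60] .nil .nil) (.node [75,69,65,60] .nil .nil)) (.node [67,73,61] (.node [70,62,72,61] .nil .nil) (.node [73,63,72,64] .nil .nil))) (.node [69,63,63] (.node [68,65,69,61] (.node [64,72,67,60] .nil .nil) (.node [67,69,67,61] .nil .nil)) (.node [64,69,68,61] (.node [74,61,63] .nil .nil) .nil))))))

/-- A part. -/
noncomputable def centWords0_47 : Arr (List ℕ) :=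
  (.node [61,61,71,64] (.node [68,74,64,61] (.node [75,68,60,62] (.node [61,68,69,63] (.node [70,65,73,61] (.node [64,60,62] (.node [69,68,66,61] .nil .nil) (.node [71,69,64] .nil .nil)) (.node [75,61,70,60] (.node [73,69,61,61] .nil .nil) (.node [63,75,63] .nil .nil))) (.node [66,71,61,61] (.node [73,64,74,62] (.node [62,66,62,60] .nil .nil) (.node [60,65,74,60] .nil .nil)) (.node [73,66,61,64] (.node [67,62,60] .nil .nil) (.node [69,63,61] .nil .nil)))) (.node [65,69,64,61] (.node [71,74,60,62] (.node [60,67,70,62] (.node [64,66,75,64] .nil .nil) (.node [69,62,66,60] .nil .nil)) (.node [70,71,61] (.node [71,63,71,62] .nil .nil) (.node [64,68,74,60] .nil .nil))) (.node [67,61,71,62] (.node [70,65,64,61] (.node [60,69,60] .nil .nil) (.node [75,63,60,63] .nil .nil)) (.node [72,66,64,60] (.node [69,67,62] .nil .nil) (.node [61,67,64,61] .nil .nil))))) (.node [74,75,61,60] (.node [62,64,67,62] (.node [61,74,72,61] (.node [71,61,61] (.node [74,64,64] .nil .nil) (.node [61,68,71,61] .nil .nil))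 (.node [62,72,60] (.node [60,67,70,60] .nil .nil) (.node [60,72,65,60] .nil .nil))) (.node [69,65,68,61] (.node [73,64,65,60] (.node [70,68,63,60] .nil .nil) (.node [72,60,65,60] .nil .nil)) (.node [69,61,63] (.node [64,68,65,60] .nil .nil) (.node [69,60,72,60] .nil .nil)))) (.node [71,74,63] (.node [72,70,63] (.node [62,75,69,61] (.node [63,61,75,61] .nil .nil) (.node [73,67,65,60] .nil .nil)) (.node [60,69,63] (.node [66,60,62,62] .nil .nil) (.node [70,65,62,63] .nil .nil))) (.node [65,75,64] (.node [64,60,63,61] (.node [66,69,68,61] .nil .nil) (.node [62,75,64] .nil .nil)) (.node [60,75,74,61] (.node [69,62,60] .nil .nil) .nil))))) (.node [66,71,65,60] (.node [73,70,63] (.node [73,67,60] (.node [64,65,63,63] (.node [60,71,63] (.node [60,62,70,63,60] .nil .nil) (.node [70,64] .nil .nil)) (.node [70,65,68,61] (.node [68,64,71,60] .nil .nil) (.node [62,62,75,60] .nil .nil))) (.node [62,60,63] (.node [63,62,69,61] (.node [63,71,60] .nil .nil) (.node [67,72,64,64] .nil .nil)) (.node [73,68,74,61]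 (.node [68,64,61,61] .nil .nil) (.node [66,72,61,60] .nil .nil)))) (.node [64,69,65,61,60] (.node [74,61,75,61,60] (.node [67,69,63,61] (.node [70,75,61,60] .nil .nil) (.node [62,68,64,60] .nil .nil)) (.node [68,72,68,61,60] (.node [64,69,71,61] .nil .nil) (.node [74,61,75,60] .nil .nil))) (.node [73,68,63] (.node [73,62,70,60] (.node [62,75,63] .nil .nil) (.node [65,72,63] .nil .nil)) (.node [61] (.node [67,73,66,60] .nil .nil) (.node [71,62,65,64] .nil .nil))))) (.node [66,73,61] (.node [64,70,68,61] (.node [70,62] (.node [60,75,62,60] (.node [66,74,70,62] .nil .nil) (.node [64,61,74,60] .nil .nil)) (.node [65,60,71,60] (.node [70,60,62,63] .nil .nil) (.node [75,71,64] .nil .nil))) (.node [66,63,63,60] (.node [63,62,68,60] (.node [69,72,66,63] .nil .nil) (.node [70,71,61,61] .nil .nil)) (.node [62,70,63] (.node [70,64,64,61] .nil .nil) (.node [63,72,63,60] .nil .nil)))) (.node [64,66,62,60] (.node [70,61,60] (.node [72,69,61,61] (.node [62,68,61] .nil .nil) (.node [64,66,74,61] .nil .nil))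 (.node [69,68,74,61] (.node [60,68,70,61] .nil .nil) (.node [73,64,69,61] .nil .nil))) (.node [67,63,68,60] (.node [70,63,60] (.node [65,63,73,60] .nil .nil) (.node [62,66,61,61] .nil .nil)) (.node [72,64,61] (.node [61,68,65,61] .nil .nil) .nil))))))

/-- A part. -/
noncomputable def centWords0_48 : Arr (List ℕ) :=
  (.node [60,74,67,62] centWords0_46 centWords0_47)

/-- A part. -/
noncomputable def centWords0_49 : Arr (List ℕ) :=
  (.node [73,60,62,60] (.node [68,64,60] (.node [60,64,61,64] (.node [71,71,63,62] (.node [67,60,68,63] (.node [70,75,61,64] (.node [63,71,71,60] .nil .nil) (.node [71,71,67,63] .nil .nil)) (.node [66,64] (.node [61,69,60] .nil .nil) (.node [65,68,62] .nil .nil))) (.node [62,75,65,62] (.node [60,66,69,61] (.node [67,70,61,60] .nil .nil) (.node [73,64,67,62] .nil .nil)) (.node [61,61,63,61] (.node [68,70,64] .nil .nil) (.node [66,60,73,60] .nil .nil)))) (.node [60,62,65,61] (.node [69,64,70,62] (.node [66,67,61,60] (.node [66,61,61] .nil .nil) (.node [72,66,71,60]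 .nil .nil)) (.node [63,62] (.node [60,71,60] .nil .nil) (.node [60,73,67,61] .nil .nil))) (.node [61,68,64,62] (.node [67,71,66,61,60] (.node [70,62,74,60] .nil .nil) (.node [75,65,61,61] .nil .nil)) (.node [65,60,61,64] (.node [60,69,71,60] .nil .nil) (.node [69,60,62,60] .nil .nil))))) (.node [63,73,66,62] (.node [65,63,70,61] (.node [62,70,61,61] (.node [61,60,63,61] (.node [66,70,63] .nil .nil) (.node [75,70,63,60] .nil .nil)) (.node [64,61,66,60] (.node [65,73,60] .nil .nil) (.node [60,67,64,60] .nil .nil))) (.node [71,64,64,61] (.node [75,61,74,61] (.node [62,72,73,62] .nil .nil) (.node [70,71,65,60] .nil .nil)) (.node [73,68,66,63] (.node [61,75,73,60] .nil .nil) (.node [69,64] .nil .nil)))) (.node [63,71,63,62] (.node [62,74,71,62] (.node [71,61,73,61] (.node [73,75,60,63] .nil .nil) (.node [74,68,64] .nil .nil)) (.node [73,70,60] (.node [60,68,68,60] .nil .nil) (.node [73,75,64] .nil .nil))) (.node [73,70,60,63] (.node [63,63,62,63] (.node [74,61,75,61] .nil .nil) (.node [68,62,68,60]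 .nil .nil)) (.node [64,72,60,62,60] (.node [74,65,69,62] .nil .nil) .nil))))) (.node [72,63,62,60] (.node [61,75,71,61] (.node [63,74,61,63] (.node [75,65,61,60] (.node [74,66,62,60] (.node [69,63] .nil .nil) (.node [63,62,67,60] .nil .nil)) (.node [64,73,68,61] (.node [69,68,60] .nil .nil) (.node [66,66,62,60] .nil .nil))) (.node [71,69,71,61] (.node [70,62,71,60] (.node [66,60,62] .nil .nil) (.node [73,65,61,60] .nil .nil)) (.node [72,64,67,62,60] (.node [72,61,70,61,60] .nil .nil) (.node [68,72,66,60] .nil .nil)))) (.node [61,74,61] (.node [74,64,65,60] (.node [75,68,63,60] (.node [71,73,69,61,60] .nil .nil) (.node [61,71,67,60] .nil .nil)) (.node [68,75,60,62] (.node [69,67,64,60] .nil .nil) (.node [66,63,72,64] .nil .nil))) (.node [74,68,63] (.node [61,70,67,64] (.node [60,67,66,61] .nil .nil) (.node [69,73,64,61] .nil .nil)) (.node [66,62,67,63] (.node [62,71,73,64] .nil .nil) (.node [60,66,61,61] .nil .nil))))) (.node [68,61,75,60] (.node [62,67,72,62] (.node [75,68,61,60] (.node [67,63,66,60]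 (.node [65,70,61,61] .nil .nil) (.node [74,60,64,60] .nil .nil)) (.node [62,62,70,60] (.node [60,64,60] .nil .nil) (.node [67,64,68,60] .nil .nil))) (.node [61,73,69,60] (.node [73,72,69,63] (.node [67,67,63] .nil .nil) (.node [72,63,61,60] .nil .nil)) (.node [64,67,74,61] (.node [65,61,60] .nil .nil) (.node [64,70,74,61,60] .nil .nil)))) (.node [65,72,63,62] (.node [67,63,75,61] (.node [74,63,66,61] (.node [63,72,65,60] .nil .nil) (.node [60,75,66,60] .nil .nil)) (.node [70,74,61,61] (.node [67,60,64,60] .nil .nil) (.node [65,70,63,62] .nil .nil))) (.node [66,63,72,63] (.node [62,74,66,62] (.node [68,60,63,62] .nil .nil) (.node [72,65,63,61] .nil .nil)) (.node [67,67,61] (.node [67,71,65,60] .nil .nil) .nil))))))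

/-- A part. -/
noncomputable def centWords0_50 : Arr (List ℕ) :=
  (.node [61,66,64,62] (.node [66,69,61,61] (.node [67,70,61] (.node [75,73,63,60] (.node [63,60,63,60] (.node [67,64,74,62] (.node [69,62,74,62] .nil .nil) (.node [62,65,75,60] .nil .nil)) (.node [71,66,63,62] (.node [64,66,61,60] .nil .nil) (.node [64,66,63,60] .nil .nil))) (.node [69,60,63,61] (.node [73,68,64,61] (.node [66,74,75,61,60] .nil .nil) (.node [60,66,64,60] .nil .nil)) (.node [67,70,68,61] (.node [66,62,62,60] .nil .nil) (.node [71,73,67,61,60] .nil .nil)))) (.node [71,65,68,61] (.node [62,75,63,60] (.node [75,71,61,61] (.node [73,62,66,60] .nil .nil) (.node [65,71,65,61] .nil .nil)) (.node [65,62,66,63] (.node [66,69,66,63] .nil .nil) (.node [65,72,66,60] .nil .nil))) (.node [66,62,66,64] (.node [70,71,62] (.node [71,63,62,60] .nil .nil) (.node [75,63,61] .nil .nil)) (.node [61,66,63] (.node [68,60,69,60] .nil .nil) (.node [74,62,75,60] .nil .nil))))) (.node [62,63,69,62] (.node [69,67,64,62] (.node [63,61,61,60]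 (.node [70,61,61] (.node [64,68,63] .nil .nil) (.node [60,63,65,62] .nil .nil)) (.node [64,65,73,60] (.node [64,74,72,61] .nil .nil) (.node [73,72,68,63] .nil .nil))) (.node [68,73,64] (.node [66,61] (.node [70,67,63] .nil .nil) (.node [74,64] .nil .nil)) (.node [70,60,66,60] (.node [67,66,64,61] .nil .nil) (.node [67,65,60] .nil .nil)))) (.node [72,66,63] (.node [75,61,68,63] (.node [67,61,63,61] (.node [71,67,67,61] .nil .nil) (.node [71,61,75,61] .nil .nil)) (.node [63,70,63] (.node [64,73,68,60] .nil .nil) (.node [72,73,63] .nil .nil))) (.node [71,67,61,63] (.node [62,75,62,60] (.node [61,74,63,61] .nil .nil) (.node [66,73,63,63] .nil .nil)) (.node [62,64,61] (.node [70,60,63,61] .nil .nil) .nil))))) (.node [67,62,75,61] (.node [63,61,69,61] (.node [61,60,62] (.node [65,63,75,60] (.node [62,60,66,63] (.node [65,60,69,60] .nil .nil) (.node [68,65,60] .nil .nil)) (.node [65,72,62,60] (.node [62,64,73,60] .nil .nil) (.node [67,66,63] .nil .nil))) (.node [60,75,66,61] (.node [68,74,63] (.node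 [72,60,67,62] .nil .nil) (.node [66,60,68,60] .nil .nil)) (.node [62,65,61,60] (.node [60,73,63] .nil .nil) (.node [70,60,65,62] .nil .nil)))) (.node [63,66,74,62] (.node [70,68,61] (.node [64,62,60] (.node [65,68,72,61] .nil .nil) (.node [62,63,63] .nil .nil)) (.node [66,70,60] (.node [60,70,68,60] .nil .nil) (.node [73,63,72,61] .nil .nil))) (.node [64,66,73,63] (.node [63,67,61,60] (.node [74,72,63] .nil .nil) (.node [75,63,65,62] .nil .nil)) (.node [60,68,70,60] (.node [66,71,62] .nil .nil) (.node [60,72,61] .nil .nil))))) (.node [70,62,68,60] (.node [68,64,70,62,60] (.node [64,69,66,60] (.node [62,75,64,62] (.node [68,61,68,61] .nil .nil) (.node [66,61,69,60] .nil .nil)) (.node [68,60,66,62] (.node [68,75,61,61] .nil .nil) (.node [65,73,68,60] .nil .nil))) (.node [66,60,64,62] (.node [73,66,63,61] (.node [74,63] .nil .nil) (.node [69,72,67,61] .nil .nil)) (.node [67,71,64] (.node [64,61,68,62] .nil .nil) (.node [60,69,62] .nil .nil)))) (.node [64,68,61,61] (.node [75,65,68,61] (.node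 [63,71,70,63] (.node [72,65,65,60] .nil .nil) (.node [67,69,65,60] .nil .nil)) (.node [60,61,67,61] (.node [61,72,68,61] .nil .nil) (.node [68,65,64] .nil .nil))) (.node [68,60,64,61] (.node [75,62,65,62] (.node [71,69,61,64] .nil .nil) (.node [62,62,67,62] .nil .nil)) (.node [61,63,69,60] (.node [73,62,67,62] .nil .nil) .nil))))))

/-- A part. -/
noncomputable def centWords0_51 : Arr (List ℕ) :=
  (.node [61,70,63,62] centWords0_49 centWords0_50)

/-- A part. -/
noncomputable def centWords0_52 : Arr (List ℕ) :=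
  (.node [67,65,67,63] centWords0_48 centWords0_51)

/-- A part. -/
noncomputable def centWords0_53 : Arr (List ℕ) :=
  (.node [73,60,67,62] (.node [66,69,71,60] (.node [70,62,62] (.node [72,62,66,60] (.node [66,74,61] (.node [61,69,64] (.node [63,61,68,60] .nil .nil) (.node [73,75,60] .nil .nil)) (.node [70,63,68,62] (.node [70,61,67,60] .nil .nil) (.node [75,60,73,61] .nil .nil))) (.node [66,60,67,60] (.node [63,70,71,64] (.node [67,64,64,64] .nil .nil) (.node [61,61,70,61] .nil .nil)) (.node [65,62,67,67,60] (.node [72,60] .nil .nil) (.node [61,63,68,60] .nil .nil)))) (.node [61,64,73,60] (.node [75,62,75,60] (.node [65,67,66,61] (.node [60,61,68,61] .nil .nil) (.node [63,61,63,62] .nil .nil)) (.node [74,62,71,60] (.node [74,71,61,60] .nil .nil) (.node [66,75,60] .nil .nil))) (.node [71,65,60,62] (.node [67,69,62] (.node [73,68,63,62] .nil .nil) (.node [73,72,61,60] .nil .nil)) (.node [68,60,61,61] (.node [67,63,72,60] .nil .nil) (.node [68,69,66,60] .nil .nil))))) (.node [67,71,68,61,60]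 (.node [67,60,61,60] (.node [68,66,60] (.node [67,70,66,62] (.node [72,66,60] .nil .nil) (.node [72,60,66,60] .nil .nil)) (.node [69,67,63,62] (.node [65,61,68,63] .nil .nil) (.node [67,64,64,60] .nil .nil))) (.node [60,62,73,60] (.node [62,63,62,60] (.node [68,61,69,60] .nil .nil) (.node [68,62,65,62] .nil .nil)) (.node [73,61,65,60] (.node [71,74,64,62] .nil .nil) (.node [68,71,60] .nil .nil)))) (.node [60,65,62] (.node [71,64,75,61] (.node [62,65,73,60] (.node [65,61,61] .nil .nil) (.node [74,61,70,61,60] .nil .nil)) (.node [74,69,61,63] (.node [60,63,71,60] .nil .nil) (.node [61,69,62,60] .nil .nil))) (.node [65,63,75,63] (.node [64,73,65,60] (.node [61,63,70,61] .nil .nil) (.node [66,73,61,61] .nil .nil)) (.node [61,63,72,60] (.node [68,60,71,63] .nil .nil) .nil))))) (.node [68,63,71,61] (.node [65,67,63] (.node [64,72,61] (.node [74,75,62,60] (.node [68,71,65,61] (.node [61,65,73,62] .nil .nil) (.node [72,68,64] .nil .nil)) (.node [70,75,62] (.node [66,63,60] .nil .nil) (.node [69,64,61]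 .nil .nil))) (.node [61,75,68,62] (.node [71,62,67,63] (.node [64,66,72,65,60] .nil .nil) (.node [63,72,61] .nil .nil)) (.node [66,61,72,60] (.node [68,66,67,63] .nil .nil) (.node [63,67,67,63] .nil .nil)))) (.node [61,61,63] (.node [67,73,62] (.node [70,61,63] (.node [61,74,68,60] .nil .nil) (.node [64,67,65,62,60] .nil .nil)) (.node [71,60,75,62] (.node [68,71,66,64] .nil .nil) (.node [68,70,64,62] .nil .nil))) (.node [67,75,61,60] (.node [63,74,75,60] (.node [71,74,61,63] .nil .nil) (.node [62,64,73,62] .nil .nil)) (.node [61,64,65,60] (.node [74,63,72,61] .nil .nil) (.node [68,71,63,60] .nil .nil))))) (.node [63,75,62] (.node [65,63,60] (.node [75,63,67,61] (.node [61,63,61] (.node [68,61,60] .nil .nil) (.node [69,60,73,60] .nil .nil)) (.node [62,60,62,60] (.node [69,64,71,62] .nil .nil) (.node [66,63,65,60] .nil .nil))) (.node [65,60,74,60] (.node [74,61,64,60] (.node [68,75,64,64] .nil .nil) (.node [64,67,64,62] .nil .nil)) (.node [75,61,72,60] (.node [72,64] .nil .nil) (.node [64,69,67,60]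 .nil .nil)))) (.node [68,64,71,61] (.node [62,65,67,61] (.node [75,60,68,60] (.node [60,71,69,63] .nil .nil) (.node [69,71,64] .nil .nil)) (.node [68,74,61] (.node [61,60,70,60] .nil .nil) (.node [74,62,63,63] .nil .nil))) (.node [60,68,63] (.node [63,63,73,60] (.node [63,68,68,60] .nil .nil) (.node [61,67,62] .nil .nil)) (.node [66,67,61] (.node [63,61,70,63] .nil .nil) .nil))))))

/-- A part. -/
noncomputable def centWords0_54 : Arr (List ℕ) :=
  (.node [74,60,62,60] (.node [64,74,65,60] (.node [74,64,68,61] (.node [64,66,74,60] (.node [63,74,61,60] (.node [73,60,68,60] (.node [62,71,66,60] .nil .nil) (.node [73,60,63] .nil .nil)) (.node [63,67,62,60] (.node [73,63,65,64] .nil .nil) (.node [60,65,67,63] .nil .nil))) (.node [63,75,61,60] (.node [61,73,71,60] (.node [74,60,69,60] .nil .nil) (.node [62,66,67,60] .nil .nil)) (.node [73,63,66,61] (.node [66,64,71,60] .nil .nil) (.node [69,61] .nil .nil)))) (.node [64,61,71,62] (.node [69,63,61,60] (.node [72,65,61] (.node [63,63,60] .nil .nil)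 (.node [69,61,61] .nil .nil)) (.node [61,65,75,61] (.node [62,71,61] .nil .nil) (.node [74,63,63] .nil .nil))) (.node [62,62,63] (.node [73,63,63,60] (.node [66,60,64,60] .nil .nil) (.node [75,66,71,60] .nil .nil)) (.node [64,62,66,62] (.node [64,72,65,62] .nil .nil) (.node [64,68,60,63] .nil .nil))))) (.node [75,60,72,61] (.node [64,64,60] (.node [64,69,66,61] (.node [60,74,67,60] (.node [74,61,68,61,60] .nil .nil) (.node [75,60,62,60] .nil .nil)) (.node [66,66,73,61] (.node [62,73,61,60] .nil .nil) (.node [65,70,64] .nil .nil))) (.node [73,63,74,63] (.node [69,66,74,62] (.node [63,73,60] .nil .nil) (.node [75,65,68,60] .nil .nil)) (.node [64,62,66,60] (.node [61,63,72,61] .nil .nil) (.node [67,60,63] .nil .nil)))) (.node [68,60,72,60] (.node [63,71,62] (.node [64,72,60] (.node [63,67,65,60] .nil .nil) (.node [60,73,65,60] .nil .nil)) (.node [71,69,64,61] (.node [70,63,69,61] .nil .nil) (.node [68,62,71,64] .nil .nil))) (.node [63,62,70,60] (.node [67,62,63,63] (.node [61,60,69,60] .nil .nil)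 (.node [67,60,63,62] .nil .nil)) (.node [68,61,61] (.node [60,69,64] .nil .nil) .nil))))) (.node [62,66,70,60] (.node [73,65,60] (.node [68,62,66,62] (.node [70,63,61,60] (.node [69,63,71,64] (.node [71,63,71,60] .nil .nil) (.node [71,64,72,61,60] .nil .nil)) (.node [64,66,68,60] (.node [63,60,66,60] .nil .nil) (.node [68,63,75,61] .nil .nil))) (.node [75,62,62] (.node [62,66,70,61] (.node [71,67,63,63] .nil .nil) (.node [74,64,62] .nil .nil)) (.node [67,64,68,62] (.node [67,69,61,60] .nil .nil) (.node [72,69,64] .nil .nil)))) (.node [75,68,69,61] (.node [60,68,63,63] (.node [65,64,67,61] (.node [71,62,60] .nil .nil) (.node [64,66,70,61] .nil .nil)) (.node [64,67,61] (.node [75,64,75,60] .nil .nil) (.node [72,60,62,63] .nil .nil))) (.node [61,67,66,60] (.node [65,69,72,61] (.node [66,60,61,61] .nil .nil) (.node [69,64,70,60] .nil .nil)) (.node [60,75,63,61] (.node [61,75,64] .nil .nil) (.node [63,62,69,62,60] .nil .nil))))) (.node [66,63,61,60] (.node [64,65,68,61] (.node [61,72,66,61] (.node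 [74,60,64,61] (.node [75,70,66,61] .nil .nil) (.node [61,74,75,63] .nil .nil)) (.node [68,62,69,60] (.node [62,74,63,60] .nil .nil) (.node [68,65,60,61,60] .nil .nil))) (.node [71,67,61,60] (.node [66,68,64] (.node [60,64,64,60] .nil .nil) (.node [66,70,63,63] .nil .nil)) (.node [64,74,62] (.node [73,65,61] .nil .nil) (.node [71,60,68,60] .nil .nil)))) (.node [61,63,65,61] (.node [71,75,63,61,60] (.node [74,68,68,61] (.node [63,73,67,60] .nil .nil) (.node [74,61,67,61] .nil .nil)) (.node [64,62,63] (.node [62,66,62] .nil .nil) (.node [68,71,61,60] .nil .nil))) (.node [73,71,61,61] (.node [63,62,60] (.node [66,64,74,61,60] .nil .nil) (.node [60,73,60,62] .nil .nil)) (.node [66,69,62,60] (.node [64,64,67,60] .nil .nil) .nil))))))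

/-- A part. -/
noncomputable def centWords0_55 : Arr (List ℕ) :=
  (.node [73,63,63,62] centWords0_53 centWords0_54)

/-- A part. -/
noncomputable def centWords0_56 : Arr (List ℕ) :=
  (.node [62,69,75,61] (.node [63,61,73,60] (.node [74,61,74,61,60] (.node [68,64,69,61] (.node [61,66,64] (.node [66,62,70,60] (.node [71,69,62,63] .nil .nil) (.node [69,61,69,60] .nil .nil)) (.node [71,69,61] (.node [68,68,64] .nil .nil) (.node [63,61,64] .nil .nil))) (.node [61,73,63,60] (.node [70,61,61,61] (.node [64,67,73,60] .nil .nil) (.node [70,68,63] .nil .nil)) (.node [75,70,65,61] (.node [62,66,64] .nil .nil) (.node [71,71,60] .nil .nil)))) (.node [63,69,65,61] (.node [63,68,66,60] (.node [61,66,72,60] (.node [74,75,69,61] .nil .nil) (.node [70,62,64] .nil .nil)) (.node [68,65,61,60] (.node [74,60,68,61] .nil .nil) (.node [63,61,73,64] .nil .nil))) (.node [73,64,71,61] (.node [61,60,66,62] (.node [62,65,69,60] .nil .nil) (.node [61,63,74,60] .nil .nil)) (.node [62,72,64,60] (.node [73,68,65,63] .nil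 .nil) (.node [64,68,62] .nil .nil))))) (.node [63,65,61,61] (.node [66,60,62,60] (.node [70,72,63,60] (.node [70,65,61] (.node [73,61,64,60] .nil .nil) (.node [63,67,65,62] .nil .nil)) (.node [62,74,70,60] (.node [74,60,69,62] .nil .nil) (.node [62,75,61] .nil .nil))) (.node [67,61,64,61] (.node [75,68,61,64] (.node [69,60,67,61] .nil .nil) (.node [64,66,75,60] .nil .nil)) (.node [63,69,68,61,60] (.node [64,73,61] .nil .nil) (.node [64,67,62] .nil .nil)))) (.node [63,69,60] (.node [65,64] (.node [63,71,60,62] (.node [66,71,71,60] .nil .nil) (.node [60,69,65,60] .nil .nil)) (.node [60,74,68,60] (.node [68,73,61,63] .nil .nil) (.node [63,66,73,61] .nil .nil))) (.node [66,61,65,63] (.node [70,72,68,61] (.node [66,70,63,62] .nil .nil) (.node [66,69,63,62] .nil .nil)) (.node [67,65,61,60] (.node [69,71,61] .nil .nil) .nil))))) (.node [65,67,67,60] (.node [72,66,74,60] (.node [62,69,62,60] (.node [64,68,61] (.node [74,60,68,60] (.node [63,68,63] .nil .nil) (.node [74,71,68,65,60] .nil .nil)) (.node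 [68,75,61,60] (.node [63,68,64] .nil .nil) (.node [67,69,65,61] .nil .nil))) (.node [71,61,64,62] (.node [75,65,64] (.node [74,64,67,64] .nil .nil) (.node [66,75,61,63] .nil .nil)) (.node [69,73,61,61] (.node [73,62,64,60] .nil .nil) (.node [68,62,62,62,60] .nil .nil)))) (.node [61,63,75,61] (.node [63,73,62] (.node [61,72,63,62] (.node [65,74,60,62] .nil .nil) (.node [64,71,62] .nil .nil)) (.node [69,73,61] (.node [66,62,73,61] .nil .nil) (.node [62,71,68,60] .nil .nil))) (.node [63,72,65,64] (.node [65,62,74,63] (.node [65,61,71,60] .nil .nil) (.node [73,72,64] .nil .nil)) (.node [74,66,64,61] (.node [66,62,65,62] .nil .nil) (.node [75,62,65,61] .nil .nil))))) (.node [60,70,62,62] (.node [72,75,73,63] (.node [63,68,70,60] (.node [72,61,69,64] (.node [67,72,62,60] .nil .nil) (.node [65,60,63,60] .nil .nil)) (.node [63,72,60] (.node [60,73,61,64] .nil .nil) (.node [63,61,61,61,60] .nil .nil))) (.node [65,70,63] (.node [66,63,71,60] (.node [62,68,71,61,60] .nil .nil) (.node [65,64,61] .nil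 .nil)) (.node [62,71,64,60] (.node [73,64,68,60] .nil .nil) (.node [68,64,62,60] .nil .nil)))) (.node [74,61,61,63] (.node [63,75,73,61] (.node [63,73,65,62] (.node [70,65,63,62] .nil .nil) (.node [62] .nil .nil)) (.node [61,69,64,61,60] (.node [63,66,63,60] .nil .nil) (.node [74,62] .nil .nil))) (.node [74,67,60,62] (.node [67,71,61,60] (.node [65,61,67,60] .nil .nil) (.node [72,73,60,62] .nil .nil)) (.node [62,62,65,60] (.node [68,73,61,60] .nil .nil) .nil))))))

/-- A part. -/
noncomputable def centWords0_57 : Arr (List ℕ) :=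
  (.node [72,63,63] (.node [68,74,63,62] (.node [63,69,75,60] (.node [62,66,64,61] (.node [65,62,65,61] (.node [64,65,67,61] (.node [60,72,64,62] .nil .nil) (.node [69,62,68,61,60] .nil .nil)) (.node [63,70,65,63] (.node [65,64,64] .nil .nil) (.node [66,68,69,63] .nil .nil))) (.node [75,60,65,61] (.node [74,63,62] (.node [71,71,61,64] .nil .nil) (.node [66,62,66,62] .nil .nil)) (.node [70,68,65,61] (.node [66,63,75,60] .nil .nil) (.node [60,70,64,61,60] .nil .nil)))) (.node [68,61,63,60] (.node [66,72,64,61] (.node [70,61,73,61] (.node [73,65,62,60] .nil .nil) (.node [70,63,70,60] .nil .nil)) (.node [63,66,72,60] (.node [66,66,64,60] .nil .nil) (.node [70,66,63,61] .nil .nil))) (.node [71,63,75,61] (.node [65,75,66,61] (.node [75,60,70,60] .nil .nil) (.node [60,67,65,60] .nil .nil)) (.node [61,65,74,61] (.node [72,61] .nil .nil) (.node [75,64,72,60] .nil .nil))))) (.node [67,65,63,62] (.node [75,74,63] (.node [63,63,69,63] (.node [64,61,64] (.node [63,70,63,60] .nil .nil) (.node [65,67,61,63]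 .nil .nil)) (.node [63,75,61] (.node [61,61,61] .nil .nil) (.node [67,73,63] .nil .nil))) (.node [65,71,64,60] (.node [60,66,63] (.node [72,63,71,60] .nil .nil) (.node [74,65,61] .nil .nil)) (.node [73,68,62,63] (.node [75,64,69,62] .nil .nil) (.node [66,67,60] .nil .nil)))) (.node [60,68,66,60] (.node [69,60,68,61] (.node [66,66,61,60] (.node [62,65,65,61] .nil .nil) (.node [65,68,64] .nil .nil)) (.node [75,63,68,61] (.node [60,67,61,61,60] .nil .nil) (.node [72,65,64,60] .nil .nil))) (.node [66,68,69,60] (.node [73,75,61] (.node [71,66,62,62,60] .nil .nil) (.node [70,60,67,60] .nil .nil)) (.node [62,70,61] (.node [62,60,64,61] .nil .nil) .nil))))) (.node [67,62,65,60] (.node [65,74,63] (.node [67,69,64,62] (.node [60,72,66,61] (.node [75,62,67,62] (.node [62,62,62,62] .nil .nil) (.node [66,69,63] .nil .nil)) (.node [71,67,62,62] (.node [67,62,62,60] .nil .nil) (.node [69,72,67,63] .nil .nil))) (.node [67,67,73,61] (.node [61,68,60] (.node [62,72,66,62] .nil .nil) (.node [73,60,63,60] .nil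 .nil)) (.node [72,62,65,63] (.node [75,70,61,60] .nil .nil) (.node [64,72,63] .nil .nil)))) (.node [62,66,71,63,60] (.node [72,62,63,60] (.node [64,71,66,60] (.node [67,71,62,60] .nil .nil) (.node [74,63,72,64] .nil .nil)) (.node [68,66,63] (.node [67,65,65,60] .nil .nil) (.node [62,65,67,60] .nil .nil))) (.node [68,72,69,60] (.node [68,61,63,61] (.node [64,60,69,62] .nil .nil) (.node [65,64,62,62] .nil .nil)) (.node [60,63,70,63] (.node [70,63,67,61] .nil .nil) (.node [62,67,64] .nil .nil))))) (.node [63,74,75,63] (.node [65,67,62] (.node [75,61,75,60] (.node [64,60,66,63] (.node [64,71,60] .nil .nil) (.node [63,61,70,62] .nil .nil)) (.node [74,62,70,63] (.node [71,65,60] .nil .nil) (.node [64] .nil .nil))) (.node [71,61,64] (.node [62,72,63,61] (.node [67,73,71,60] .nil .nil) (.node [66,62,65,64] .nil .nil)) (.node [69,64,74,64] (.node [69,75,60] .nil .nil) (.node [73,75,61,61] .nil .nil)))) (.node [60,65,64,60] (.node [71,68,70,61,60] (.node [71,62,75,60] (.node [65,63,67,61] .nil .nil)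 (.node [61,75,62,60] .nil .nil)) (.node [60,63,61,60] (.node [65,64,62,60] .nil .nil) (.node [63,66,64,61] .nil .nil))) (.node [64,72,62,60] (.node [60,66,61] (.node [64,66,69,64] .nil .nil) (.node [73,69,62,60] .nil .nil)) (.node [65,65,62,63] (.node [72,69,61] .nil .nil) .nil))))))

/-- A part. -/
noncomputable def centWords0_58 : Arr (List ℕ) :=
  (.node [66,61,61,60] centWords0_56 centWords0_57)

/-- A part. -/
noncomputable def centWords0_59 : Arr (List ℕ) :=
  (.node [64,75,71,61,60] centWords0_55 centWords0_58)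

/-- A part. -/
noncomputable def centWords0_60 : Arr (List ℕ) :=
  (.node [71,73,64] centWords0_52 centWords0_59)

/-- A part. -/
noncomputable def centWords0_61 : Arr (List ℕ) :=
  (.node [63,71,63,63] centWords0_45 centWords0_60)

/-- A part. -/
noncomputable def centWords0_62 : Arr (List ℕ) :=
  (.node [] centWords0_30 centWords0_61)

/-- The array. -/
noncomputable def centWords0 : Arr (List ℕ) := centWords0_62

/-- A part. -/
noncomputable def centWords1_0 : Arr (List ℕ) :=
  (.node [] (.node [66,66,74,65] (.node [69,66,68,66] (.node [73,67,72,65] (.node [72,70,65] (.node [74,71,67] (.node [74,68,65] (.node [68,73,65] .nil .nil) (.node [75,68,65] .nil .nil)) (.node [68,72,65] (.node [70,65] .nil .nil) (.node [65,68,74,65] .nil .nil))) (.node [70,71,66] (.node [65,69,68] (.node [66,69,66] .nil .nil) (.node [67,66,75,65] .nil .nil)) (.node [69,67,74,65] (.node [75,67,65] .nil .nil) (.node [75,68] .nil .nil)))) (.node [73,66,66] (.node [73,75,66] (.node [70,67] (.node [73,65] .nil .nil)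 (.node [67,71,67] .nil .nil)) (.node [71,73,67] (.node [67,74,65] .nil .nil) (.node [67,66,67] .nil .nil))) (.node [66,70,65] (.node [73,67] (.node [70,68,66] .nil .nil) (.node [69,67,66] .nil .nil)) (.node [66,68,66] (.node [65,75,68,65] .nil .nil) .nil)))) (.node [67,72,65] (.node [69,72,67] (.node [74,66,66] (.node [74,67] (.node [66,72,66] .nil .nil) (.node [65,74,65] .nil .nil)) (.node [74,72,67] (.node [70,72,66] .nil .nil) (.node [72,68,66] .nil .nil))) (.node [68,69,68,66] (.node [72,66,67] (.node [65] .nil .nil) (.node [73,72,66] .nil .nil)) (.node [73,66] (.node [71,68,66] .nil .nil) .nil))) (.node [66,67,66] (.node [72,74,65] (.node [67,66,66,66] (.node [65,73,68,65] .nil .nil) (.node [67,65,74,65] .nil .nil)) (.node [68,68,65] (.node [68,68,72,65] .nil .nil) (.node [74,67,65] .nil .nil))) (.node [68,68,73,65] (.node [68,74,65] (.node [71,65,74,65] .nil .nil) (.node [72,65,67] .nil .nil)) (.node [69,66] (.node [67,65] .nil .nil) .nil))))) (.node [67,73,68,65] (.node [67,75,65] (.node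 [75,65] (.node [71,68] (.node [69,71,66] (.node [65,72,65] .nil .nil) (.node [70,68,70,65] .nil .nil)) (.node [66,72,65] (.node [68,74,67,65] .nil .nil) (.node [68,73,67] .nil .nil))) (.node [67] (.node [73,68,65] (.node [73,67,67] .nil .nil) (.node [65,71,67,65] .nil .nil)) (.node [67,67,66] (.node [75,68,66] .nil .nil) .nil))) (.node [70,75,65] (.node [67,67,65] (.node [72,75,65] (.node [75,66,72,65] .nil .nil) (.node [65,70,65] .nil .nil)) (.node [70,66,67,65] (.node [72,66,69,65] .nil .nil) (.node [74,66,73,65] .nil .nil))) (.node [68,72,68] (.node [67,69,66] (.node [66,74,69,65] .nil .nil) (.node [65,68,68] .nil .nil)) (.node [71,67,67] (.node [71,71,66] .nil .nil) .nil)))) (.node [71,67,66] (.node [72,67,65] (.node [75,66] (.node [72,69,66] (.node [65,71,71,66] .nil .nil) (.node [72,66] .nil .nil)) (.node [75,71,68] (.node [71,73,68] .nil .nil) (.node [65,68,66] .nil .nil))) (.node [72,67,69,65] (.node [72,73,65] (.node [65,72,68,65] .nil .nil) (.node [69,65] .nil .nil)) (.node [68,70,65]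 (.node [75,70,67] .nil .nil) .nil))) (.node [75,74,66] (.node [72,68,65] (.node [69,68,68] (.node [69,65,68] .nil .nil) (.node [73,67,73,65] .nil .nil)) (.node [72,67,66] (.node [75,74,65] .nil .nil) (.node [72,73,68] .nil .nil))) (.node [65,72,70,65] (.node [72,68] (.node [67,65,73,65] .nil .nil) (.node [67,74,67] .nil .nil)) (.node [68,75,70,65] (.node [65,68] .nil .nil) .nil)))))) (.node [69,67,75,65] (.node [73,65,69,65] (.node [67,70,67,65] (.node [72,65] (.node [73,72,67,65] (.node [66,67,65] (.node [73,67,69,65] .nil .nil) (.node [74,69,65] .nil .nil)) (.node [72,67] (.node [73,68,66] .nil .nil) (.node [74,66] .nil .nil))) (.node [75,69,68] (.node [68,71,67,66] (.node [74,65] .nil .nil) (.node [66,68,70,65] .nil .nil)) (.node [70,68] (.node [67,69,65] .nil .nil) .nil))) (.node [72,74,66] (.node [66,66] (.node [66,68,65] (.node [67,67] .nil .nil) (.node [73,67,74,65] .nil .nil)) (.node [75,66,66] (.node [75,71,67] .nil .nil) (.node [66,73,68] .nil .nil))) (.node [73,66,70,65] (.node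 [71,66] (.node [75,65,67] .nil .nil) (.node [65,71,66] .nil .nil)) (.node [71,66,69,65] (.node [67,70,67] .nil .nil) .nil)))) (.node [65,69,65] (.node [73,71,67] (.node [68] (.node [71,74,67] (.node [66,66,67] .nil .nil) (.node [66,66,66] .nil .nil)) (.node [74,72,68] (.node [67,66] .nil .nil) (.node [75,73,65] .nil .nil))) (.node [65,74,69,65] (.node [74,70,67] (.node [74,67,67] .nil .nil) (.node [68,66] .nil .nil)) (.node [67,74,68] (.node [72,66,66] .nil .nil) .nil))) (.node [71,67] (.node [75,70,65] (.node [67,70,65] (.node [68,68] .nil .nil) (.node [65,72,66] .nil .nil)) (.node [74,68,68,65] (.node [68,72,67] .nil .nil) (.node [69,75,65] .nil .nil))) (.node [68,75,68] (.node [65,73,65] (.node [72,68,68] .nil .nil) (.node [75,72,65] .nil .nil)) (.node [73,66,69,65] (.node [67,73,65] .nil .nil) .nil))))) (.node [68,74,68,65] (.node [71,66,73,65] (.node [66,72,68,65] (.node [70,74,66] (.node [75,69,66] (.node [71,66,68,66] .nil .nil) (.node [66,73,66] .nil .nil)) (.node [70,72,67] (.node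 [69,68] .nil .nil) (.node [72,65,70,65] .nil .nil))) (.node [70,65,68] (.node [71,67,65] (.node [70,68,68] .nil .nil) (.node [65,65,67] .nil .nil)) (.node [65,75,66] (.node [66,69,65] .nil .nil) .nil))) (.node [74,68] (.node [73,68] (.node [68,65] (.node [73,69,67,67] .nil .nil) (.node [74,65,71,66] .nil .nil)) (.node [71,71,67] (.node [68,75,72,65] .nil .nil) (.node [70,67,66] .nil .nil))) (.node [65,67] (.node [73,68,68,65] (.node [66,75,65] .nil .nil) (.node [74,69,68] .nil .nil)) (.node [69,67,65] (.node [66,73,65] .nil .nil) .nil)))) (.node [68,72,67,65] (.node [73,66,67] (.node [70,67,65] (.node [70,66,68,65] (.node [69,67,67] .nil .nil) (.node [65,74,67] .nil .nil)) (.node [74,66,72,65] (.node [69,68,66] .nil .nil) (.node [69,66,66] .nil .nil))) (.node [67,72,67] (.node [73,72,68,65] (.node [69,65,67] .nil .nil) (.node [74,67,66] .nil .nil)) (.node [69,72,66] (.node [74,66,68,66] .nil .nil) .nil))) (.node [66,67] (.node [73,70,67] (.node [65,75,66,66] (.node [70,67,70,65] .nil .nil)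 (.node [73,65,70,65] .nil .nil)) (.node [73,67,65] (.node [66] .nil .nil) (.node [68,74,66] .nil .nil))) (.node [72,67,70,65] (.node [75,72,68,65] (.node [68,71,67] .nil .nil) (.node [66,74,65] .nil .nil)) (.node [72,68,68,65] (.node [73,69,68] .nil .nil) .nil)))))))

/-- The array. -/
noncomputable def centWords1 : Arr (List ℕ) := centWords1_0

/-- A part. -/
noncomputable def centWords2_0 : Arr (List ℕ) :=
  (.node [] (.node [74,72,69] (.node [73,72,69] (.node [71,70,72] (.node [71,70] (.node [73,72,70] (.node [71,71,69] .nil .nil) .nil) (.node [73,72] .nil .nil)) (.node [70,75,70] (.node [73,71] .nil .nil) (.node [74,72] .nil .nil))) (.node [71,73,72,70] (.node [75,74,72] (.node [69] .nil .nil) (.node [71,73,71] .nil .nil)) (.node [71,69] (.node [70,71] .nil .nil) (.node [74,70,71] .nil .nil)))) (.node [71,75,70] (.node [71,74,71] (.node [74,71,71] (.node [71,74,71,69] .nil .nil) (.node [73,69] .nil .nil)) (.node [75,71,69] (.node [74,71,69] .nil .nil) (.node [70] .nil .nil))) (.node [70,71,69]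 (.node [71,71] (.node [72] .nil .nil) (.node [71] .nil .nil)) (.node [71,74,72,69] (.node [75,70] .nil .nil) (.node [75,73,69] .nil .nil))))) (.node [72,74,70,71] (.node [72,69] (.node [71,69,72] (.node [70,71,75,70] (.node [72,70] .nil .nil) (.node [74,69,72] .nil .nil)) (.node [71,70,71] (.node [72,70,71] .nil .nil) (.node [69,72] .nil .nil))) (.node [73,75,71] (.node [72,75,70] (.node [71,74,72] .nil .nil) (.node [72,74,72] .nil .nil)) (.node [70,71,70] (.node [70,74,71] .nil .nil) (.node [69,73,72,69] .nil .nil)))) (.node [69,71,71,69] (.node [69,75,70] (.node [73,71,71] (.node [69,71,69] .nil .nil) (.node [74,71] .nil .nil)) (.node [70,71,71] (.node [69,71,71] .nil .nil) (.node [75,71,71,70] .nil .nil))) (.node [75,71] (.node [72,73,69] (.node [72,73,72,70] .nil .nil) (.node [73,71,71,70] .nil .nil)) (.node [72,70,71,69] (.node [71,71,70] .nil .nil) (.node [70,72] .nil .nil))))))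

/-- The array. -/
noncomputable def centWords2 : Arr (List ℕ) := centWords2_0

/-- A part. -/
noncomputable def centWords3_0 : Arr (List ℕ) :=
  (.node [] (.node [74] (.node [74,75] (.node [74,75,73] .nil .nil) (.node [73,75,73] .nil .nil)) (.node [75] (.node [75,73] .nil .nil) .nil)) (.node [73] (.node [73,75] (.node [74,75,74] .nil .nil) .nil) (.node [73,75,74] (.node [75,74] .nil .nil) .nil)))

/-- The array. -/
noncomputable def centWords3 : Arr (List ℕ) := centWords3_0

/-- The base. -/
def centBase : List ℕ := [4,3944,2711,1741]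

/-- The levels. -/
noncomputable def centLevels : List Lv := [⟨4032, [60,61,62,63,64,65,66,67,68,69,70,71,72,73,74,75], centWords0, []⟩,
  ⟨240, [65,66,67,68,69,70,71,72,73,74,75], centWords1, []⟩,
  ⟨64, [69,70,71,72,73,74,75], centWords2, []⟩,
  ⟨12, [73,74,75], centWords3, []⟩]

/-- A part. -/
noncomputable def sylWords0_0 : Arr (List ℕ) :=
  (.node [100,100,1] (.node [98,101,99,1] (.node [102,101,86] (.node [100,102,98,87] (.node [95,89] (.node [100,95,89] (.node [98,101,96,1] (.node [92,101,100] .nil .nil) .nil) (.node [97,101,95,1] .nil .nil)) (.node [98,89,87] (.node [90,89,100] .nil .nil) (.node [100,102,102,95] .nil .nil))) (.node [95,88,87] (.node [100,102,98,94] (.node [91,100,98] .nil .nil) (.node [92,89,101] .nil .nil)) (.node [102,99,98,1] (.node [99,101,101] .nil .nil) (.node [95,101,88] .nil .nil)))) (.node [98,102,100,98] (.node [100,97,102,91] (.node [100,95,101] (.node [100,91,98,1] .nil .nil) (.node [102,93,96] .nil .nil)) (.node [89,98] (.node [93,99,91,1] .nil .nil)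 (.node [96,99,96] .nil .nil))) (.node [97,96,101,86] (.node [97,101,100,89] (.node [96,102] .nil .nil) (.node [100,99,88] .nil .nil)) (.node [99,93,100] (.node [99,93,100,87] .nil .nil) (.node [101,100,93,95] .nil .nil))))) (.node [89,100,91] (.node [91,99,93] (.node [98,100,96,1] (.node [99,98,89,1] (.node [102,95,102] .nil .nil) (.node [102,99,100,93] .nil .nil)) (.node [95,101,87] (.node [89,102,93] .nil .nil) (.node [101,100,96] .nil .nil))) (.node [101,95] (.node [92] (.node [99,100,89] .nil .nil) (.node [91,96] .nil .nil)) (.node [88,98,86] (.node [99,92,98] .nil .nil) (.node [100,101,99,91] .nil .nil)))) (.node [102,95,1] (.node [94,102,96] (.node [98,93,100] (.node [99,101,92,86] .nil .nil) (.node [100,88] .nil .nil)) (.node [93,99,87] (.node [99,93,86] .nil .nil) (.node [94,100] .nil .nil))) (.node [100,102,91,89] (.node [96,100,102,95] (.node [100,91,1] .nil .nil) (.node [100,102,98,88] .nil .nil)) (.node [96,100,101,95] (.node [95,96,100,87] .nil .nil) (.node [96,89] .nil .nil))))))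 (.node [99,95,87] (.node [98,99,88] (.node [92,102,89] (.node [100,99,95,86] (.node [100,98,97] (.node [88,86] .nil .nil) (.node [93,94,89] .nil .nil)) (.node [100,102,98,99] (.node [98,96,101] .nil .nil) (.node [102,94,99] .nil .nil))) (.node [100,93,101,91] (.node [92,1] (.node [99,102,88] .nil .nil) (.node [98,88,86] .nil .nil)) (.node [101,98,89,1] (.node [94,93,88] .nil .nil) (.node [100,91,89] .nil .nil)))) (.node [99,101,100,95] (.node [100,93,94,89] (.node [100,98,101,88] (.node [101,93,95,86] .nil .nil) (.node [95,87,101] .nil .nil)) (.node [98,101,100,94] (.node [100,102,98,86] .nil .nil) (.node [95,93] .nil .nil))) (.node [100,101,98,86] (.node [97,98,101,100] (.node [101,96] .nil .nil) (.node [101,98,88] .nil .nil)) (.node [96,88,100] (.node [99,93] .nil .nil) (.node [99,92,100] .nil .nil))))) (.node [101,88,98] (.node [99,102,100,94] (.node [102,95,96] (.node [95,99,101] (.node [102,96,88] .nil .nil) (.node [101,96,94] .nil .nil)) (.node [93,102,98] (.node [91,86] .nil .nil) (.node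 [95,91,87] .nil .nil))) (.node [92,86,1] (.node [96,98,100,1] (.node [102,101,87] .nil .nil) (.node [102,98,94] .nil .nil)) (.node [100,89,98,1] (.node [96,100,98,86] .nil .nil) (.node [101,101,100,95] .nil .nil)))) (.node [98,101,100] (.node [92,95,91] (.node [98,93,92] (.node [102,99,96] .nil .nil) (.node [100,92,87] .nil .nil)) (.node [98,100,87] (.node [95,100,94,89] .nil .nil) (.node [97,102,96] .nil .nil))) (.node [100,95,89,1] (.node [96,98,97] (.node [88,98] .nil .nil) (.node [101,95,86] .nil .nil)) (.node [92,100,102] (.node [99,100,98,89] .nil .nil) (.node [96,89,100,95] .nil .nil)))))))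

/-- A part. -/
noncomputable def sylWords0_1 : Arr (List ℕ) :=
  (.node [102,91,99,87] (.node [100,98,101,86] (.node [96,100,98,87] (.node [93,100,91] (.node [91,96,89] (.node [102,100,98,89] (.node [99,101,91] .nil .nil) (.node [100,98,92,93] .nil .nil)) (.node [100,94,92] (.node [91,86,1] .nil .nil) (.node [100,94,101,88] .nil .nil))) (.node [99,89,1] (.node [93,100,98,86] (.node [98,96,92] .nil .nil) (.node [101,92,100,98] .nil .nil)) (.node [98,100,94,1] (.node [100,102,93,1] .nil .nil) (.node [93,98,100,91] .nil .nil)))) (.node [101] (.node [101,91,87] (.node [102,100,94] (.node [95,91,100] .nil .nil) (.node [100,91,93,87] .nil .nil)) (.node [100,99,99,1] (.node [97,101,100] .nil .nil) (.node [96,100,89,1] .nil .nil))) (.node [87] (.node [98,94,101] (.node [102,100,95,87] .nil .nil) (.node [100,95,98,87] .nil .nil)) (.node [102,91,89] (.node [91,99,102] .nil .nil) (.node [98,96,87] .nil .nil))))) (.node [91,101] (.node [95,100,99,1] (.node [101,100,91,87] (.node [101,100,87] (.node [102,91,87]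 .nil .nil) (.node [100,101] .nil .nil)) (.node [90,102,95,1] (.node [96,94,89] .nil .nil) (.node [90,102,95] .nil .nil))) (.node [96,100,98,89] (.node [99,92,93] (.node [102,96,95] .nil .nil) (.node [95,98,1] .nil .nil)) (.node [88,87] (.node [101,99,97] .nil .nil) (.node [100,96,102,93] .nil .nil)))) (.node [101,102,100,86] (.node [88,102,100] (.node [100,99,101,97] (.node [101,99,100,93] .nil .nil) (.node [102,100] .nil .nil)) (.node [97,100] (.node [102,98,100,87] .nil .nil) (.node [100,99,96] .nil .nil))) (.node [90,100,99,101] (.node [93,100,87] (.node [95,99,101,100] .nil .nil) (.node [93,101,100,95] .nil .nil)) (.node [98,99,1] (.node [95,92,100,1] .nil .nil) (.node [88,102,96] .nil .nil)))))) (.node [100,101,98] (.node [101,88,87] (.node [91,96,93] (.node [101,98,1] (.node [102,98,100,1] (.node [91,100] .nil .nil) (.node [100,96,98,1] .nil .nil)) (.node [95,89,87] (.node [99,98,100,96] .nil .nil) (.node [101,100,91] .nil .nil))) (.node [101,95,89] (.node [96,93,94] (.node [95,101,99]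 .nil .nil) (.node [101,100,93] .nil .nil)) (.node [100,98,93,1] (.node [96,97,100] .nil .nil) (.node [100,95,96,1] .nil .nil)))) (.node [96,89,87] (.node [100,86,102] (.node [98,101,88,100] (.node [102,92,98] .nil .nil) (.node [102,93,100,87] .nil .nil)) (.node [92,99,100] (.node [100,102,99,88] .nil .nil) (.node [97,101,98,1] .nil .nil))) (.node [95,96,100,1] (.node [98,102,96] (.node [100,98,91,1] .nil .nil) (.node [88,100,95,91] .nil .nil)) (.node [99,100,102,92] (.node [101,101,100,1] .nil .nil) (.node [99,94,100] .nil .nil))))) (.node [96,87] (.node [95,92,1] (.node [100,98,91] (.node [96,98,102] (.node [95,101] .nil .nil) (.node [95,90,100] .nil .nil)) (.node [88,97] (.node [100,96,95,91] .nil .nil) (.node [99,102,92,1] .nil .nil))) (.node [100,89,98,87] (.node [96,102,98] (.node [102,99,94] .nil .nil) (.node [101,91] .nil .nil)) (.node [88,96,100] (.node [89,87] .nil .nil) (.node [91,93] .nil .nil)))) (.node [99,100,97,1] (.node [93,98,101,86] (.node [98,100,93,87] (.node [94,89] .nil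 .nil) (.node [99,101,100,88] .nil .nil)) (.node [99,101,89,100] (.node [99,101,94] .nil .nil) (.node [96,93,87] .nil .nil))) (.node [102,99,1] (.node [100,99,89] (.node [98,100,101,86] .nil .nil) (.node [100,99,99] .nil .nil)) (.node [101,100,95] (.node [93,101,91,1] .nil .nil) (.node [88,96,98] .nil .nil)))))))

/-- A part. -/
noncomputable def sylWords0_2 : Arr (List ℕ) :=
  (.node [100,102,95,1] sylWords0_0 sylWords0_1)

/-- A part. -/
noncomputable def sylWords0_3 : Arr (List ℕ) :=
  (.node [97,102,99,87] (.node [96,99,101,88] (.node [93,98,1] (.node [102,96] (.node [101,91,93] (.node [94,95,1] (.node [95,96,102] .nil .nil) (.node [98,99,91] .nil .nil)) (.node [102,98,94,86] (.node [89,87,94] .nil .nil) (.node [102,92,88] .nil .nil))) (.node [94,95,91] (.node [98] (.node [101,99,88] .nil .nil) (.node [97,96,102] .nil .nil)) (.node [100,93,91,87] (.node [93,98,91,86] .nil .nil) (.node [102,98,100,96] .nil .nil)))) (.node [92,101,92] (.node [92,86] (.node [99,100,102,97] (.node [99,90,102]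 .nil .nil) (.node [101,100,99] .nil .nil)) (.node [93,91,87] (.node [101,99,91] .nil .nil) (.node [96,100] .nil .nil))) (.node [97,95,102] (.node [93,98,97,1] (.node [96,100,100] .nil .nil) (.node [93,100,89] .nil .nil)) (.node [99,100,93] (.node [98,93,102] .nil .nil) (.node [98,101] .nil .nil))))) (.node [102,98,99,1] (.node [100,98] (.node [88,102,93] (.node [91,100,92] (.node [90,100,93] .nil .nil) (.node [98,91,93,1] .nil .nil)) (.node [98,92,101,100] (.node [102,93,95,87] .nil .nil) (.node [100,102,101] .nil .nil))) (.node [93,98,94] (.node [95,93,86] (.node [100,102,93,98] .nil .nil) (.node [95,98] .nil .nil)) (.node [91,93,100] (.node [87,101,95] .nil .nil) (.node [98,97,102] .nil .nil)))) (.node [100,95,101,86] (.node [94,102,98] (.node [97] (.node [102,98,101] .nil .nil) (.node [100,91,93,89] .nil .nil)) (.node [101,100,99,91] (.node [101,100,96,89] .nil .nil) (.node [98,101,88] .nil .nil))) (.node [100,99,101,92] (.node [88,101] (.node [95,91,86] .nil .nil) (.node [100,102,94,99]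 .nil .nil)) (.node [99,92,98,86] (.node [95,92,100] .nil .nil) (.node [91,101,98] .nil .nil)))))) (.node [102,98,100] (.node [102,95,99,100] (.node [88,100,1] (.node [95,98,86] (.node [100,93,101,86] (.node [100,94,96,1] .nil .nil) (.node [96,101,100,94] .nil .nil)) (.node [93,101,95,1] (.node [92,91,1] .nil .nil) (.node [100,99,91,1] .nil .nil))) (.node [102,100,98,87] (.node [101,88,100,98] (.node [100,101,96,95] .nil .nil) (.node [92,91,100] .nil .nil)) (.node [100,99,92] (.node [98,97,101,100] .nil .nil) (.node [98,87] .nil .nil)))) (.node [99,99,100,1] (.node [99] (.node [100,96,101,98] (.node [101,98,87,1] .nil .nil) (.node [93,91,98,100] .nil .nil)) (.node [101,100,86] (.node [93,101,97] .nil .nil) (.node [100,97,101,98] .nil .nil))) (.node [102,100,98,86] (.node [100,101,99] (.node [99,95,86] .nil .nil) (.node [102,98,87] .nil .nil)) (.node [98,94,1] (.node [96,100,102,97] .nil .nil) (.node [93,96,87] .nil .nil))))) (.node [91,89,100] (.node [99,92,87] (.node [94,86,1] (.node [94,95]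 (.node [101,99,98,86] .nil .nil) (.node [101,100,98,1] .nil .nil)) (.node [96,101,93] (.node [102,91,1] .nil .nil) (.node [96,91,100,86] .nil .nil))) (.node [96,102,100,86] (.node [92,93,100] (.node [98,93] .nil .nil) (.node [98,101,98] .nil .nil)) (.node [95,96,91] (.node [95,94,100] .nil .nil) (.node [98,100,102,92] .nil .nil)))) (.node [100,96,88] (.node [96,91,89] (.node [99,100,102,95] (.node [100,98,101,93] .nil .nil) (.node [101,100,98,92] .nil .nil)) (.node [99,100,87] (.node [100,101,95,86] .nil .nil) (.node [93,89,100] .nil .nil))) (.node [100,99,102,93] (.node [100,96,101,91] (.node [100,95,101,93] .nil .nil) (.node [93,91,100] .nil .nil)) (.node [97,101,99,1] (.node [94,101,87] .nil .nil) (.node [97,101,100,87] .nil .nil)))))))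

/-- A part. -/
noncomputable def sylWords0_4 : Arr (List ℕ) :=
  (.node [100,98,101,97] (.node [96,100,92,95] (.node [93,99,100,87] (.node [92,98] (.node [100,90,96] (.node [96,92,93] (.node [93,94,86] .nil .nil) (.node [96,100,98] .nil .nil)) (.node [102,88,100] (.node [100,96,101] .nil .nil) (.node [98,86,1] .nil .nil))) (.node [93,100,94,92] (.node [92,93,91] (.node [100,96,1] .nil .nil) (.node [100,93,87] .nil .nil)) (.node [99,94,102] (.node [102,93,98,1] .nil .nil) (.node [99,99,87] .nil .nil)))) (.node [100,101,96,91] (.node [94,97,1] (.node [95,102,100,94] (.node [95,100,92] .nil .nil) (.node [96,98,91] .nil .nil)) (.node [101,98,99,1] (.node [99,99,100,86] .nil .nil) (.node [89,101,91,1] .nil .nil))) (.node [100,98,96] (.node [102,92,86] (.node [95,101,97] .nil .nil) (.node [92,99,100,1] .nil .nil)) (.node [89,98,1] (.node [100,102,89] .nil .nil) (.node [101,100,1] .nil .nil))))) (.node [91,102,100,98] (.node [93,96,92] (.node [92,95] (.node [102,97,100] (.node [98,100,95] .nil .nil)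 (.node [101,95,1] .nil .nil)) (.node [98,95] (.node [100,95,94,89] .nil .nil) (.node [98,92,93] .nil .nil))) (.node [102,91,98,86] (.node [98,100,101,88] (.node [86] .nil .nil) (.node [100,102,93,87] .nil .nil)) (.node [100,94,92,1] (.node [100,88,87] .nil .nil) (.node [92,93] .nil .nil)))) (.node [92,101,89] (.node [99,98,102,89] (.node [95,102,93,1] (.node [96,100,92,87] .nil .nil) (.node [102,100,96,92] .nil .nil)) (.node [98,102,93,1] (.node [100,98,101] .nil .nil) (.node [97,96,87] .nil .nil))) (.node [100,94,99] (.node [94,102,100] (.node [98,100,97] .nil .nil) (.node [95,102,100,86] .nil .nil)) (.node [99,99,99] (.node [93,91,99] .nil .nil) (.node [102,91,100] .nil .nil)))))) (.node [88,94] (.node [100,86,1] (.node [101,100,98,97] (.node [95,93,92] (.node [99,93,87] (.node [93,1] .nil .nil) (.node [94,96,101] .nil .nil)) (.node [99,93,100,86] (.node [99,92,1] .nil .nil) (.node [95,94,91] .nil .nil))) (.node [102,100,98,1] (.node [100,93,98,86] (.node [102,97] .nil .nil) (.node [96,94,101,87]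 .nil .nil)) (.node [100,99,96,1] (.node [102,102,101] .nil .nil) (.node [93,89,86] .nil .nil)))) (.node [100,95,93,86] (.node [100,93,94,86] (.node [91,93,98,88] (.node [95,91,100,89] .nil .nil) (.node [91,89,1] .nil .nil)) (.node [95,100,97] (.node [102,90,102] .nil .nil) (.node [98,97,101,86] .nil .nil))) (.node [88,100] (.node [98,97,100,86] (.node [95,100,99,88] .nil .nil) (.node [96,93,1] .nil .nil)) (.node [92,100] (.node [100,99,101] .nil .nil) (.node [93] .nil .nil))))) (.node [102,99,100,95] (.node [93,98,101] (.node [95,101,96,1] (.node [94,95,93] (.node [101,93,86] .nil .nil) (.node [93,95,86] .nil .nil)) (.node [98,100,102] (.node [93,102,98,86] .nil .nil) (.node [102,98,97,100] .nil .nil))) (.node [102,98,100,95] (.node [99,100,93,86] (.node [102,99,100,87] .nil .nil) (.node [95,88] .nil .nil)) (.node [100,96,98,87] (.node [101,96,93] .nil .nil) (.node [95,102,100,1] .nil .nil)))) (.node [101,95,100] (.node [102,102] (.node [95,97,93] (.node [100,98,101,87] .nil .nil) (.node [90,96,92]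 .nil .nil)) (.node [96,92,1] (.node [98,89,1] .nil .nil) (.node [96,100,1] .nil .nil))) (.node [100,92,91] (.node [95,87] (.node [93,98,94,1] .nil .nil) (.node [100,101,93,95] .nil .nil)) (.node [101,91,100,1] (.node [98,102,99] .nil .nil) (.node [100,91,102] .nil .nil)))))))

/-- A part. -/
noncomputable def sylWords0_5 : Arr (List ℕ) :=
  (.node [88,96,95] sylWords0_3 sylWords0_4)

/-- A part. -/
noncomputable def sylWords0_6 : Arr (List ℕ) :=
  (.node [101,96,100,86] sylWords0_2 sylWords0_5)

/-- A part. -/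
noncomputable def sylWords0_7 : Arr (List ℕ) :=
  (.node [99,95,101] (.node [96,100,94,1] (.node [94,101,100,98] (.node [92,87,1] (.node [92,101,100,87] (.node [87,100,95,93] (.node [101,93,96,1] .nil .nil) (.node [91,100,86] .nil .nil)) (.node [88,96] (.node [93,100,98,91] .nil .nil) (.node [100,99,95] .nil .nil))) (.node [101,98,100,91] (.node [95,96,100,91] (.node [99,101,92,1] .nil .nil) (.node [92,100,96] .nil .nil)) (.node [92,93,100,86] (.node [100,92,99,93] .nil .nil) (.node [101,100,89] .nil .nil)))) (.node [93,94,91] (.node [100,101,98,95] (.node [95,96,100] (.node [102,97,93,1] .nil .nil) (.node [100,98,89,87] .nil .nil)) (.node [90,98,100] (.node [99,101,96,100] .nil .nil) (.node [96,101,95] .nil .nil))) (.node [100,101,95,91] (.node [101,100,98,91] (.node [101,99] .nil .nil) (.node [98,101,99,88] .nil .nil)) (.node [100,102,98,95] (.node [95,100] .nil .nil) (.node [93,101,100,1] .nil .nil))))) (.node [98,93,1] (.node [95] (.node [90,100] (.node [100,86] (.node [102,100,88,96]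 .nil .nil) (.node [98,100,91,96] .nil .nil)) (.node [98,100,92,101] (.node [98,100,99] .nil .nil) (.node [100,94,101,95] .nil .nil))) (.node [102,98,100,99] (.node [95,93,100] (.node [94,96,100,88] .nil .nil) (.node [102,94,95] .nil .nil)) (.node [102,96,93] (.node [100,102,95,87] .nil .nil) (.node [98,93,94] .nil .nil)))) (.node [93,92,1] (.node [100,95,93,87] (.node [99,102,100,88] (.node [102,97,93] .nil .nil) (.node [94,102,99] .nil .nil)) (.node [93,92,95] (.node [100,101,95] .nil .nil) (.node [102,95,98,1] .nil .nil))) (.node [100,101,98,91] (.node [93,99,97] (.node [93,101,96,91] .nil .nil) (.node [101,98,92,1] .nil .nil)) (.node [99,98,101] (.node [99,101,93] .nil .nil) (.node [102,99,93,86] .nil .nil)))))) (.node [92,98,96] (.node [100,102,91] (.node [96,101,89] (.node [93,99,91,86] (.node [98,102,88] (.node [99,98,92] .nil .nil) (.node [101,99,100,88] .nil .nil)) (.node [98,101,100,87] (.node [98,102,100,92] .nil .nil) (.node [93,100,101] .nil .nil))) (.node [92,101,99] (.node [94,101,100,99]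 (.node [102,96,91] .nil .nil) (.node [100,97] .nil .nil)) (.node [91,99,101,100] (.node [88,94,102] .nil .nil) (.node [102,96,100] .nil .nil)))) (.node [94,88,1] (.node [97,100,101] (.node [102,100,95,1] (.node [102,101,95,87] .nil .nil) (.node [94,92,87] .nil .nil)) (.node [92,101,98] (.node [96,100,91,1] .nil .nil) (.node [91,100,95,89] .nil .nil))) (.node [102,100,91] (.node [99,102,100,91] (.node [100,92,1] .nil .nil) (.node [98,95,87] .nil .nil)) (.node [98,99,100,89] (.node [99,99] .nil .nil) (.node [100,98,97,93] .nil .nil))))) (.node [94] (.node [96,102,100,91] (.node [99,97,100] (.node [98,94,93] (.node [101,96,92] .nil .nil) (.node [92,100,98,93] .nil .nil)) (.node [102,100,86] (.node [102,100,99,87] .nil .nil) (.node [99,100,94] .nil .nil))) (.node [94,97] (.node [88,98,100,89] (.node [87,100,101,96] .nil .nil) (.node [96,95,101] .nil .nil)) (.node [98,88,100,93] (.node [97,98,101,87] .nil .nil) (.node [90,101,98] .nil .nil)))) (.node [95,86,1] (.node [99,1] (.node [99,99,1] (.node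 [98,89] .nil .nil) (.node [95,97,101,86] .nil .nil)) (.node [100,99,1] (.node [1] .nil .nil) (.node [91,95,87] .nil .nil))) (.node [99,100,102] (.node [96,88] (.node [101,96,95] .nil .nil) (.node [102,100,96,1] .nil .nil)) (.node [101,98,93] (.node [100,98,96,1] .nil .nil) (.node [94,101,91] .nil .nil)))))))

/-- A part. -/
noncomputable def sylWords0_8 : Arr (List ℕ) :=
  (.node [96,100,102,88] (.node [100,98,96,87] (.node [101,92,86] (.node [99,100,86] (.node [100,98,102,99] (.node [93,98,88] (.node [88,98,100] .nil .nil) (.node [101,100,96,87] .nil .nil)) (.node [100,100,100,1] (.node [99,99,88] .nil .nil) (.node [95,101,92] .nil .nil))) (.node [92,101,100,98] (.node [97,102,95] (.node [100,96,91,1] .nil .nil) (.node [91,101,95] .nil .nil)) (.node [94,96,100,86] (.node [102,96,100,87] .nil .nil) (.node [98,93,95] .nil .nil)))) (.node [98,88,1] (.node [102,89] (.node [102,96,91,86] (.node [98,101,100,89] .nil .nil) (.node [100,92,98,86] .nil .nil)) (.node [100,94,86,1] (.node [95,101,86]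 .nil .nil) (.node [97,101,101] .nil .nil))) (.node [93,86,102] (.node [94,101,98] (.node [88,94,101] .nil .nil) (.node [98,96,88] .nil .nil)) (.node [99,101,89,1] (.node [96,91,93] .nil .nil) (.node [92,93,95] .nil .nil))))) (.node [99,91,89] (.node [98,101,93,88] (.node [91,93,87] (.node [96,98,86,1] (.node [99,87,101] .nil .nil) (.node [101,93,89] .nil .nil)) (.node [99,97,101,86] (.node [96,99,100,86] .nil .nil) (.node [100,101,98,94] .nil .nil))) (.node [102,93,100,88] (.node [94,95,89] (.node [98,93,100,91] .nil .nil) (.node [96,91,100] .nil .nil)) (.node [98,102,97] (.node [102,101,91] .nil .nil) (.node [102,100,93,86] .nil .nil)))) (.node [102,100,100] (.node [98,101,91] (.node [99,91] (.node [99,99,94] .nil .nil) (.node [100,99,89,1] .nil .nil)) (.node [95,100,96] (.node [101,96,88] .nil .nil) (.node [96,102,93,87] .nil .nil))) (.node [92,98,1] (.node [102,93,87] (.node [94,100,99] .nil .nil) (.node [101,96,100,91] .nil .nil)) (.node [99,100,91,93] (.node [99,89,101] .nil .nil) (.node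 [93,96,98] .nil .nil)))))) (.node [102,92] (.node [90,102,99,93] (.node [102,98,100,93] (.node [91,87] (.node [98,100,93,86] (.node [100,95,102,93] .nil .nil) (.node [98,93,101,88] .nil .nil)) (.node [92,100,96,1] (.node [100,98,101,89] .nil .nil) (.node [100,98,86] .nil .nil))) (.node [95,100,101,99] (.node [98,97] (.node [95,100,93,86] .nil .nil) (.node [100,100,100] .nil .nil)) (.node [87,100,95] (.node [101,99,101] .nil .nil) (.node [100,95,86,1] .nil .nil)))) (.node [102,99,93] (.node [91,99,87] (.node [96,101,100,88] (.node [89,100,1] .nil .nil) (.node [100,93,92,95] .nil .nil)) (.node [98,102] (.node [100,86,102,98] .nil .nil) (.node [89,102,96,100] .nil .nil))) (.node [97,100,93] (.node [100,91,86] (.node [101,99,100,1] .nil .nil) (.node [100,102,99] .nil .nil)) (.node [99,101,86] (.node [91,98,93] .nil .nil) (.node [95,94,102] .nil .nil))))) (.node [92,95,1] (.node [95,92,88] (.node [94,88] (.node [100,87] (.node [102,96,91,100] .nil .nil) (.node [93,98,91] .nil .nil)) (.node [100,99,96,88]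 (.node [100,89,1] .nil .nil) (.node [102,100,95,91] .nil .nil))) (.node [100,98,102,89] (.node [95,100,86] (.node [92,95,101] .nil .nil) (.node [91,98,100] .nil .nil)) (.node [93,95] (.node [102,100,92] .nil .nil) (.node [98,93,88] .nil .nil)))) (.node [98,100,98] (.node [99,98,86] (.node [102,100,98] (.node [95,101,100] .nil .nil) (.node [92,95,87] .nil .nil)) (.node [100,99,101,86] (.node [100,92,95,101] .nil .nil) (.node [100,97,101,86] .nil .nil))) (.node [93,89] (.node [95,100,89,1] (.node [97,93,100,86] .nil .nil) (.node [98,92,98] .nil .nil)) (.node [95,100,102] (.node [96,92,100,1] .nil .nil) (.node [96,1] .nil .nil)))))))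

/-- A part. -/
noncomputable def sylWords0_9 : Arr (List ℕ) :=
  (.node [101,95,100,94] sylWords0_7 sylWords0_8)

/-- A part. -/
noncomputable def sylWords0_10 : Arr (List ℕ) :=
  (.node [99,92,101] (.node [102,100,95] (.node [95,100,101,96] (.node [102,98] (.node [98,100] (.node [101,100,96,95] (.node [89,100,102] .nil .nil) (.node [93,101,91] .nil .nil)) (.node [100,101,93,94] (.node [92,100,99,1] .nil .nil) (.node [98,101,89] .nil .nil))) (.node [89,94,93] (.node [102,101,95] (.node [88,99,100,87] .nil .nil) (.node [98,93,94,86] .nil .nil)) (.node [88,1] (.node [99,100,93,87] .nil .nil) (.node [102,100,99] .nil .nil)))) (.node [100,98,99] (.node [92,100,99] (.node [94,101,86] (.node [96,93] .nil .nil) (.node [91,101,86] .nil .nil)) (.node [89,98,102] (.node [100,93,95] .nil .nil) (.node [98,91,89] .nil .nil))) (.node [99,100,101,95] (.node [101,96,91] (.node [98,99,101] .nil .nil) (.node [100,89,101] .nil .nil)) (.node [99,96,87] (.node [99,100,101,92] .nil .nil) (.node [97,102,100] .nil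 .nil))))) (.node [102,96,87] (.node [100,94,88] (.node [101,94] (.node [93,102,98,87] (.node [89,101] .nil .nil) (.node [99,98,101,87] .nil .nil)) (.node [101,99,94] (.node [98,95,89] .nil .nil) (.node [97,101,100,98] .nil .nil))) (.node [101,95,96,1] (.node [95,101,93] (.node [98,102,100,1] .nil .nil) (.node [100,99,101,89] .nil .nil)) (.node [101,93,95] (.node [91,102,99] .nil .nil) (.node [95,99,87] .nil .nil)))) (.node [100,101,94,86] (.node [100,91,93] (.node [100,97,102] (.node [93,94,87] .nil .nil) (.node [98,102,100,89] .nil .nil)) (.node [94,92,1] (.node [96,100,94] .nil .nil) (.node [100,102,96] .nil .nil))) (.node [93,94,1] (.node [99,102,96] (.node [89,94,1] .nil .nil) (.node [96,91,1] .nil .nil)) (.node [101,95,88] (.node [96,100,92,1] .nil .nil) (.node [97,102,88] .nil .nil)))))) (.node [94,100,101] (.node [95,98,88] (.node [89,102,98,1] (.node [102,98,88] (.node [100,101,98,1] (.node [102,96,100,1] .nil .nil) (.node [100,95,99,93] .nil .nil)) (.node [99,99,96] (.node [97,101,94]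 .nil .nil) (.node [100,95,96,87] .nil .nil))) (.node [96,102,94,86] (.node [98,96,101,91] (.node [93,88,86] .nil .nil) (.node [98,101,97] .nil .nil)) (.node [101,92,1] (.node [97,101,95,86] .nil .nil) (.node [99,100,101,88] .nil .nil)))) (.node [100,98,95] (.node [92,98,91] (.node [97,93,89] (.node [98,99,100,91] .nil .nil) (.node [96,101,91] .nil .nil)) (.node [100,86,102,93] (.node [93,102,100,1] .nil .nil) (.node [100,89,98] .nil .nil))) (.node [94,100,102,98] (.node [101,88] (.node [101,99,88,100] .nil .nil) (.node [100,94,95,86] .nil .nil)) (.node [96,98,87] (.node [100,98,96,89] .nil .nil) (.node [88,98,96] .nil .nil))))) (.node [89,102,100,98] (.node [99,93,1] (.node [98,102,100,91] (.node [88,102,98,86] (.node [95,101,89] .nil .nil) (.node [93,98,100,94] .nil .nil)) (.node [98,94] (.node [93,100,92] .nil .nil) (.node [99,102,100,89] .nil .nil))) (.node [102,100,93,95] (.node [94,101,92] (.node [90,100,88] .nil .nil) (.node [98,101,100,88] .nil .nil)) (.node [102,102,102,88] (.node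 [102,95] .nil .nil) (.node [90,93,98,91] .nil .nil)))) (.node [93,95,101,86] (.node [102,96,100,91] (.node [102,100,99,89] (.node [98,100,91,1] .nil .nil) (.node [100,102,95,91] .nil .nil)) (.node [99,102,89,1] (.node [95,101,100,86] .nil .nil) (.node [101,94,86] .nil .nil))) (.node [86,102,98] (.node [98,102,89] (.node [98,91,96] .nil .nil) (.node [95,89,94] .nil .nil)) (.node [101,99,93,87] (.node [99,93,91] .nil .nil) (.node [96] .nil .nil)))))))

/-- A part. -/
noncomputable def sylWords0_11 : Arr (List ℕ) :=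
  (.node [95,99,99] (.node [98,102,92] (.node [101,100,94,1] (.node [99,87] (.node [92,87] (.node [93,95,89] (.node [94,96,100,1] .nil .nil) (.node [102,95,100,91] .nil .nil)) (.node [95,100,89] (.node [99,100,101,95,1] .nil .nil) (.node [95,96] .nil .nil))) (.node [100,102,95,96] (.node [97,101,96,91] (.node [98,101,99] .nil .nil) (.node [99,102,100] .nil .nil)) (.node [100,99,91] (.node [89,87,1] .nil .nil) (.node [100,97,1] .nil .nil)))) (.node [94,86] (.node [98,95,92] (.node [100,102,95] (.node [93,96,98,1] .nil .nil) (.node [99,88,101] .nil .nil)) (.node [91,98,100,1] (.node [96,95,100,87] .nil .nil) (.node [96,92,91] .nil .nil))) (.node [90,99,101] (.node [100,99,101,88] (.node [101,94,95] .nil .nil) (.node [99,98,100,89] .nil .nil)) (.node [87,101] (.node [100,98,99,1] .nil .nil) (.node [93,98,87] .nil .nil))))) (.node [96,95,93] (.node [94,101,100,86] (.node [95,89,86] (.node [96,92,100,95] (.node [100,101,96,1] .nil .nil) (.node [95,93,102,100] .nil .nil)) (.node [99,95] (.node [100,102,88]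 .nil .nil) (.node [91,89,102] .nil .nil))) (.node [96,95,1] (.node [100,95,1] (.node [99,101,97] .nil .nil) (.node [95,94,88] .nil .nil)) (.node [98,101,93,1] (.node [101,96,100,94] .nil .nil) (.node [95,97,102] .nil .nil)))) (.node [91,99,1] (.node [98,99,100,92] (.node [93,98,86,1] (.node [95,100,92,1] .nil .nil) (.node [91,95,97] .nil .nil)) (.node [97,96,101,91] (.node [97,102,96,87] .nil .nil) (.node [100,91,87] .nil .nil))) (.node [102,88,1] (.node [102,98,100,89] (.node [99,99,100] .nil .nil) (.node [101,98,100,89] .nil .nil)) (.node [100,101,91,89] (.node [99,102] .nil .nil) (.node [100,91,98] .nil .nil)))))) (.node [95,89,1] (.node [98,91,100] (.node [99,101,100] (.node [101,95,100,86] (.node [98,96] (.node [93,94,98,87] .nil .nil) (.node [101,93,100,98] .nil .nil)) (.node [91,100,102,95] (.node [100,102,96,93] .nil .nil) (.node [98,100,94] .nil .nil))) (.node [100,101,91,93] (.node [93,101,86] (.node [91,95,86] .nil .nil) (.node [101,86] .nil .nil)) (.node [93,99,95] (.node [101,102]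 .nil .nil) (.node [100,97,93] .nil .nil)))) (.node [99,98,100,1] (.node [98,99,100,86] (.node [94,93] (.node [91,95,100] .nil .nil) (.node [98,94,88,1] .nil .nil)) (.node [100,99,87] (.node [101,100,98] .nil .nil) (.node [98,94,88] .nil .nil))) (.node [100,96,95,1] (.node [95,97] (.node [95,96,100,88] .nil .nil) (.node [96,102,100,96] .nil .nil)) (.node [97,98,102] (.node [93,101,100,91] .nil .nil) (.node [100,99,101,87] .nil .nil))))) (.node [98,99,100] (.node [93,101,100,86] (.node [95,92] (.node [99,88,100] (.node [95,100,91,89] .nil .nil) (.node [100,94] .nil .nil)) (.node [96,100,101,86] (.node [89,102,95] .nil .nil) (.node [100,94,101] .nil .nil))) (.node [97,102,99] (.node [95,89,87,1] (.node [100,93,86] .nil .nil) (.node [99,100] .nil .nil)) (.node [101,95,92] (.node [101,91,89] .nil .nil) (.node [95,102] .nil .nil)))) (.node [94,1] (.node [92,93,96] (.node [88,96,93] (.node [97,101,96] .nil .nil) (.node [102,100,98,95] .nil .nil)) (.node [94,92,86] (.node [97,102,100,95] .nil .nil)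 (.node [102,95,93] .nil .nil))) (.node [100,93,94] (.node [98,95,93] (.node [101,89] .nil .nil) (.node [96,99,99] .nil .nil)) (.node [91,100,101] (.node [101,93,94] .nil .nil) (.node [102,93,99,87] .nil .nil)))))))

/-- A part. -/
noncomputable def sylWords0_12 : Arr (List ℕ) :=
  (.node [102,102,95,87] sylWords0_10 sylWords0_11)

/-- A part. -/
noncomputable def sylWords0_13 : Arr (List ℕ) :=
  (.node [101,101] sylWords0_9 sylWords0_12)

/-- A part. -/
noncomputable def sylWords0_14 : Arr (List ℕ) :=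
  (.node [100,96,101,86] sylWords0_6 sylWords0_13)

/-- A part. -/
noncomputable def sylWords0_15 : Arr (List ℕ) :=
  (.node [98,100,91] (.node [102,100,93] (.node [88,101,86] (.node [98,100,91,93] (.node [101,88,98,1] (.node [96,92,93,1] (.node [98,100,102,91] .nil .nil) (.node [98,97,1] .nil .nil)) (.node [89,100,95] (.node [97,1] .nil .nil) (.node [93,92,88] .nil .nil))) (.node [97,101,86] (.node [92,91] (.node [93,100,101,86] .nil .nil) (.node [95,93,88] .nil .nil)) (.node [102,95,101] (.node [95,1] .nil .nil) (.node [102,98,91] .nil .nil)))) (.node [91,98,100,87] (.node [95,94,101,88] (.node [97,89] (.node [102,98,100,94] .nil .nil) (.node [99,94,96] .nil .nil)) (.node [90,93,94] (.node [98,101,98,88] .nil .nil) (.node [102,100,88] .nil .nil))) (.node [101,99,91,86] (.node [97,101,88] (.node [102,95,100,86] .nil .nil) (.node [100,102,93,86] .nil .nil)) (.node [94,102,95,86] (.node [99,89,87] .nil .nil) (.node [99,101,87] .nil .nil))))) (.node [96,99,100] (.node [96,97,100,86] (.node [91,98,1]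 (.node [88,98,91] (.node [94,102,95] .nil .nil) (.node [102,101,92] .nil .nil)) (.node [101,99,93] (.node [93,99,91] .nil .nil) (.node [102,96,93,1] .nil .nil))) (.node [93,102,96] (.node [98,98,96] (.node [96,98,86] .nil .nil) (.node [96,100,102,91,1] .nil .nil)) (.node [98,100,102,88] (.node [101,88,99] .nil .nil) (.node [100,93,89] .nil .nil)))) (.node [100,96,95] (.node [102,88,101] (.node [92,101,88] (.node [99,101,100,93] .nil .nil) (.node [94,100,95,101] .nil .nil)) (.node [100,94,96] (.node [101,96,1] .nil .nil) (.node [102,95,100,94] .nil .nil))) (.node [90,101,93] (.node [95,100,93,89] (.node [96,100,102,98] .nil .nil) (.node [100,91,101] .nil .nil)) (.node [98,100,102,89] (.node [100,102] .nil .nil) (.node [98,102,100,86] .nil .nil)))))) (.node [100,91,96] (.node [102,98,88,86] (.node [101,95,100,1] (.node [98,100,96] (.node [96,92,101,100] (.node [100,96,87] .nil .nil) (.node [95,102,93] .nil .nil)) (.node [94,102,99,91] (.node [102,99,92,93] .nil .nil) (.node [88,99,102,89] .nil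 .nil))) (.node [100,102,94,95] (.node [91,95,101] (.node [95,102,100,91] .nil .nil) (.node [91,98,86] .nil .nil)) (.node [86,102,92] (.node [87,100,101,98] .nil .nil) (.node [92,98,101] .nil .nil)))) (.node [100,93,98,87] (.node [99,89,102] (.node [96,102,88] (.node [100,100,100,86] .nil .nil) (.node [100,98,93] .nil .nil)) (.node [102,100,89] (.node [96,98,88] .nil .nil) (.node [96,94] .nil .nil))) (.node [88,102,98] (.node [88,102] (.node [89,98,91] .nil .nil) (.node [98,96,100,89] .nil .nil)) (.node [93,96,1] (.node [100,92,98] .nil .nil) (.node [89,88,94] .nil .nil))))) (.node [93,98,100,86] (.node [91,102,95] (.node [98,99,89] (.node [93,92,100] (.node [95,100,101] .nil .nil) (.node [87,94] .nil .nil)) (.node [102,88,98,91] (.node [94,101,95,86] .nil .nil) (.node [99,98,1] .nil .nil))) (.node [99,100,95,93] (.node [98,99,95] (.node [93,102,95,1] .nil .nil) (.node [101,100] .nil .nil)) (.node [91,89] (.node [102,92,100,96] .nil .nil) (.node [92,101,100,1] .nil .nil)))) (.node [96,97,100,1]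 (.node [100,95,92] (.node [98,97,100] (.node [100,89,94,1] .nil .nil) (.node [100,101,99,1] .nil .nil)) (.node [99,98,92,87] (.node [98,100,99,96] .nil .nil) (.node [101,100,102] .nil .nil))) (.node [91,102] (.node [89,100,95,1] (.node [100,102,88,1] .nil .nil) (.node [101,98,99] .nil .nil)) (.node [102,89,100,93] (.node [95,93,98] .nil .nil) (.node [102,92,100,98] .nil .nil)))))))

/-- A part. -/
noncomputable def sylWords0_16 : Arr (List ℕ) :=
  (.node [95,100,102,91] (.node [102,99,91] (.node [100,99,102,88] (.node [94,93,95] (.node [91,102,89] (.node [100,93,91] (.node [87,94,93] .nil .nil) (.node [94,98,102] .nil .nil)) (.node [95,102,101,88] (.node [100,98,89] .nil .nil) (.node [96,102,100] .nil .nil))) (.node [97,101,97] (.node [100,101,96,92] (.node [99,99,95] .nil .nil) (.node [96,102,100,94] .nil .nil)) (.node [95,94,89] (.node [95,102,88] .nil .nil) (.node [100,93,94,95] .nil .nil)))) (.node [100,91] (.node [99,101,100,91] (.node [101,91,95,100] (.node [102,93,96,87] .nil .nil)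 (.node [99,96] .nil .nil)) (.node [98,86] (.node [96,100,102,92] .nil .nil) (.node [98,96,100,1] .nil .nil))) (.node [100,101,95,96] (.node [102,100,93,87] (.node [101,98,100,86] .nil .nil) (.node [99,100,88] .nil .nil)) (.node [101,93,100] (.node [99,100,98,86] .nil .nil) (.node [100,88,99] .nil .nil))))) (.node [95,100,91] (.node [100,102,99,91] (.node [95,99,100] (.node [96,100,94,86] (.node [93,101,100] .nil .nil) (.node [100,96,101,95] .nil .nil)) (.node [101,89,100] (.node [98,93,86,1] .nil .nil) (.node [101,93] .nil .nil))) (.node [101,93,98,88] (.node [96,100,91] (.node [92,97,1] .nil .nil) (.node [91,95,89] .nil .nil)) (.node [93,102,100,99] (.node [100,98,99,87] .nil .nil) (.node [98,101,96] .nil .nil)))) (.node [100,102,98,1] (.node [102,96,100,86] (.node [95,89,100,91] (.node [95,100,96,1] .nil .nil) (.node [93,95,87] .nil .nil)) (.node [93,89,87] (.node [95,102,100,89] .nil .nil) (.node [98,101,90,100] .nil .nil))) (.node [92,100,94] (.node [100,101,98,89] (.node [99,95,96] .nil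 .nil) (.node [98,88,102] .nil .nil)) (.node [95,88,1] (.node [97,100,102] .nil .nil) (.node [99,89,100] .nil .nil)))))) (.node [99,101,91,100] (.node [98,101,89,100] (.node [91,101,89] (.node [93,100,98,97] (.node [94,89,1] (.node [96,94,101,86] .nil .nil) (.node [101,100,96,91] .nil .nil)) (.node [99,98,87] (.node [96,92,101] .nil .nil) (.node [91,93,1] .nil .nil))) (.node [101,100,100] (.node [100,94,97] (.node [92,99,93] .nil .nil) (.node [93,98,91,87] .nil .nil)) (.node [94,99,89] (.node [99,88,100,87] .nil .nil) (.node [96,92] .nil .nil)))) (.node [98,102,100] (.node [100,96,98] (.node [101,92,95] (.node [95,96,87] .nil .nil) (.node [93,96] .nil .nil)) (.node [92,102,96,100] (.node [89,94,102] .nil .nil) (.node [86,102,95] .nil .nil))) (.node [96,93,95] (.node [98,94,91] (.node [94,101,95] .nil .nil) (.node [98,94,101,86] .nil .nil)) (.node [94,100,101,88] (.node [97,100,93,86] .nil .nil) (.node [102,99,100,91] .nil .nil))))) (.node [100,99,93,87] (.node [96,100,97,1] (.node [93,100,98,87]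 (.node [91,98] (.node [98,88,101] .nil .nil) (.node [100,93,88] .nil .nil)) (.node [93,98,92] (.node [96,95,87] .nil .nil) (.node [102,95,98] .nil .nil))) (.node [91,101,99] (.node [97,99,87] (.node [102,96,100,94] .nil .nil) (.node [91,93,94] .nil .nil)) (.node [102,102,100] (.node [93,99,102] .nil .nil) (.node [99,99,100,87] .nil .nil)))) (.node [98,93,91] (.node [100,96,92] (.node [93,102,88] (.node [96,101,86] .nil .nil) (.node [96,100,88] .nil .nil)) (.node [89,102] (.node [102,91,96] .nil .nil) (.node [99,86,102] .nil .nil))) (.node [98,100,92,91] (.node [90,96] (.node [99,95,93] .nil .nil) (.node [100,95,96] .nil .nil)) (.node [102,99,88] (.node [94,91,95] .nil .nil) (.node [100,92,95] .nil .nil)))))))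

/-- A part. -/
noncomputable def sylWords0_17 : Arr (List ℕ) :=
  (.node [102,96,92] sylWords0_15 sylWords0_16)

/-- A part. -/
noncomputable def sylWords0_18 : Arr (List ℕ) :=
  (.node [102,96,100,98] (.node [100,102,96,87] (.node [97,102] (.node [100,92,101] (.node [93,94] (.node [101,93,92,1] (.node [97,99,101] .nil .nil) (.node [100,101,98,92,1] .nil .nil)) (.node [97,101,98] (.node [98,96,91] .nil .nil) (.node [99,102,100,95] .nil .nil))) (.node [100,98,89,1] (.node [93,100,88] (.node [98,94,96] .nil .nil) (.node [89,100,93] .nil .nil)) (.node [100,98,99,96] (.node [96,98,92] .nil .nil) (.node [98,101,93] .nil .nil)))) (.node [91,102,102] (.node [98,96,91,1] (.node [101,100,98,86] (.node [100,93,95,92] .nil .nil) (.node [99,100,101,86] .nil .nil)) (.node [94,100,102,96] (.node [102,101,88] .nil .nil) (.node [92,100,1] .nil .nil))) (.node [101,95,94] (.node [100,91,101,95] (.node [100,98,102] .nil .nil) (.node [91,101,98,1] .nil .nil)) (.node [98,100,89] (.node [101,91,89,1] .nil .nil)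 (.node [99,102,89] .nil .nil))))) (.node [100,95,101,87] (.node [88,98,1] (.node [99,102,100,86] (.node [100,102,93] (.node [97,102,100,98] .nil .nil) (.node [102,100,95,93] .nil .nil)) (.node [100,98,101,92] (.node [100,94,95,1] .nil .nil) (.node [102,94,87] .nil .nil))) (.node [100,101,88] (.node [101,100,99,87] (.node [96,94,102] .nil .nil) (.node [86,102] .nil .nil)) (.node [102,99,100,89] (.node [100,101,96,98] .nil .nil) (.node [89,100] .nil .nil)))) (.node [102,98,86] (.node [92,98,93] (.node [99,101] (.node [88,100,98] .nil .nil) (.node [96,102,93,88] .nil .nil)) (.node [100,98,93,87] (.node [96,98,1] .nil .nil) (.node [101,99,98] .nil .nil))) (.node [98,100,1] (.node [96,101,100,91,1] (.node [98,100,93] .nil .nil) (.node [100,96,98,86] .nil .nil)) (.node [96,102,100,1] (.node [91,95,94] .nil .nil) (.node [102,100,98,92] .nil .nil)))))) (.node [99,102,88,1] (.node [100,95,94] (.node [100,91,102,89] (.node [91,102,100] (.node [94,101,88] (.node [98,102,91] .nil .nil) (.node [89,1] .nil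 .nil)) (.node [98,100,99,89] (.node [101,100,98,87] .nil .nil) (.node [92,93,1] .nil .nil))) (.node [95,101,100,91] (.node [93,102,100] (.node [100,91,98,86] .nil .nil) (.node [96,101,91,100] .nil .nil)) (.node [100,99,90,102] (.node [100,102,99,87] .nil .nil) (.node [101,91,1] .nil .nil)))) (.node [96,93,98,1] (.node [100,89] (.node [95,100,99] (.node [102,101,94,86] .nil .nil) (.node [100,101,95,94] .nil .nil)) (.node [99,102,91,89] (.node [99,102,92,86] .nil .nil) (.node [99,96,88] .nil .nil))) (.node [102,92,1] (.node [93,102,100,98] (.node [95,102,93,86] .nil .nil) (.node [97,99,91] .nil .nil)) (.node [96,91,100,1] (.node [91,93,96] .nil .nil) (.node [99,100,88,87] .nil .nil))))) (.node [97,101] (.node [100,99,98,92] (.node [101,96,93,1] (.node [100,102,91,1] (.node [96,102,88,100] .nil .nil) (.node [87,1] .nil .nil)) (.node [100,1] (.node [98,91,93] .nil .nil) (.node [102,94,89] .nil .nil))) (.node [102,102,101,88] (.node [102,100,98,91] (.node [98,91,87] .nil .nil) (.node [99,98,102]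 .nil .nil)) (.node [98,89,100,102] (.node [96,100,102] .nil .nil) (.node [88,100,93,87] .nil .nil)))) (.node [100,102,96,88] (.node [96,101,98] (.node [98,93,101,86] (.node [100,100] .nil .nil) (.node [96,101,91,1] .nil .nil)) (.node [94,101,100] (.node [96,101] .nil .nil) (.node [99,102,100,1] .nil .nil))) (.node [102,100,94,86] (.node [96,100,102,91] (.node [100,96,92,1] .nil .nil) (.node [94,96,100] .nil .nil)) (.node [94,100,102,95] (.node [99,100,98] .nil .nil) (.node [100,92,95,1] .nil .nil)))))))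

/-- A part. -/
noncomputable def sylWords0_19 : Arr (List ℕ) :=
  (.node [102,98,95] (.node [102,93,99,100] (.node [101,98] (.node [95,89,100] (.node [96,100,95,87] (.node [100,99,97] (.node [98,99,93] .nil .nil) (.node [101,98,95] .nil .nil)) (.node [99,97] (.node [102,95,91] .nil .nil) (.node [97,100,1] .nil .nil))) (.node [101,93,88] (.node [98,100,101,92] (.node [102,93,100] .nil .nil) (.node [102,94,86] .nil .nil)) (.node [99,96,95] (.node [96,95,100,1] .nil .nil) (.node [95,96,89] .nil .nil)))) (.node [93,98,100] (.node [91,95,100,86] (.node [96,101,88] (.node [91,100,96] .nil .nil) (.node [94,102,100,1] .nil .nil)) (.node [100,100,86] (.node [89,86] .nil .nil) (.node [98,96,100] .nil .nil))) (.node [100,101,93] (.node [101,92] (.node [102,101,100,102] .nil .nil) (.node [98,95,93,86] .nil .nil)) (.node [100,99,102,89] (.node [91,102,101] .nil .nil) (.node [93,91,100,1] .nil .nil))))) (.node [97,93,100] (.node [102,93,98] (.node [96,100,97] (.node [86,1] (.node [95,97,101] .nil .nil)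 (.node [97,102,99,1] .nil .nil)) (.node [90,100,92] (.node [95,102,99] .nil .nil) (.node [88,99,101,100] .nil .nil))) (.node [97,100,86] (.node [99,92] (.node [97,101,100,88] .nil .nil) (.node [93,99,100,86] .nil .nil)) (.node [102,100,99,1] (.node [98,101,87] .nil .nil) (.node [100,101,96] .nil .nil)))) (.node [89,100,95,91] (.node [87,99,93] (.node [93,100,94,86] (.node [94,99,1] .nil .nil) (.node [96,100,94,89] .nil .nil)) (.node [98,101,100,86] (.node [94,102,100,95] .nil .nil) (.node [94,98,87] .nil .nil))) (.node [99,91,100,101] (.node [101,93,87] (.node [98,100,100] .nil .nil) (.node [102,93,86] .nil .nil)) (.node [101,98,97] (.node [100,97,101] .nil .nil) (.node [93,88] .nil .nil)))))) (.node [96,90,100] (.node [93,86,1] (.node [101,94,92] (.node [102,99,87] (.node [99,100,97] (.node [93,100,91,87] .nil .nil) (.node [102,91] .nil .nil)) (.node [101,96,91,1] (.node [95,91,101] .nil .nil) (.node [97,93,1] .nil .nil))) (.node [99,91,102] (.node [100,101,95,96,1] (.node [101,102,100] .nil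 .nil) (.node [89,100,99,102] .nil .nil)) (.node [100,92,93] (.node [100,96,98,88] .nil .nil) (.node [91,93,98] .nil .nil)))) (.node [101,101,93] (.node [102,101] (.node [100,98,1] (.node [95,98,87] .nil .nil) (.node [87,100,88] .nil .nil)) (.node [99,98,92,1] (.node [94,101] .nil .nil) (.node [88,100,87] .nil .nil))) (.node [93,92] (.node [96,89,100] (.node [92,97] .nil .nil) (.node [101,98,93,1] .nil .nil)) (.node [101,100,91,96] (.node [92,99,102] .nil .nil) (.node [102,89,86] .nil .nil))))) (.node [86,102,101] (.node [99,102,97] (.node [96,100,88,87] (.node [91,99,98] (.node [99,91,86] .nil .nil) (.node [98,1] .nil .nil)) (.node [102,95,86] (.node [100,101,96,93] .nil .nil) (.node [93,101,98] .nil .nil))) (.node [93,95,102,100] (.node [93,100,99] (.node [93,98,94,86] .nil .nil) (.node [98,99,87] .nil .nil)) (.node [100,99,102,95] (.node [99,102,100,92] .nil .nil) (.node [96,101,100] .nil .nil)))) (.node [98,100,93,89] (.node [100,93,95,87] (.node [100,95,93,89] (.node [95,100,101,93] .nil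 .nil) (.node [101,95,93] .nil .nil)) (.node [96,100,95,91] (.node [93,101,96] .nil .nil) (.node [101,99,97,100] .nil .nil))) (.node [93,98] (.node [96,98,100,89] (.node [100,99,102] .nil .nil) (.node [100,98,99,88] .nil .nil)) (.node [101,89,98] (.node [101,98,100] .nil .nil) (.node [98,102,100,88] .nil .nil)))))))

/-- A part. -/
noncomputable def sylWords0_20 : Arr (List ℕ) :=
  (.node [92,100,87] sylWords0_18 sylWords0_19)

/-- A part. -/
noncomputable def sylWords0_21 : Arr (List ℕ) :=
  (.node [98,101,94] sylWords0_17 sylWords0_20)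

/-- A part. -/
noncomputable def sylWords0_22 : Arr (List ℕ) :=
  (.node [97,100,101,95] (.node [96,98] (.node [93,100,94] (.node [101,95,100,87] (.node [101,99,100,95] (.node [99,100,97,93] (.node [100,102,92] .nil .nil) (.node [102,100,102] .nil .nil)) (.node [100,102,97] (.node [98,93,100,87] .nil .nil) (.node [99,92,101,100] .nil .nil))) (.node [96,92,100] (.node [100,94,1] (.node [102,87,100,95] .nil .nil) (.node [102,100,98,99] .nil .nil)) (.node [98,92,93,86] (.node [93,88,100] .nil .nil) (.node [99,102,95] .nil .nil)))) (.node [99,101,100,1] (.node [96,100,95] (.node [92,101] (.node [94,100,101,86] .nil .nil) (.node [93,101,95] .nil .nil)) (.node [100,98,87] (.node [100,89,98,102] .nil .nil) (.node [95,97,89] .nil .nil))) (.node [100,96,102] (.node [91,100,93] (.node [99,100,98,91] .nil .nil) (.node [98,93,94,1] .nil .nil)) (.node [97,94,95] (.node [102,100,96,89] .nil .nil) (.node [100,102,99,93] .nil .nil))))) (.node [100,96,102,88] (.node [93,91] (.node [100,102,98] (.node [98,92]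 (.node [98,99,96] .nil .nil) (.node [100,93,92] .nil .nil)) (.node [97,96,101] (.node [101,100,98,95] .nil .nil) (.node [95,97,1] .nil .nil))) (.node [100,93] (.node [99,100,91,1] (.node [101,97] .nil .nil) (.node [100,95,91] .nil .nil)) (.node [93,98,97] (.node [100,97,101,99] .nil .nil) (.node [102,100,96,88] .nil .nil)))) (.node [102,96,1] (.node [102,100,93,92] (.node [96,95,100,89] (.node [93,100,91,89] .nil .nil) (.node [92,93,98] .nil .nil)) (.node [95,94,101] (.node [97,102,95,86] .nil .nil) (.node [96,101,100,91] .nil .nil))) (.node [102,88] (.node [99,91,102,100] (.node [101,102,100,1] .nil .nil) (.node [101,95,93,86] .nil .nil)) (.node [100,99] (.node [94,96] .nil .nil) (.node [102,89,100] .nil .nil)))))) (.node [97,102,92] (.node [101,93,92] (.node [88,98,94] (.node [100,95,91,86] (.node [99,101,92] (.node [93,92,95,1] .nil .nil) (.node [98,101,86] .nil .nil)) (.node [101,100,99,1] (.node [88,100,98,93] .nil .nil) (.node [98,96,89] .nil .nil))) (.node [97,102,89] (.node [94,102,88]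 (.node [93,102] .nil .nil) (.node [98,92,86] .nil .nil)) (.node [99,98] (.node [102,96,91,1] .nil .nil) (.node [91,100,1] .nil .nil)))) (.node [93,92,98] (.node [92,100,95] (.node [102,99,91,1] (.node [101,91,100] .nil .nil) (.node [88,87,1] .nil .nil)) (.node [102,99,95] (.node [102,98,100,86] .nil .nil) (.node [89,101,91] .nil .nil))) (.node [101,92,93] (.node [97,95,101,87] (.node [97,88,100] .nil .nil) (.node [102,91,100,1] .nil .nil)) (.node [100] (.node [102,95,87,1] .nil .nil) (.node [95,93,89,100] .nil .nil))))) (.node [96,95,91] (.node [100,95,87] (.node [93,98,100,1] (.node [96,100,91,89] (.node [100,102,99,1] .nil .nil) (.node [94,102] .nil .nil)) (.node [95,101,100,93] (.node [99,100,102,88] .nil .nil) (.node [94,95,92] .nil .nil))) (.node [102,95,87] (.node [95,99,93] (.node [96,99,100,1] .nil .nil) (.node [101,95,100,93] .nil .nil)) (.node [91,100,89] (.node [96,92,87] .nil .nil) (.node [96,102,93,86] .nil .nil)))) (.node [99,98,89] (.node [95,91,100,86] (.node [101,95,91] (.node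 [102,96,93,87] .nil .nil) (.node [102,93,1] .nil .nil)) (.node [98,99] (.node [101,99,1] .nil .nil) (.node [96,95,93,87] .nil .nil))) (.node [94,101,97] (.node [102,93,95] (.node [96,93,102] .nil .nil) (.node [93,98,87,1] .nil .nil)) (.node [101,100,95,93] (.node [98,100,101,96] .nil .nil) (.node [99,101,88] .nil .nil)))))))

/-- A part. -/
noncomputable def sylWords0_23 : Arr (List ℕ) :=
  (.node [101,95,87] (.node [102,101,91,1] (.node [91,95] (.node [92,100,94,1] (.node [95,93,89] (.node [100,98,99,91] (.node [98,100,86] .nil .nil) (.node [96,93,91] .nil .nil)) (.node [102,98,91,86] (.node [97,95,101] .nil .nil) (.node [100,94,86] .nil .nil))) (.node [88,98,93,1] (.node [92,100,98] (.node [99,92,98,1] .nil .nil) (.node [95,102,101] .nil .nil)) (.node [91,100,102] (.node [101,100,93,87] .nil .nil) (.node [98,100,89,1] .nil .nil)))) (.node [98,93,101] (.node [93,98,100,87] (.node [102,96,94] (.node [94,99] .nil .nil) (.node [96,94,100] .nil .nil)) (.node [102,100,96] (.node [88,98,93] .nil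 .nil) (.node [99,101,100,87] .nil .nil))) (.node [93,95,98] (.node [102,96,100,95] (.node [97,100,101,96] .nil .nil) (.node [95,99,96] .nil .nil)) (.node [100,94,89] (.node [101,98,91] .nil .nil) (.node [101,98,94] .nil .nil))))) (.node [94,102,89] (.node [100,93,95,86] (.node [88,96,100,87] (.node [99,93,102] (.node [92,98,99] .nil .nil) (.node [96,102,100,88] .nil .nil)) (.node [97,100,95,94] (.node [99,91,1] .nil .nil) (.node [100,93,94,88] .nil .nil))) (.node [100,101,86] (.node [102,93,96,1] (.node [96,100,95,92] .nil .nil) (.node [93,102,98,1] .nil .nil)) (.node [98,92,87] (.node [90,98,91] .nil .nil) (.node [100,95,99,87] .nil .nil)))) (.node [101,98,100,93] (.node [98,100,86,102] (.node [102,100,94,96] (.node [95,88,86] .nil .nil) (.node [97,98,101] .nil .nil)) (.node [101,100,96,1] (.node [98,99,102] .nil .nil) (.node [95,100,86,1] .nil .nil))) (.node [93,95,92] (.node [88,99,101] (.node [91,93,88] .nil .nil) (.node [96,101,92] .nil .nil)) (.node [98,100,96,89] (.node [99,100,98,87]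 .nil .nil) (.node [102,98,87,1] .nil .nil)))))) (.node [98,100,92,93] (.node [98,94,86] (.node [94,102,97] (.node [100,94,99,1] (.node [96,98,100,91] (.node [98,91,100,86] .nil .nil) (.node [97,95,102,100] .nil .nil)) (.node [95,94] (.node [100,95] .nil .nil) (.node [99,93,100,91] .nil .nil))) (.node [102,94,93] (.node [91,1] (.node [93,102,98,100] .nil .nil) (.node [98,100,101] .nil .nil)) (.node [98,97,93] (.node [98,101,100,1] .nil .nil) (.node [100,99,95,1] .nil .nil)))) (.node [102,102,88] (.node [93,98,86] (.node [88,100,93] (.node [96,91] .nil .nil) (.node [100,98,93,86] .nil .nil)) (.node [96,89,1] (.node [100,95,93] .nil .nil) (.node [102,100,99,88] .nil .nil))) (.node [98,91,86] (.node [99,96,1] (.node [92,93,86] .nil .nil) (.node [100,95,93,92] .nil .nil)) (.node [95,94,96] (.node [101,89,1] .nil .nil) (.node [91,100,98,86] .nil .nil))))) (.node [93,101,88] (.node [101,99,100] (.node [101,90,100] (.node [99,100,86,1] (.node [101,91,100,98] .nil .nil) (.node [99,100,91] .nil .nil))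 (.node [101,96,93,91] (.node [102,100,93,88] .nil .nil) (.node [101,93,1] .nil .nil))) (.node [97,101,95] (.node [95,94,1] (.node [102,98,99] .nil .nil) (.node [96,92,100,87] .nil .nil)) (.node [99,94] (.node [93,101,95,100] .nil .nil) (.node [102,94,96] .nil .nil)))) (.node [102,90,96] (.node [100,99,98,87] (.node [100,96,89] (.node [92,102,99] .nil .nil) (.node [95,88,100] .nil .nil)) (.node [100,95,86] (.node [100,89,94] .nil .nil) (.node [96,98,94] .nil .nil))) (.node [89,98,87] (.node [96,100,89] (.node [93,100] .nil .nil) (.node [101,93,96] .nil .nil)) (.node [101,98,87] (.node [100,94,101,86] .nil .nil) (.node [101,98,92] .nil .nil)))))))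

/-- A part. -/
noncomputable def sylWords0_24 : Arr (List ℕ) :=
  (.node [101,95,98,1] sylWords0_22 sylWords0_23)

/-- A part. -/
noncomputable def sylWords0_25 : Arr (List ℕ) :=
  (.node [100,94,101,87] (.node [90,101,96] (.node [95,98,93] (.node [93,98,88,1] (.node [95,100,94,86] (.node [97,101,87] (.node [100,97,101,91] .nil .nil) (.node [94,87] .nil .nil)) (.node [92,98,86] (.node [100,93,98] .nil .nil) (.node [99,101,91,1] .nil .nil))) (.node [95,100,87] (.node [91] (.node [99,100,92] .nil .nil) (.node [102,93] .nil .nil)) (.node [97,93] (.node [98,101,96,88] .nil .nil) (.node [88,97,1] .nil .nil)))) (.node [99,100,92,101] (.node [99,101,100,89] (.node [102,98,1] (.node [92,99,91] .nil .nil) (.node [98,92,93,1] .nil .nil)) (.node [98,93,87] (.node [90,99,102] .nil .nil) (.node [95,87,1] .nil .nil))) (.node [95,96,100,89] (.node [100,102,96,1] (.node [101,88,96] .nil .nil) (.node [93,94,95] .nil .nil)) (.node [99,101,100,86] (.node [100,94,102,88] .nil .nil) (.node [99,100,1] .nil .nil)))))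 (.node [99,100,101] (.node [92,93,88] (.node [89,102,98] (.node [95,101,96] (.node [99,102,88,100] .nil .nil) (.node [96,102,95] .nil .nil)) (.node [100,97,101,96] (.node [100,94,95] .nil .nil) (.node [96,100,101,88] .nil .nil))) (.node [102,102,91,1] (.node [95,100,93] (.node [101,100,88] .nil .nil) (.node [95,100,94] .nil .nil)) (.node [95,96,100,92] (.node [95,101,100,1] .nil .nil) (.node [98,101,92,1] .nil .nil)))) (.node [95,91] (.node [101,95,96] (.node [102,89,1] (.node [98,101,92] .nil .nil) (.node [102,98,94,1] .nil .nil)) (.node [95,96,1] (.node [93,101] .nil .nil) (.node [98,97,93,1] .nil .nil))) (.node [102,92,97] (.node [102,102,95] (.node [91,102,95,1] .nil .nil) (.node [96,101,93,88] .nil .nil)) (.node [99,90,100] (.node [94,96,1] .nil .nil) (.node [95,102,100] .nil .nil)))))) (.node [97,101,91] (.node [99,100,102,91] (.node [100,98,99,89] (.node [101,100,94] (.node [93,101,87] (.node [98,87,1] .nil .nil) (.node [96,91,86] .nil .nil)) (.node [96,100,86] (.node [92,88] .nil .nil)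 (.node [101,98,88,1] .nil .nil))) (.node [96,101,100,86] (.node [96,98,100] (.node [100,101,92] .nil .nil) (.node [99,101,89] .nil .nil)) (.node [91,89,86] (.node [95,86] .nil .nil) (.node [93,92,86] .nil .nil)))) (.node [95,100,1] (.node [99,101,93,86] (.node [99,98,101,86] (.node [101,91,100,86] .nil .nil) (.node [94,101,98,1] .nil .nil)) (.node [95,99,96,1] (.node [95,93,101] .nil .nil) (.node [100,89,102,93] .nil .nil))) (.node [97,89,1] (.node [100,94,102] (.node [93,87] .nil .nil) (.node [99,94,92] .nil .nil)) (.node [91,102,92] (.node [92,91,95] .nil .nil) (.node [99,98,91] .nil .nil))))) (.node [95,89,100,1] (.node [96,90,100,88] (.node [93,87,1] (.node [101,100,94,86] (.node [96,101,100,1] .nil .nil) (.node [99,89] .nil .nil)) (.node [96,95,100,92] (.node [93,94,92,1] .nil .nil) (.node [93,102,100,86] .nil .nil))) (.node [93,94,92] (.node [96,100,92,101] (.node [100,98,102,88] .nil .nil) (.node [102,100,93,98] .nil .nil)) (.node [95,92,87] (.node [96,95,100] .nil .nil) (.node [99,100,95]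 .nil .nil)))) (.node [98,96,1] (.node [101,99,100,86] (.node [92,91,86] (.node [98,93,100,86] .nil .nil) (.node [101,94,89] .nil .nil)) (.node [101,94,88] (.node [102,100,93,89] .nil .nil) (.node [95,93,100,89] .nil .nil))) (.node [100,95,102] (.node [95,93,87] (.node [102,99,93,87] .nil .nil) (.node [98,93,87,1] .nil .nil)) (.node [102,88,96] (.node [100,101,98,92] .nil .nil) (.node [101,101,100,87] .nil .nil)))))))

/-- A part. -/
noncomputable def sylWords0_26 : Arr (List ℕ) :=
  (.node [100,96,91] (.node [100,92] (.node [88,99,100] (.node [100,99,101,94] (.node [93,89,1] (.node [93,94,88] (.node [96,100,95,89] .nil .nil) (.node [100,98,92] .nil .nil)) (.node [93,96,101] (.node [93,102,100,91] .nil .nil) (.node [101,100,95,87] .nil .nil))) (.node [101,93,98] (.node [100,96,95,93] (.node [94,100,102] .nil .nil) (.node [100,91,86,1] .nil .nil)) (.node [92,100,101] (.node [98,100,97,1] .nil .nil) (.node [92,98,87] .nil .nil)))) (.node [101,96,98] (.node [98,93,86] (.node [101,95,98] (.node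 [101,99,100,91] .nil .nil) (.node [101,96,100] .nil .nil)) (.node [98,101,98,1] (.node [94,101,89] .nil .nil) (.node [102,102,100,1] .nil .nil))) (.node [97,102,91] (.node [96,102,91] (.node [100,101,95,1] .nil .nil) (.node [101,100,91,1] .nil .nil)) (.node [95,92,87,1] (.node [89,100,93,95] .nil .nil) (.node [98,99,92] .nil .nil))))) (.node [100,101,94,89] (.node [102] (.node [101,88,100] (.node [93,100,101,95] (.node [101,100,95,1] .nil .nil) (.node [102,100,95,94] .nil .nil)) (.node [100,94,101,92] (.node [93,100,98] .nil .nil) (.node [93,99,100] .nil .nil))) (.node [96,100,95,1] (.node [93,101,102] (.node [95,93,100,86] .nil .nil) (.node [102,100,1] .nil .nil)) (.node [91,93,89] (.node [93,96,91] .nil .nil) (.node [94,92] .nil .nil)))) (.node [96,102,93] (.node [101,101,100] (.node [100,91,93,1] (.node [100,102,99,95] .nil .nil) (.node [99,95,1] .nil .nil)) (.node [88,94,93] (.node [91,99] .nil .nil) (.node [98,102,100,94] .nil .nil))) (.node [99,88] (.node [101,101,100,88] (.node [100,94,88,1]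 .nil .nil) (.node [93,101,100,99] .nil .nil)) (.node [101,98,89] (.node [102,102,91] .nil .nil) (.node [88] .nil .nil)))))) (.node [98,99,100,1] (.node [98,92,1] (.node [99,98,100] (.node [91,99,93,87] (.node [100,88,96] (.node [100,92,93,86] .nil .nil) (.node [101,91,95] .nil .nil)) (.node [101,96,100,1] (.node [101,98,100,1] .nil .nil) (.node [98,102,93] .nil .nil))) (.node [96,101,100,89] (.node [96,100,95,86] (.node [96,93,98] .nil .nil) (.node [100,91,95,89] .nil .nil)) (.node [100,88,94] (.node [100,96] .nil .nil) (.node [102,99,98] .nil .nil)))) (.node [96,100,101] (.node [101,98,99,100] (.node [89,94] (.node [100,93,101] .nil .nil) (.node [98,91,1] .nil .nil)) (.node [100,99,98,89] (.node [100,93,95,89] .nil .nil) (.node [98,91] .nil .nil))) (.node [101,98,86] (.node [90,102] (.node [98,88] .nil .nil) (.node [86,102,93] .nil .nil)) (.node [101,87] (.node [89] .nil .nil) (.node [88,100,95] .nil .nil))))) (.node [102,93,88] (.node [102,99,98,87] (.node [99,102,91] (.node [102,99] (.node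 [93,88,1] .nil .nil) (.node [96,100,101,98] .nil .nil)) (.node [100,94,89,1] (.node [98,100,99,1] .nil .nil) (.node [100,98,96,88] .nil .nil))) (.node [98,101,100,91] (.node [99,102,92] (.node [95,100,102,92] .nil .nil) (.node [92,95,93] .nil .nil)) (.node [95,94,86] (.node [94,95,86] .nil .nil) (.node [97,101,99] .nil .nil)))) (.node [96,100,87] (.node [96,100,92] (.node [93,88,102] (.node [93,86] .nil .nil) (.node [99,100,102,89] .nil .nil)) (.node [102,99,100,94] (.node [100,96,95,87] .nil .nil) (.node [100,96,101,93] .nil .nil))) (.node [88,99] (.node [91,100,89,1] (.node [96,95] .nil .nil) (.node [94,91] .nil .nil)) (.node [102,93,100,86] (.node [100,96,101,89] .nil .nil) (.node [99,102,93] .nil .nil)))))))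

/-- A part. -/
noncomputable def sylWords0_27 : Arr (List ℕ) :=
  (.node [93,100,86] sylWords0_25 sylWords0_26)

/-- A part. -/
noncomputable def sylWords0_28 : Arr (List ℕ) :=
  (.node [100,94,95,89] sylWords0_24 sylWords0_27)

/-- A part. -/
noncomputable def sylWords0_29 : Arr (List ℕ) :=
  (.node [93,102,95] sylWords0_21 sylWords0_28)

/-- A part. -/
noncomputable def sylWords0_30 : Arr (List ℕ) :=
  (.node [] sylWords0_14 sylWords0_29)

/-- The array. -/
noncomputable def sylWords0 : Arr (List ℕ) := sylWords0_30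

/-- A part. -/
noncomputable def sylWords1_0 : Arr (List ℕ) :=
  (.node [] (.node [103,104] (.node [104,108,104] (.node [106,108,107,90] (.node [106,103] (.node [108,107,106,90] (.node [107,108,103] (.node [108,107,104,103] .nil .nil) .nil) (.node [106,108,105] .nil .nil)) (.node [107,104,106] (.node [107,108,104] .nil .nil) (.node [107,103] .nil .nil))) (.node [107,106,105] (.node [107,105,106] (.node [108,104,107] .nil .nil) (.node [107,106,104] .nil .nil)) (.node [108,103,90] (.node [106,107] .nil .nil) (.node [107,105,90] .nil .nil)))) (.node [106,103,90] (.node [107,106] (.node [105,106,104] (.node [107,108] .nil .nil) (.node [104,107,103] .nil .nil)) (.node [108,106] (.node [106,107,90] .nil .nil) (.node [104] .nil .nil))) (.node [104,108] (.node [107,104,106,90] (.node [107,106,90] .nil .nil) (.node [107,103,90] .nil .nil)) (.node [106,108] (.node [108,104,90] .nil .nil) (.node [108,106,90] .nil .nil))))) (.node [108,107] (.node [108,105,103] (.node [106,104,107] (.node [106,104,103]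 (.node [108,90] .nil .nil) (.node [107,105,103,90] .nil .nil)) (.node [107,90] (.node [106,107,105] .nil .nil) (.node [106,107,108,103] .nil .nil))) (.node [107,108,106] (.node [107,105,103] (.node [103] .nil .nil) (.node [108,106,105,103] .nil .nil)) (.node [108,107,103] (.node [104,106,107] .nil .nil) (.node [108,104,105] .nil .nil)))) (.node [106,105] (.node [105,106,107] (.node [104,107,90] (.node [105,103] .nil .nil) (.node [108,104,106] .nil .nil)) (.node [108] (.node [107,106,108,104] .nil .nil) (.node [105,104,103] .nil .nil))) (.node [106,103,104] (.node [108,105,106] (.node [108,104,106,103] .nil .nil) (.node [107,105,104] .nil .nil)) (.node [103,90] (.node [108,106,107,104] .nil .nil) (.node [108,106,103] .nil .nil)))))) (.node [108,107,105] (.node [104,108,90] (.node [107,108,90] (.node [104,106,103] (.node [107,104,90] (.node [108,105] .nil .nil) (.node [108,104,107,103] .nil .nil)) (.node [108,103,104] (.node [107,104] .nil .nil) (.node [106,104,90] .nil .nil))) (.node [106,108,107]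 (.node [108,104,103] (.node [108,104] .nil .nil) (.node [107,106,108,90] .nil .nil)) (.node [106,108,90] (.node [90] .nil .nil) (.node [107,104,103] .nil .nil)))) (.node [106,107,108,90] (.node [108,106,107,90] (.node [105,103,90] (.node [105,90] .nil .nil) (.node [104,105,103] .nil .nil)) (.node [108,107,104] (.node [107,108,106,103] .nil .nil) (.node [107] .nil .nil))) (.node [108,106,107] (.node [108,105,106,103] (.node [105] .nil .nil) (.node [104,106,90] .nil .nil)) (.node [108,105,90] (.node [107,105] .nil .nil) (.node [104,108,107,103] .nil .nil))))) (.node [107,108,105] (.node [105,104] (.node [106,107,104] (.node [106,107,108] (.node [104,107] .nil .nil) (.node [107,108,104,103] .nil .nil)) (.node [106,108,104] (.node [106,90] .nil .nil) (.node [107,103,104] .nil .nil))) (.node [107,108,106,90] (.node [106,104] (.node [106,108,105,103] .nil .nil) (.node [108,106,105] .nil .nil)) (.node [104,108,107] (.node [105,106,103] .nil .nil) (.node [106,108,103] .nil .nil)))) (.node [108,107,106]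 (.node [106,105,103] (.node [106] (.node [104,105] .nil .nil) (.node [104,108,103] .nil .nil)) (.node [108,107,90] (.node [106,104,107,90] .nil .nil) (.node [107,106,108] .nil .nil))) (.node [105,106] (.node [104,106] (.node [104,103] .nil .nil) (.node [107,106,104,90] .nil .nil)) (.node [108,103] (.node [104,90] .nil .nil) (.node [104,108,106] .nil .nil)))))))

/-- The array. -/
noncomputable def sylWords1 : Arr (List ℕ) := sylWords1_0

/-- The base. -/
def sylBase : List ℕ := [3944,5]

/-- The levels. -/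
noncomputable def sylLevels : List Lv := [⟨2048, [1,86,87,88,89,90,91,92,93,94,95,96,97,98,99,100,101,102,103,104,105,106,107,108], sylWords0, []⟩,
  ⟨128, [90,103,104,105,106,107,108], sylWords1, []⟩]

/-- An element normalising the first. -/
def hLetter : ℕ := 59

/-- Members of a composition series. -/
def pcs : List ℕ := [1,86,87,88,89,90,91,92,93,94,95,96,97,98,99,100,101,102]

/-- Squares. -/
def pcSq : List (List ℕ) := [[],[],[],[],
  [],[],[0],[0],
  [1],[2,5],[],[0],
  [],[1,5,8,12],[3,4,5,6,8],[2,3,8],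
  [0,1,2,3,5,6,11],[0,3,5,7,8,11]]

/-- Conjugates. -/
def pcConj : List (List (List ℕ)) := [[],
  [[0]],
  [[0],[1]],
  [[0],[1],[2]],
  [[0],[1],[2],[3]],
  [[0],[1],[2],[3],[4]],
  [[0],[1],[2],[3],[4],[0,5]],
  [[0],[1],[2],[0,3],[4],[5],[6]],
  [[0],[1],[2],[3],[4],[1,5],[0,1,6],[2,7]],
  [[0],[1],[0,2],[0,1,3],[1,4],[0,5],[0,1,2,6],[7],[2,3,8]],
  [[0],[1],[2],[3],[4],[0,5],[0,6],[1,7],[0,8],[0,2,9]],
  [[0],[1],[2],[0,3],[4],[1,2,5],[1,2,6],[7],[1,8],[0,5,6,9],[1,10]],
  [[0],[1],[2],[1,3],[4],[5],[2,6],[1,7],[8],[1,2,5,9],[1,2,10],[2,4,11]],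
  [[0],[1],[1,2],[2,3],[1,4],[1,2,5],[2,3,6],[0,1,5,7],[1,4,8],[2,4,5,6,7,9],[3,4,10],[0,1,2,4,8,11],[2,4,12]],
  [[0],[1],[0,1,2],[0,3],[4],[1,2,5],[2,3,6],[1,2,5,7],[0,1,3,8],[3,5,6,9],[0,1,3,10],[0,3,4,5,6,8,11],[0,4,5,12],[0,2,4,6,7,12,13]],
  [[0],[1],[1,2],[0,1,3],[1,4],[0,1,2,5],[1,3,6],[0,2,5,7],[0,8],[1,3,5,6,9],[0,2,3,10],[0,1,8,11],[4,12],[1,2,3,5,12,13],[1,4,6,14]],
  [[0],[1],[0,2],[1,2,3],[1,4],[1,2,3,5],[2,3,6],[1,2,4,5,6,7],[2,4,8],[2,4,5,6,7,8,9],[0,4,10],[0,2,11],[0,3,4,8,12],[0,2,3,4,8,11,12,13],[0,2,3,6,7,10,12,14],[2,4,8,12,15]],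
  [[0],[0,1],[2],[0,2,3],[0,2,4],[1,2,3,5],[0,1,2,3,6],[0,1,4,5,6,7],[2,3,5,6,8],[0,2,3,4,8,9],[3,4,10],[0,2,4,11],[1,2,3,4,6,7,8,12],[0,1,5,8,9,11,13],[5,6,7,9,10,14],[0,1,2,4,6,7,8,9,15],[2,3,4,5,6,8,16]]]

/-- Generators of the Sylow subgroup. -/
def qs : List ℕ := [76,79,82,84,85]

/-- The generators in the members. -/
def qWords : List (List ℕ) := [[0,4,5,9,10,13,14],[0,1,2,4,6,11,12,16,17],[0,1,2,4,10,11,15],[1,5,6,8,17],
  [3,4,7,8,9,10,12,14,15]]

/-- The members in the generators. -/
def pcWords : List (List ℕ) := [[79,76,79,76,79,76,79,76],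
  [85,82,85,82],
  [85,76,85,79,76,76,79,76],
  [85,76,79,84,85,76,79,84],
  [76,76],
  [84,79,76,79,85,84,85,76],
  [79,82,79,76,79,76,82,79],
  [82,79,82,79,76,82,79,82,79,76],
  [79,84,82,84,84,84,79,76,82,76],
  [82,85,79,85,76,82,79,76],
  [76,84,82,76,84,85,79,82,85,79],
  [82,79,84,79,84,82],
  [85,76,79,82,85,76,82,76,79,76],
  [84,79,85,76,82,76,84,76,79],
  [79,82,79,85,84,84],
  [84,84,82,84,76,76,76,84,76],
  [76,85,82,76,79,85,84,76,82,76],
  [76,79,82,79,76,84,76,76,82]]

/-- The involution in the members. -/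
def tPc : List ℕ := [0]

/-- The letters of the Sylow levels. -/
def sylLetters : List ℕ := [1,86,87,88,89,90,91,92,93,94,95,96,97,98,99,100,101,102,103,104,105,106,107,108]

/-- These in the generators. -/
def sylWords : List (List ℕ) := [[79,76,79,76,79,76,79,76],
  [85,82,85,82],
  [85,76,85,79,76,76,79,76],
  [85,76,79,84,85,76,79,84],
  [76,76],
  [84,79,76,79,85,84,85,76],
  [79,82,79,76,79,76,82,79],
  [82,79,82,79,76,82,79,82,79,76],
  [79,84,82,84,84,84,79,76,82,76],
  [82,85,79,85,76,82,79,76],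
  [76,84,82,76,84,85,79,82,85,79],
  [82,79,84,79,84,82],
  [85,76,79,82,85,76,82,76,79,76],
  [84,79,85,76,82,76,84,76,79],
  [79,82,79,85,84,84],
  [84,84,82,84,76,76,76,84,76],
  [76,85,82,76,79,85,84,76,82,76],
  [76,79,82,79,76,84,76,76,82],
  [79,76,79,76,79,76,79,76,85,82,85,82,85,76,79,84,85,76,79,84,84,79,76,79,85,84,85,76,79,82,79,76,79,76,82,79,82,85,79,85,76,82,79,76,85,76,79,82,85,76,82,76,79,76],
  [85,82,85,82,85,76,85,79,76,76,79,76,84,79,76,79,85,84,85,76,85,76,79,82,85,76,82,76,79,76],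
  [76,76,79,82,79,76,79,76,82,79,82,79,82,79,76,82,79,82,79,76,82,85,79,85,76,82,79,76,85,76,79,82,85,76,82,76,79,76],
  [85,82,85,82,85,76,85,79,76,76,79,76,85,76,79,84,85,76,79,84,76,76,79,84,82,84,84,84,79,76,82,76,79,82,79,85,84,84,76,85,82,76,79,85,84,76,82,76,76,79,82,79,76,84,76,76,82],
  [79,76,79,76,79,76,79,76,84,79,76,79,85,84,85,76,79,82,79,76,79,76,82,79,82,79,82,79,76,82,79,82,79,76,82,79,84,79,84,82,85,76,79,82,85,76,82,76,79,76,76,85,82,76,79,85,84,76,82,76,76,79,82,79,76,84,76,76,82],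
  [79,76,79,76,79,76,79,76,85,82,85,82,85,76,85,79,76,76,79,76,85,76,79,84,85,76,79,84,84,79,76,79,85,84,85,76,79,82,79,76,79,76,82,79,79,84,82,84,84,84,79,76,82,76,76,84,82,76,84,85,79,82,85,79,82,79,84,79,84,82,85,76,79,82,85,76,82,76,79,76,84,79,85,76,82,76,84,76,79,79,82,79,85,84,84,76,85,82,76,79,85,84,76,82,76,76,79,82,79,76,84,76,76,82]]

/-- The conditions. -/
def conds : List (List ℕ × ℕ) := [([5,18], 3), ([7,16], 3), ([11,12], 3), ([1,22], 4), ([2,21], 4), ([3,20], 4), ([4,19], 4), ([6,17], 4), ([8,15], 4), ([9,14], 4), ([10,13], 4), ([11], 10), ([12,7,13,9], 12)]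

/-- The key vectors. -/
def keyVecs : List ℕ := [4,2887665,223541,14051616,12591160,10751242]

end Cfsg.Agent.Co2Out.Data
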