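import Cfsg.Agent.OutLin.LatticeRep
import Cfsg.Agent.McL.ModelData

/-! Data of the certificate. -/

set_option autoImplicit false
set_option maxRecDepth 100000
set_option maxHeartbeats 0
set_option linter.all false

namespace Cfsg.Agent.Co2Out.Data

/-- The basis. -/
def basis : Cfsg.Agent.OutLin.BasisCert where
  B := [[8,0,0,0,0,0,0,0,0,0,0,0,0,0,0,0,0,0,0,0,0,0,0,0],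
  [4,4,0,0,0,0,0,0,0,0,0,0,0,0,0,0,0,0,0,0,0,0,0,0],
  [4,0,4,0,0,0,0,0,0,0,0,0,0,0,0,0,0,0,0,0,0,0,0,0],
  [4,0,0,4,0,0,0,0,0,0,0,0,0,0,0,0,0,0,0,0,0,0,0,0],
  [4,0,0,0,4,0,0,0,0,0,0,0,0,0,0,0,0,0,0,0,0,0,0,0],
  [4,0,0,0,0,4,0,0,0,0,0,0,0,0,0,0,0,0,0,0,0,0,0,0],
  [4,0,0,0,0,0,4,0,0,0,0,0,0,0,0,0,0,0,0,0,0,0,0,0],
  [4,0,0,0,0,0,0,4,0,0,0,0,0,0,0,0,0,0,0,0,0,0,0,0],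
  [4,0,0,0,0,0,0,0,4,0,0,0,0,0,0,0,0,0,0,0,0,0,0,0],
  [4,0,0,0,0,0,0,0,0,4,0,0,0,0,0,0,0,0,0,0,0,0,0,0],
  [4,0,0,0,0,0,0,0,0,0,4,0,0,0,0,0,0,0,0,0,0,0,0,0],
  [4,0,0,0,0,0,0,0,0,0,0,4,0,0,0,0,0,0,0,0,0,0,0,0],
  [2,2,0,2,0,2,2,2,0,0,0,2,2,0,0,0,0,0,0,0,0,0,0,0],
  [0,2,2,2,2,2,0,0,2,0,0,2,0,2,0,0,0,0,0,0,0,0,0,0],
  [2,2,2,0,2,0,0,2,0,2,0,2,0,0,2,0,0,0,0,0,0,0,0,0],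
  [0,2,2,0,0,0,2,2,2,0,2,2,0,0,0,2,0,0,0,0,0,0,0,0],
  [2,2,2,0,0,2,2,0,2,2,0,0,0,0,0,0,2,0,0,0,0,0,0,0],
  [2,0,2,2,0,0,2,2,0,2,2,0,0,0,0,0,0,2,0,0,0,0,0,0],
  [2,0,0,2,2,0,0,2,2,0,2,2,0,0,0,0,0,0,2,0,0,0,0,0],
  [0,2,0,2,2,0,2,2,2,2,0,0,0,0,0,0,0,0,0,2,0,0,0,0],
  [0,0,2,0,2,2,0,2,2,2,2,0,0,0,0,0,0,0,0,0,2,0,0,0],
  [0,0,0,2,0,2,2,0,2,2,2,2,0,0,0,0,0,0,0,0,0,2,0,0],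
  [2,2,0,2,2,2,0,0,0,2,2,0,0,0,0,0,0,0,0,0,0,0,2,0],
  [5,1,1,1,1,1,1,1,1,1,1,1,1,1,1,1,1,1,1,1,1,1,1,1]]
  L := [[1,-1,-1,-1,-1,-1,-1,-1,-1,-1,-1,-1,5,7,5,7,5,5,5,7,7,7,5,-59],
  [0,2,0,0,0,0,0,0,0,0,0,0,-2,-2,-2,-2,-2,0,0,-2,0,0,-2,12],
  [0,0,2,0,0,0,0,0,0,0,0,0,0,-2,-2,-2,-2,-2,0,0,-2,0,0,10],
  [0,0,0,2,0,0,0,0,0,0,0,0,-2,-2,0,0,0,-2,-2,-2,0,-2,-2,12],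
  [0,0,0,0,2,0,0,0,0,0,0,0,0,-2,-2,0,0,0,-2,-2,-2,0,-2,10],
  [0,0,0,0,0,2,0,0,0,0,0,0,-2,-2,0,0,-2,0,0,0,-2,-2,-2,10],
  [0,0,0,0,0,0,2,0,0,0,0,0,-2,0,0,-2,-2,-2,0,-2,0,-2,0,10],
  [0,0,0,0,0,0,0,2,0,0,0,0,-2,0,-2,-2,0,-2,-2,-2,-2,0,0,12],
  [0,0,0,0,0,0,0,0,2,0,0,0,0,-2,0,-2,-2,0,-2,-2,-2,-2,0,12],
  [0,0,0,0,0,0,0,0,0,2,0,0,0,0,-2,0,-2,-2,0,-2,-2,-2,-2,12],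
  [0,0,0,0,0,0,0,0,0,0,2,0,0,0,0,-2,0,-2,-2,0,-2,-2,-2,10],
  [0,0,0,0,0,0,0,0,0,0,0,2,-2,-2,-2,-2,0,0,-2,0,0,-2,0,10],
  [0,0,0,0,0,0,0,0,0,0,0,0,4,0,0,0,0,0,0,0,0,0,0,-4],
  [0,0,0,0,0,0,0,0,0,0,0,0,0,4,0,0,0,0,0,0,0,0,0,-4],
  [0,0,0,0,0,0,0,0,0,0,0,0,0,0,4,0,0,0,0,0,0,0,0,-4],
  [0,0,0,0,0,0,0,0,0,0,0,0,0,0,0,4,0,0,0,0,0,0,0,-4],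
  [0,0,0,0,0,0,0,0,0,0,0,0,0,0,0,0,4,0,0,0,0,0,0,-4],
  [0,0,0,0,0,0,0,0,0,0,0,0,0,0,0,0,0,4,0,0,0,0,0,-4],
  [0,0,0,0,0,0,0,0,0,0,0,0,0,0,0,0,0,0,4,0,0,0,0,-4],
  [0,0,0,0,0,0,0,0,0,0,0,0,0,0,0,0,0,0,0,4,0,0,0,-4],
  [0,0,0,0,0,0,0,0,0,0,0,0,0,0,0,0,0,0,0,0,4,0,0,-4],
  [0,0,0,0,0,0,0,0,0,0,0,0,0,0,0,0,0,0,0,0,0,4,0,-4],
  [0,0,0,0,0,0,0,0,0,0,0,0,0,0,0,0,0,0,0,0,0,0,4,-4],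
  [0,0,0,0,0,0,0,0,0,0,0,0,0,0,0,0,0,0,0,0,0,0,0,8]]
  K := 8
  odd := [-1,0,0,0,0,0,0,0,0,0,0,0,0,0,0,0,0,0,0,0,0,0,0,1]
  plus := [[],
  [0,1,0,0,0,0,0,0,0,0,0,0,0,0,0,0,0,0,0,0,0,0,0,0],
  [0,0,1,0,0,0,0,0,0,0,0,0,0,0,0,0,0,0,0,0,0,0,0,0],
  [0,0,0,1,0,0,0,0,0,0,0,0,0,0,0,0,0,0,0,0,0,0,0,0],
  [0,0,0,0,1,0,0,0,0,0,0,0,0,0,0,0,0,0,0,0,0,0,0,0],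
  [0,0,0,0,0,1,0,0,0,0,0,0,0,0,0,0,0,0,0,0,0,0,0,0],
  [0,0,0,0,0,0,1,0,0,0,0,0,0,0,0,0,0,0,0,0,0,0,0,0],
  [0,0,0,0,0,0,0,1,0,0,0,0,0,0,0,0,0,0,0,0,0,0,0,0],
  [0,0,0,0,0,0,0,0,1,0,0,0,0,0,0,0,0,0,0,0,0,0,0,0],
  [0,0,0,0,0,0,0,0,0,1,0,0,0,0,0,0,0,0,0,0,0,0,0,0],
  [0,0,0,0,0,0,0,0,0,0,1,0,0,0,0,0,0,0,0,0,0,0,0,0],
  [0,0,0,0,0,0,0,0,0,0,0,1,0,0,0,0,0,0,0,0,0,0,0,0],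
  [3,-1,0,-1,0,-1,-1,-1,0,0,0,-1,2,0,0,0,0,0,0,0,0,0,0,0],
  [4,-1,-1,-1,-1,-1,0,0,-1,0,0,-1,0,2,0,0,0,0,0,0,0,0,0,0],
  [3,-1,-1,0,-1,0,0,-1,0,-1,0,-1,0,0,2,0,0,0,0,0,0,0,0,0],
  [4,-1,-1,0,0,0,-1,-1,-1,0,-1,-1,0,0,0,2,0,0,0,0,0,0,0,0],
  [3,-1,-1,0,0,-1,-1,0,-1,-1,0,0,0,0,0,0,2,0,0,0,0,0,0,0],
  [3,0,-1,-1,0,0,-1,-1,0,-1,-1,0,0,0,0,0,0,2,0,0,0,0,0,0],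
  [3,0,0,-1,-1,0,0,-1,-1,0,-1,-1,0,0,0,0,0,0,2,0,0,0,0,0],
  [4,-1,0,-1,-1,0,-1,-1,-1,-1,0,0,0,0,0,0,0,0,0,2,0,0,0,0],
  [4,0,-1,0,-1,-1,0,-1,-1,-1,-1,0,0,0,0,0,0,0,0,0,2,0,0,0],
  [4,0,0,-1,0,-1,-1,0,-1,-1,-1,-1,0,0,0,0,0,0,0,0,0,2,0,0],
  [3,-1,0,-1,-1,-1,0,0,0,-1,-1,0,0,0,0,0,0,0,0,0,0,0,2,0],
  [-29,6,5,6,5,5,5,6,6,6,5,5,-2,-2,-2,-2,-2,-2,-2,-2,-2,-2,-2,4]]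
  minus := [[],
  [-1,1,0,0,0,0,0,0,0,0,0,0,0,0,0,0,0,0,0,0,0,0,0,0],
  [-1,0,1,0,0,0,0,0,0,0,0,0,0,0,0,0,0,0,0,0,0,0,0,0],
  [-1,0,0,1,0,0,0,0,0,0,0,0,0,0,0,0,0,0,0,0,0,0,0,0],
  [-1,0,0,0,1,0,0,0,0,0,0,0,0,0,0,0,0,0,0,0,0,0,0,0],
  [-1,0,0,0,0,1,0,0,0,0,0,0,0,0,0,0,0,0,0,0,0,0,0,0],
  [-1,0,0,0,0,0,1,0,0,0,0,0,0,0,0,0,0,0,0,0,0,0,0,0],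
  [-1,0,0,0,0,0,0,1,0,0,0,0,0,0,0,0,0,0,0,0,0,0,0,0],
  [-1,0,0,0,0,0,0,0,1,0,0,0,0,0,0,0,0,0,0,0,0,0,0,0],
  [-1,0,0,0,0,0,0,0,0,1,0,0,0,0,0,0,0,0,0,0,0,0,0,0],
  [-1,0,0,0,0,0,0,0,0,0,1,0,0,0,0,0,0,0,0,0,0,0,0,0],
  [-1,0,0,0,0,0,0,0,0,0,0,1,0,0,0,0,0,0,0,0,0,0,0,0],
  [2,-1,0,-1,0,-1,-1,-1,0,0,0,-1,2,0,0,0,0,0,0,0,0,0,0,0],
  [3,-1,-1,-1,-1,-1,0,0,-1,0,0,-1,0,2,0,0,0,0,0,0,0,0,0,0],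
  [2,-1,-1,0,-1,0,0,-1,0,-1,0,-1,0,0,2,0,0,0,0,0,0,0,0,0],
  [3,-1,-1,0,0,0,-1,-1,-1,0,-1,-1,0,0,0,2,0,0,0,0,0,0,0,0],
  [2,-1,-1,0,0,-1,-1,0,-1,-1,0,0,0,0,0,0,2,0,0,0,0,0,0,0],
  [2,0,-1,-1,0,0,-1,-1,0,-1,-1,0,0,0,0,0,0,2,0,0,0,0,0,0],
  [2,0,0,-1,-1,0,0,-1,-1,0,-1,-1,0,0,0,0,0,0,2,0,0,0,0,0],
  [3,-1,0,-1,-1,0,-1,-1,-1,-1,0,0,0,0,0,0,0,0,0,2,0,0,0,0],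
  [3,0,-1,0,-1,-1,0,-1,-1,-1,-1,0,0,0,0,0,0,0,0,0,2,0,0,0],
  [3,0,0,-1,0,-1,-1,0,-1,-1,-1,-1,0,0,0,0,0,0,0,0,0,2,0,0],
  [2,-1,0,-1,-1,-1,0,0,0,-1,-1,0,0,0,0,0,0,0,0,0,0,0,2,0],
  [-30,6,5,6,5,5,5,6,6,6,5,5,-2,-2,-2,-2,-2,-2,-2,-2,-2,-2,-2,4]]
  code := [[-7,1,1,1,1,1,1,1,2,1,1,1,0,-1,0,-1,0,0,0,-1,-1,-1,0,2],
  [10,-3,-2,-2,-2,-2,-2,-2,-2,-2,-1,-2,1,1,1,1,1,0,0,1,0,0,1,0],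
  [-6,1,0,2,1,1,1,1,1,1,1,1,-1,0,0,0,0,0,-1,-1,0,-1,-1,2],
  [10,-2,-1,-3,-2,-2,-2,-2,-2,-2,-2,-2,1,1,0,0,0,1,1,1,0,1,1,0],
  [-6,1,1,1,0,1,2,1,1,1,1,1,-1,0,0,-1,-1,-1,0,0,0,-1,0,2],
  [-6,1,1,1,1,0,1,2,1,1,1,1,0,0,-1,-1,0,-1,-1,-1,0,0,0,2],
  [-6,1,1,1,2,1,0,1,1,1,1,1,0,-1,-1,0,0,0,-1,0,-1,0,-1,2],
  [10,-2,-2,-2,-2,-1,-2,-3,-2,-2,-2,-2,1,0,1,1,0,1,1,1,1,0,0,0],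
  [11,-2,-2,-2,-2,-2,-2,-2,-3,-2,-2,-2,0,1,0,1,1,0,1,1,1,1,0,0],
  [10,-2,-2,-2,-2,-2,-2,-2,-2,-3,-2,-1,0,0,1,0,1,1,0,1,1,1,1,0],
  [-6,2,1,1,1,1,1,1,1,1,0,1,-1,-1,-1,0,-1,0,0,-1,0,0,0,2],
  [-6,1,1,1,1,1,1,1,1,2,1,0,0,0,0,0,-1,-1,0,-1,-1,0,-1,2]]

/-- A sign change fixing the vector. -/
def sign : Cfsg.Agent.Leech.LGen := Cfsg.Agent.Leech.monGen [0,1,2,3,4,5,6,7,8,9,10,11,12,13,14,15,16,17,18,19,20,21,22,23]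
  [0,1,2,3,4,5,6,7,8,9,10,11,12,13,14,15,16,17,18,19,20,21,22,23] 21116 (by decide +kernel) (by decide +kernel) (by decide +kernel) (by decide +kernel)
  (by decide +kernel)

/-- The lattice generators. -/
def gensL : List Cfsg.Agent.Leech.LGen :=
  [McL.Model.a0, McL.Model.a1, McL.Model.a2, McL.Model.a3, sign]

/-- Their matrices. -/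
def baseCodes : List ℕ := [0x8000007db12b02cec7260fc9144f95444e9b2457fb222f6c250f692c0fd8224ecd064e9d000100000004000008000010000d990000800006cd000020000a97000f68000002000001,
  0x8000001f6c614e756d7e284e219faf231faf20cfc67e300d0943d704d55f5ea8605fd282000200000008000dc6000367000020000800000c750008eb000f68000a97000002000001,
  0x80000000b9ee40102b129f6f1085845087b63207ec7de3135206bd52c97b469b765117df00063b0004000000100000400007b40002000008eb000dc60008000006cd000002000001,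
  0x800000304fb4214b67200000bd4cef00681680063b210360daa840001000e749fe004000b40fb8c5073bc44e9b945f3ff508dfc41cbb951fff8519ebe41ff3d44faf000002715045,
  0x80588340023820026810023408025804001902024c01026400804500488300203c001883000800000400000201000100000080000041000021000011000009000005000002000001]

/-- Their coefficients. -/
def coeffs : List (List (List ℤ)) := [[[1,0,0,0,0,0,0,0,0,0,0,0,0,0,0,0,0,0,0,0,0,0,0,0],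
  [0,1,0,0,0,0,0,0,0,0,0,0,0,0,0,0,0,0,0,0,0,0,0,0],
  [4,0,0,-1,0,-1,-1,0,-1,-1,-1,-1,0,0,0,0,0,0,0,0,0,2,0,0],
  [3,-1,-1,0,-1,0,0,-1,0,-1,0,-1,0,0,2,0,0,0,0,0,0,0,0,0],
  [0,0,0,0,0,1,0,0,0,0,0,0,0,0,0,0,0,0,0,0,0,0,0,0],
  [3,0,-1,-1,0,0,-1,-1,0,-1,-1,0,0,0,0,0,0,2,0,0,0,0,0,0],
  [0,0,0,0,0,0,0,1,0,0,0,0,0,0,0,0,0,0,0,0,0,0,0,0],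
  [3,0,0,-1,-1,0,0,-1,-1,0,-1,-1,0,0,0,0,0,0,2,0,0,0,0,0],
  [0,0,0,0,1,0,0,0,0,0,0,0,0,0,0,0,0,0,0,0,0,0,0,0],
  [0,0,0,1,0,0,0,0,0,0,0,0,0,0,0,0,0,0,0,0,0,0,0,0],
  [0,0,1,0,0,0,0,0,0,0,0,0,0,0,0,0,0,0,0,0,0,0,0,0],
  [0,0,0,0,0,0,0,0,1,0,0,0,0,0,0,0,0,0,0,0,0,0,0,0],
  [3,0,-1,-1,-1,0,0,-1,0,-1,-1,-1,0,0,1,0,0,1,1,0,0,0,0,0],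
  [3,0,-1,-1,0,0,-1,-1,0,-1,-1,-1,0,0,1,0,0,1,0,0,0,1,0,0],
  [4,0,0,-1,-1,0,-1,-1,-1,-1,-1,-1,0,0,0,0,0,0,1,1,0,1,0,0],
  [3,0,0,-1,0,-1,-1,0,-1,-1,-1,-1,0,0,0,0,1,0,1,0,0,1,0,0],
  [4,0,-1,-1,0,-1,-1,0,-1,-1,-1,-1,0,1,0,0,0,1,0,0,0,1,0,0],
  [5,-1,0,-1,-1,-1,-1,-1,-1,-1,-1,-2,1,0,1,0,0,0,1,0,0,1,0,0],
  [3,-1,0,-1,-1,0,0,-1,0,-1,-1,-1,0,0,1,0,0,0,1,0,0,0,1,0],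
  [3,0,-1,0,-1,0,0,-1,-1,-1,-1,-1,0,0,1,0,0,0,1,0,1,0,0,0],
  [3,0,0,-1,0,0,-1,-1,-1,-1,-1,-1,0,0,0,0,0,1,1,0,0,1,0,0],
  [3,-1,-1,0,0,0,-1,-1,0,-1,-1,-1,0,0,1,1,0,1,0,0,0,0,0,0],
  [-13,3,2,3,2,3,2,2,3,2,2,2,-1,-1,0,-1,-1,0,-1,-1,-1,-1,-1,2],
  [0,0,0,0,0,0,0,0,0,0,0,0,0,0,0,0,0,0,0,0,0,0,0,1]],
  [[1,0,0,0,0,0,0,0,0,0,0,0,0,0,0,0,0,0,0,0,0,0,0,0],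
  [0,1,0,0,0,0,0,0,0,0,0,0,0,0,0,0,0,0,0,0,0,0,0,0],
  [3,-1,-1,0,-1,0,0,-1,0,-1,0,-1,0,0,2,0,0,0,0,0,0,0,0,0],
  [4,0,0,-1,0,-1,-1,0,-1,-1,-1,-1,0,0,0,0,0,0,0,0,0,2,0,0],
  [3,-1,0,-1,0,-1,-1,-1,0,0,0,-1,2,0,0,0,0,0,0,0,0,0,0,0],
  [-29,6,5,6,5,5,5,6,6,6,5,5,-2,-2,-2,-2,-2,-2,-2,-2,-2,-2,-2,4],
  [0,0,0,0,0,0,0,0,0,0,0,1,0,0,0,0,0,0,0,0,0,0,0,0],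
  [0,0,0,0,0,1,0,0,0,0,0,0,0,0,0,0,0,0,0,0,0,0,0,0],
  [3,-1,-1,0,0,-1,-1,0,-1,-1,0,0,0,0,0,0,2,0,0,0,0,0,0,0],
  [4,-1,-1,0,0,0,-1,-1,-1,0,-1,-1,0,0,0,2,0,0,0,0,0,0,0,0],
  [0,0,0,1,0,0,0,0,0,0,0,0,0,0,0,0,0,0,0,0,0,0,0,0],
  [0,0,0,0,0,0,0,0,0,1,0,0,0,0,0,0,0,0,0,0,0,0,0,0],
  [-12,3,2,2,2,2,2,3,2,3,2,2,-1,0,-1,-1,-1,-1,-1,-1,-1,0,-1,2],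
  [-10,2,2,2,2,1,1,2,2,2,2,1,0,-1,0,-1,0,-1,-1,-1,-1,0,-1,2],
  [5,-1,-1,-1,-1,0,-1,-2,-1,0,-1,-2,1,0,1,1,0,0,1,0,0,0,0,0],
  [3,-1,-1,0,-1,0,-1,-1,-1,-1,0,0,0,0,1,0,1,0,0,1,0,0,0,0],
  [-11,2,1,3,2,2,2,2,2,2,2,2,-1,-1,0,0,0,-1,-1,-1,-1,-1,-1,2],
  [4,-1,-1,0,0,0,-1,-1,-1,-1,-1,-1,0,0,1,1,0,0,0,0,0,1,0,0],
  [5,-1,-1,-1,0,-1,-2,-1,-1,-1,-1,-1,1,0,0,0,1,1,0,0,0,1,0,0],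
  [5,-1,-1,-1,0,-1,-2,-1,-1,-1,-1,-1,1,0,0,1,1,0,0,0,0,1,0,0],
  [-10,1,1,3,2,2,1,2,2,2,2,1,0,-1,0,0,0,-1,-1,-1,-1,-1,-1,2],
  [-9,2,1,3,2,1,1,2,1,2,1,2,-1,-1,-1,0,0,-1,-1,-1,0,0,-1,2],
  [-9,2,2,2,2,1,1,2,2,2,1,1,0,-1,-1,0,-1,-1,-1,-1,-1,0,0,2],
  [0,0,0,0,0,0,0,0,0,0,0,0,0,0,0,0,0,0,0,0,0,0,0,1]],
  [[1,0,0,0,0,0,0,0,0,0,0,0,0,0,0,0,0,0,0,0,0,0,0,0],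
  [0,1,0,0,0,0,0,0,0,0,0,0,0,0,0,0,0,0,0,0,0,0,0,0],
  [3,0,-1,-1,0,0,-1,-1,0,-1,-1,0,0,0,0,0,0,2,0,0,0,0,0,0],
  [0,0,0,0,0,0,0,0,0,0,0,1,0,0,0,0,0,0,0,0,0,0,0,0],
  [4,-1,-1,0,0,0,-1,-1,-1,0,-1,-1,0,0,0,2,0,0,0,0,0,0,0,0],
  [3,-1,0,-1,0,-1,-1,-1,0,0,0,-1,2,0,0,0,0,0,0,0,0,0,0,0],
  [0,0,0,0,0,0,0,0,0,1,0,0,0,0,0,0,0,0,0,0,0,0,0,0],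
  [4,0,-1,0,-1,-1,0,-1,-1,-1,-1,0,0,0,0,0,0,0,0,0,2,0,0,0],
  [0,0,0,0,0,0,1,0,0,0,0,0,0,0,0,0,0,0,0,0,0,0,0,0],
  [0,0,0,0,1,0,0,0,0,0,0,0,0,0,0,0,0,0,0,0,0,0,0,0],
  [0,0,0,0,0,0,0,0,0,0,1,0,0,0,0,0,0,0,0,0,0,0,0,0],
  [3,-1,0,-1,-1,-1,0,0,0,-1,-1,0,0,0,0,0,0,0,0,0,0,0,2,0],
  [5,-1,-1,-1,-1,-2,-1,-1,-1,-1,-1,0,1,0,0,0,1,0,0,0,1,0,1,0],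
  [6,-1,-1,-2,-1,-1,-1,-2,-1,-1,-2,-1,1,0,0,1,0,1,1,0,0,0,1,0],
  [7,-1,-2,-1,-1,-1,-1,-2,-1,-2,-2,-1,0,0,1,1,0,1,0,0,1,0,1,0],
  [3,0,-1,-1,-1,-1,0,-1,0,-1,-1,0,0,0,0,0,0,1,0,0,1,0,1,0],
  [-13,3,2,2,3,2,2,2,3,3,2,2,0,-1,-1,-1,-1,0,-1,-1,-1,-1,-1,2],
  [4,0,-1,-1,0,-1,-1,-1,-1,-1,-1,0,0,0,0,0,0,1,0,0,1,1,0,0],
  [4,-1,-1,0,-1,-1,0,-1,-1,-1,-1,0,0,0,0,1,0,0,0,0,1,0,1,0],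
  [2,0,-1,0,0,0,0,-1,-1,0,-1,0,0,0,0,1,0,0,0,0,1,0,0,0],
  [5,-1,-1,-1,0,-1,-1,-2,-1,-1,-1,-1,1,0,0,1,0,1,0,0,1,0,0,0],
  [1,-1,0,-1,0,-1,0,0,0,0,0,0,1,0,0,0,0,0,0,0,0,0,1,0],
  [4,-1,-1,-1,0,-1,-1,-1,-1,0,0,-1,1,1,0,1,0,0,0,0,0,0,0,0],
  [0,0,0,0,0,0,0,0,0,0,0,0,0,0,0,0,0,0,0,0,0,0,0,1]],
  [[-9,2,1,2,2,2,1,2,2,2,2,2,-1,0,-1,0,-1,0,-2,0,-1,-1,-1,2],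
  [0,1,0,0,0,0,0,0,0,0,0,0,0,0,0,0,0,0,0,0,0,0,0,0],
  [-5,1,1,1,2,1,0,1,1,1,1,1,0,0,-1,0,0,0,-1,0,-1,0,-1,1],
  [-5,1,0,2,1,1,1,1,1,1,1,1,-1,0,0,0,0,0,-1,0,0,-1,-1,1],
  [-3,1,0,1,0,1,1,1,1,0,0,1,-1,0,0,0,-1,0,-1,0,0,0,0,1],
  [-5,1,1,1,1,1,1,1,1,1,1,1,-1,0,0,0,-1,0,-1,0,-1,0,0,1],
  [-3,1,0,1,1,1,0,1,0,0,1,1,-1,0,0,0,0,0,-1,0,0,0,-1,1],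
  [-7,1,1,1,1,2,1,1,2,2,2,1,0,0,0,0,-1,0,-1,0,-1,-1,-1,1],
  [-5,1,1,1,1,1,0,2,1,1,1,1,-1,0,-1,0,0,0,-1,0,-1,0,0,1],
  [-3,1,0,1,1,0,0,1,0,1,1,1,0,0,-1,0,0,0,-1,0,0,0,-1,1],
  [-3,1,0,1,1,1,0,0,1,1,1,0,0,0,0,0,-1,0,-1,0,0,0,-1,1],
  [-4,0,0,1,1,1,0,1,1,1,1,1,0,0,0,0,0,0,-1,0,-1,-1,0,1],
  [0,0,0,0,0,0,0,0,0,0,0,0,0,0,1,0,0,0,0,0,0,0,0,0],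
  [6,-1,-1,-1,-1,-1,-1,-1,-1,-2,-2,-1,0,0,1,0,1,1,1,0,0,1,1,-1],
  [0,0,0,0,0,0,0,0,0,0,0,0,1,0,0,0,0,0,0,0,0,0,0,0],
  [-10,2,2,2,2,2,1,2,2,2,2,1,0,-1,0,-1,0,-1,0,-1,-1,0,-1,1],
  [2,0,0,0,0,-1,-1,0,-1,-1,0,0,0,0,0,0,1,0,0,0,0,1,0,0],
  [-3,1,0,1,1,1,0,0,0,1,1,0,0,0,0,0,0,0,0,0,0,0,-2,1],
  [2,-1,-1,0,-1,0,0,0,0,0,0,-1,0,1,1,0,0,0,0,0,0,0,0,0],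
  [7,-1,-1,-1,-2,-1,-1,-1,-2,-2,-1,-1,0,0,1,0,1,0,1,1,1,1,0,-1],
  [0,0,0,0,0,0,0,0,0,0,0,0,0,0,0,0,0,0,0,0,0,1,0,0],
  [3,-1,-1,0,0,-1,-1,0,-1,-1,0,-1,0,0,1,0,1,0,0,0,0,1,0,0],
  [4,0,-1,0,-1,-1,0,-1,-1,-1,-1,-1,0,0,1,0,0,0,0,0,1,1,0,0],
  [0,0,0,0,0,0,0,0,0,0,0,0,0,0,0,0,0,0,0,0,0,0,0,1]],
  [[1,0,0,0,0,0,0,0,0,0,0,0,0,0,0,0,0,0,0,0,0,0,0,0],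
  [0,1,0,0,0,0,0,0,0,0,0,0,0,0,0,0,0,0,0,0,0,0,0,0],
  [1,0,-1,0,0,0,0,0,0,0,0,0,0,0,0,0,0,0,0,0,0,0,0,0],
  [1,0,0,-1,0,0,0,0,0,0,0,0,0,0,0,0,0,0,0,0,0,0,0,0],
  [1,0,0,0,-1,0,0,0,0,0,0,0,0,0,0,0,0,0,0,0,0,0,0,0],
  [1,0,0,0,0,-1,0,0,0,0,0,0,0,0,0,0,0,0,0,0,0,0,0,0],
  [1,0,0,0,0,0,-1,0,0,0,0,0,0,0,0,0,0,0,0,0,0,0,0,0],
  [0,0,0,0,0,0,0,1,0,0,0,0,0,0,0,0,0,0,0,0,0,0,0,0],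
  [0,0,0,0,0,0,0,0,1,0,0,0,0,0,0,0,0,0,0,0,0,0,0,0],
  [1,0,0,0,0,0,0,0,0,-1,0,0,0,0,0,0,0,0,0,0,0,0,0,0],
  [0,0,0,0,0,0,0,0,0,0,1,0,0,0,0,0,0,0,0,0,0,0,0,0],
  [0,0,0,0,0,0,0,0,0,0,0,1,0,0,0,0,0,0,0,0,0,0,0,0],
  [-1,1,0,0,0,0,0,1,0,0,0,1,-1,0,0,0,0,0,0,0,0,0,0,0],
  [2,0,-1,-1,-1,-1,0,0,0,0,0,0,0,1,0,0,0,0,0,0,0,0,0,0],
  [-1,1,0,0,0,0,0,1,0,0,0,1,0,0,-1,0,0,0,0,0,0,0,0,0],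
  [1,0,-1,0,0,0,-1,0,0,0,0,0,0,0,0,1,0,0,0,0,0,0,0,0],
  [2,0,-1,0,0,-1,-1,0,0,-1,0,0,0,0,0,0,1,0,0,0,0,0,0,0],
  [2,0,-1,-1,0,0,-1,0,0,-1,0,0,0,0,0,0,0,1,0,0,0,0,0,0],
  [1,0,0,-1,-1,0,0,0,0,0,0,0,0,0,0,0,0,0,1,0,0,0,0,0],
  [2,0,0,-1,-1,0,-1,0,0,-1,0,0,0,0,0,0,0,0,0,1,0,0,0,0],
  [2,0,-1,0,-1,-1,0,0,0,-1,0,0,0,0,0,0,0,0,0,0,1,0,0,0],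
  [2,0,0,-1,0,-1,-1,0,0,-1,0,0,0,0,0,0,0,0,0,0,0,1,0,0],
  [2,0,0,-1,-1,-1,0,0,0,-1,0,0,0,0,0,0,0,0,0,0,0,0,1,0],
  [-1,1,0,0,0,0,0,1,0,0,0,1,-1,0,-1,0,0,0,0,0,0,0,0,1]]]

/-- The two generators as words. -/
def pairWords : List (List ℕ) := [[4,2,3,2],
  [3,4,0,3,4,0,3,4,0,3,4,0,3,4,0,3,4,0,3,4,0,3,4,0,3,4,0]]

end Cfsg.Agent.Co2Out.Data
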