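import Cfsg.Agent.OutLin.Table
import Cfsg.Agent.OutLin.LatticeRep
import Cfsg.Agent.OutTab.Criterion
import Cfsg.Agent.Leech.Co2
import Cfsg.Agent.Co2Out.Gens
import Cfsg.Agent.Co2Out.Data

/-!
The group of the definitions as matrices over the field of two elements.
-/

set_option autoImplicit false
set_option maxRecDepth 100000
set_option maxHeartbeats 0

namespace Cfsg.Agent.Co2Out

open Cfsg Cfsg.Agent.Compute Cfsg.Agent.StemCert Cfsg.Agent.OutLin

theorem good : Data.basis.Good where
  parity := by decide +kernel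
  sums := by decide +kernel
  code_mem := by decide +kernel
  shape := by decide +kernel
  ne := by decide +kernel
  dual := by decide +kernel
  odd_eq := by decide +kernel
  plus_eq := by decide +kernel
  minus_eq := by decide +kernel
  code_eq := by decide +kernel

theorem le_co0 : Spor.Co2 ≤ Co0 := inf_le_left

theorem equiv_stab : Nonempty (↥Spor.Co2 ≃* ↥Leech.stabU) := by
  have e : Spor.Co2.subgroupOf Co0 = Leech.stabU := by
    ext g
    simp only [Subgroup.mem_subgroupOf, Spor.Co2, Subgroup.mem_inf, Leech.stabU,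
      MulAction.mem_stabilizer_iff]
    exact ⟨fun h => h.2, fun h => ⟨g.2, h⟩⟩
  exact ⟨(Subgroup.subgroupOfEquivOfLe le_co0).symm.trans (MulEquiv.subgroupCongr e)⟩

theorem card_co2 : Nat.card ↥Spor.Co2 = 42305421312000 :=
  (Nat.card_congr equiv_stab.some.toEquiv).trans Leech.stabU_transitive_facts

instance : IsSimpleGroup ↥Spor.Co2 :=
  haveI := Leech.simple_stabU
  MulEquiv.isSimpleGroup equiv_stab.some

instance : Finite ↥Spor.Co2 := Nat.finite_of_card_ne_zero (by rw [card_co2]; norm_num)

/-- The representation on binary vectors. -/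
noncomputable def ι : ↥Spor.Co2 →* Equiv.Perm (Fin (2 ^ 24)) := binRep good le_co0

theorem gens_fix : ∀ a ∈ Data.gensL,
    a.f (Leech.toL (Spor.leechU : GolayPt → ℤ)) = Leech.toL (Spor.leechU : GolayPt → ℤ) := by
  intro a ha
  simp only [Data.gensL, List.mem_cons, List.not_mem_nil, or_false] at ha
  rcases ha with rfl | rfl | rfl | rfl | rfl <;> decide +kernel

theorem gens_mem {a : Leech.LGen} (ha : a ∈ Data.gensL) :
    (a.g : Equiv.Perm leechLattice) ∈ Spor.Co2 :=
  ⟨a.g.2, LeechModel.fix_of_toL a _ (gens_fix a ha)⟩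

theorem base_checks :
    genMatB Data.basis.B McL.Model.a0.f (Data.coeffs.getD 0 []) (Data.baseCodes.getD 0 0) = true ∧
    genMatB Data.basis.B McL.Model.a1.f (Data.coeffs.getD 1 []) (Data.baseCodes.getD 1 0) = true ∧
    genMatB Data.basis.B McL.Model.a2.f (Data.coeffs.getD 2 []) (Data.baseCodes.getD 2 0) = true ∧
    genMatB Data.basis.B McL.Model.a3.f (Data.coeffs.getD 3 []) (Data.baseCodes.getD 3 0) = true ∧
    genMatB Data.basis.B Data.sign.f (Data.coeffs.getD 4 []) (Data.baseCodes.getD 4 0) = true := by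
  refine ⟨?_, ?_, ?_, ?_, ?_⟩ <;> decide +kernel

theorem ι_injective : Function.Injective ι := by
  refine (MonoidHom.ker_eq_bot_iff ι).mp ((ι.normal_ker.eq_bot_or_eq_top).resolve_right fun e => ?_)
  have hmem : (⟨_, gens_mem (a := Data.sign) (by simp [Data.gensL])⟩ : ↥Spor.Co2) ∈ ι.ker :=
    e ▸ Subgroup.mem_top _
  have hmove : ∃ i : Fin 24, getField 24 (Data.baseCodes.getD 4 0) i ≠ 2 ^ (i : ℕ) := by decide +kernel
  obtain ⟨i, hi⟩ := hmove
  refine hi ?_
  have h' := base_checks.2.2.2.2
  -- the code of a kernel element fixes every vector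
  have hx : ι ⟨_, gens_mem (a := Data.sign) (by simp [Data.gensL])⟩ ⟨2 ^ (i : ℕ), two_pow_lt i.2⟩ =
      ⟨2 ^ (i : ℕ), two_pow_lt i.2⟩ := by
    rw [show ι _ = 1 from hmem]; rfl
  exact (colOfMat good le_co0 Data.sign _ h' i).symm.trans (congrArg Fin.val hx)

theorem linRep : LinRep ι := binRep_linRep good le_co0 ι_injective

/-- The lattice generators as elements of the group. -/
noncomputable def baseGen (s : ℕ) : ↥Spor.Co2 :=
  if hs : s < Data.gensL.length then ⟨_, gens_mem (List.getElem_mem hs)⟩ else 1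

theorem coded_base : CodedL 5 ι baseGen Data.baseCodes := by
  intro s hs
  obtain ⟨c0, c1, c2, c3, c4⟩ := base_checks
  have hs' : s < Data.gensL.length := hs
  rw [baseGen, dif_pos hs']
  interval_cases s
  exacts [hasL_of_genMat good le_co0 ι_injective McL.Model.a0 _ c0,
    hasL_of_genMat good le_co0 ι_injective McL.Model.a1 _ c1,
    hasL_of_genMat good le_co0 ι_injective McL.Model.a2 _ c2,
    hasL_of_genMat good le_co0 ι_injective McL.Model.a3 _ c3,
    hasL_of_genMat good le_co0 ι_injective Data.sign _ c4]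

/-- The two generators. -/
noncomputable def pairGen (s : ℕ) : ↥Spor.Co2 := evalW baseGen (Data.pairWords.getD s [])

theorem pair_ok : allBelow 2 (fun s => lettB 5 (Data.pairWords.getD s []) &&
    allBelow 24 fun i => forceN (Nat.shiftLeft 1 i) fun e =>
      Nat.beq (appL Data.baseCodes (Data.pairWords.getD s []) e) (mapply (Data.codes.getD s 0) e)) =
    true := by decide +kernel

theorem coded_pair : CodedL 2 ι pairGen Data.codes := by
  intro s hs
  have h := allBelow_eq_true.mp pair_ok s hs
  simp only [Bool.and_eq_true] at h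
  refine hasL_of_units linRep fun i hi => ?_
  rw [pairGen, valFn_word coded_base (lettB_spec h.1) (two_pow_lt hi)]
  have h' := allBelow_eq_true.mp h.2 i hi
  rwa [forceN_eq, Nat.beq_eq, show Nat.shiftLeft 1 i = 2 ^ i from Nat.one_shiftLeft i] at h'

theorem slp_ok : slpB Data.k Data.codes Data.progs = true := by decide +kernel

theorem gen_exists : ∃ g : ℕ → ↥Spor.Co2, CodedL Data.k ι g Data.codes ∧
    g 0 = pairGen 0 ∧ g 1 = pairGen 1 ∧
    ∀ s, g s ∈ Submonoid.closure ({pairGen 0, pairGen 1} : Set ↥Spor.Co2) :=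
  exists_slp linRep coded_pair slp_ok

/-- The generators. -/
noncomputable def gen : ℕ → ↥Spor.Co2 := gen_exists.choose

theorem coded : CodedL Data.k ι gen Data.codes := gen_exists.choose_spec.1

theorem gen_closure (s : ℕ) : gen s ∈ Submonoid.closure ({gen 0, gen 1} : Set ↥Spor.Co2) := by
  obtain ⟨-, h0, h1, hm⟩ := gen_exists.choose_spec
  rw [show gen 0 = pairGen 0 from h0, show gen 1 = pairGen 1 from h1]
  exact hm s

theorem main_ok : chainOK Data.k Data.codes Data.mainLevels Data.mainBase = true := by decide +kernel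

theorem main_forms : numForms Data.mainLevels = Nat.card ↥Spor.Co2 := by
  rw [card_co2]
  decide +kernel

theorem generated : Subgroup.closure ({gen 0, gen 1} : Set ↥Spor.Co2) = ⊤ := by
  refine OutTab.closure_pair_top (k := Data.k) gen_closure fun z => ?_
  obtain ⟨y, hy, rfl⟩ := nf_surjective coded main_ok main_forms z
  obtain ⟨hw, hg, -⟩ := chainOK_spec main_ok
  exact nf_mem_closure hw hg hy

end Cfsg.Agent.Co2Out
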