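import Cfsg.Agent.OutLin.Table
import Cfsg.Agent.Co2Out.TableData
import Cfsg.Agent.Co2Out.Data

/-! Checks of the table. -/

set_option autoImplicit false
set_option maxRecDepth 100000
set_option maxHeartbeats 0

namespace Cfsg.Agent.Co2Out

open Cfsg.Agent.OutTab Cfsg.Agent.OutLin

theorem least0 : rangeB (leastL Data.table 23 Data.powers Data.keyVecs) 0 275 = true := by decide +kernel

theorem least1 : rangeB (leastL Data.table 23 Data.powers Data.keyVecs) 275 550 = true := by decide +kernel

theorem least2 : rangeB (leastL Data.table 23 Data.powers Data.keyVecs) 550 825 = true := by decide +kernel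

theorem least3 : rangeB (leastL Data.table 23 Data.powers Data.keyVecs) 825 1100 = true := by decide +kernel

theorem least4 : rangeB (leastL Data.table 23 Data.powers Data.keyVecs) 1100 1375 = true := by decide +kernel

theorem least5 : rangeB (leastL Data.table 23 Data.powers Data.keyVecs) 1375 1650 = true := by decide +kernel

theorem least6 : rangeB (leastL Data.table 23 Data.powers Data.keyVecs) 1650 1925 = true := by decide +kernel

theorem least7 : rangeB (leastL Data.table 23 Data.powers Data.keyVecs) 1925 2200 = true := by decide +kernel

theorem least8 : rangeB (leastL Data.table 23 Data.powers Data.keyVecs) 2200 2475 = true := by decide +kernel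

theorem least_all : ∀ j < Data.table.size, leastL Data.table 23 Data.powers Data.keyVecs j = true := by
  refine of_ranges (len := 275) (cnt := 9) (by decide +kernel) fun c hc => ?_
  interval_cases c
  exacts [least0, least1, least2, least3, least4, least5, least6, least7, least8]

end Cfsg.Agent.Co2Out
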