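import Cfsg.Agent.OutLin.Table
import Cfsg.Agent.Co2Out.TableData
import Cfsg.Agent.Co2Out.Data

/-! Checks of the table. -/

set_option autoImplicit false
set_option maxRecDepth 100000
set_option maxHeartbeats 0

namespace Cfsg.Agent.Co2Out

open Cfsg.Agent.OutTab Cfsg.Agent.OutLin

theorem link0 : rangeB (linkL Data.table Data.k Data.codes 1) 0 275 = true := by decide +kernel

theorem link1 : rangeB (linkL Data.table Data.k Data.codes 1) 275 550 = true := by decide +kernel

theorem link2 : rangeB (linkL Data.table Data.k Data.codes 1) 550 825 = true := by decide +kernel

theorem link3 : rangeB (linkL Data.table Data.k Data.codes 1) 825 1100 = true := by decide +kernel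

theorem link4 : rangeB (linkL Data.table Data.k Data.codes 1) 1100 1375 = true := by decide +kernel

theorem link5 : rangeB (linkL Data.table Data.k Data.codes 1) 1375 1650 = true := by decide +kernel

theorem link6 : rangeB (linkL Data.table Data.k Data.codes 1) 1650 1925 = true := by decide +kernel

theorem link7 : rangeB (linkL Data.table Data.k Data.codes 1) 1925 2200 = true := by decide +kernel

theorem link8 : rangeB (linkL Data.table Data.k Data.codes 1) 2200 2475 = true := by decide +kernel

theorem link_all : ∀ j < Data.table.size, linkL Data.table Data.k Data.codes 1 j = true := by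
  refine of_ranges (len := 275) (cnt := 9) (by decide +kernel) fun c hc => ?_
  interval_cases c
  exacts [link0, link1, link2, link3, link4, link5, link6, link7, link8]

end Cfsg.Agent.Co2Out
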