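import Cfsg.Agent.OutLin.Table
import Cfsg.Agent.Co2Out.TableData
import Cfsg.Agent.Co2Out.Data

/-! Checks of the table. -/

set_option autoImplicit false
set_option maxRecDepth 100000
set_option maxHeartbeats 0

namespace Cfsg.Agent.Co2Out

open Cfsg.Agent.OutTab Cfsg.Agent.OutLin

theorem sorted0 : rangeB (sortL Data.table 23 Data.powers Data.keyVecs) 0 275 = true := by decide +kernel

theorem sorted1 : rangeB (sortL Data.table 23 Data.powers Data.keyVecs) 275 550 = true := by decide +kernel

theorem sorted2 : rangeB (sortL Data.table 23 Data.powers Data.keyVecs) 550 825 = true := by decide +kernel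

theorem sorted3 : rangeB (sortL Data.table 23 Data.powers Data.keyVecs) 825 1100 = true := by decide +kernel

theorem sorted4 : rangeB (sortL Data.table 23 Data.powers Data.keyVecs) 1100 1375 = true := by decide +kernel

theorem sorted5 : rangeB (sortL Data.table 23 Data.powers Data.keyVecs) 1375 1650 = true := by decide +kernel

theorem sorted6 : rangeB (sortL Data.table 23 Data.powers Data.keyVecs) 1650 1925 = true := by decide +kernel

theorem sorted7 : rangeB (sortL Data.table 23 Data.powers Data.keyVecs) 1925 2200 = true := by decide +kernel

theorem sorted8 : rangeB (sortL Data.table 23 Data.powers Data.keyVecs) 2200 2475 = true := by decide +kernel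

theorem sorted_all : ∀ j < Data.table.size, sortL Data.table 23 Data.powers Data.keyVecs j = true := by
  refine of_ranges (len := 275) (cnt := 9) (by decide +kernel) fun c hc => ?_
  interval_cases c
  exacts [sorted0, sorted1, sorted2, sorted3, sorted4, sorted5, sorted6, sorted7, sorted8]

end Cfsg.Agent.Co2Out
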