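import Cfsg.Agent.OutLin.Sylow
import Cfsg.Agent.Co2Out.Data
import Cfsg.Agent.Co2Out.CentreData

/-!
Checks on the Sylow subgroup.
-/

set_option autoImplicit false
set_option maxRecDepth 100000
set_option maxHeartbeats 0

namespace Cfsg.Agent.Co2Out

open Cfsg.Agent.Compute Cfsg.Agent.StemCert Cfsg.Agent.OutLin

theorem pc_ok : pcB Data.k Data.codes Data.pcs Data.pcSq Data.pcConj = true := by decide +kernel

theorem centre_ok :
    Data.centData.okB Data.codes Data.qs Data.mainLevels Data.mainBase 1 = true := by decide +kernel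

theorem syl_chain : chainOK Data.k Data.codes Data.sylLevels Data.sylBase = true ∧
    numForms Data.sylLevels = 2 ^ 18 ∧ Data.pcs.length = 18 := by
  refine ⟨?_, ?_, ?_⟩ <;> decide +kernel

theorem syl_words :
    (∀ q ∈ Data.qs, q < Data.k) ∧
    allB (fun i => allB (fun j => Nat.blt j 18) (Data.qWords.getD i []) &&
      sameB Data.k Data.codes [Data.qs.getD i 0] (pick Data.pcs (Data.qWords.getD i [])))
      (List.range Data.qs.length) = true ∧
    allBelow 18 (fun i => allB (fun a => memB a Data.qs) (Data.pcWords.getD i []) &&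
      sameB Data.k Data.codes [Data.pcs.getD i 0] (Data.pcWords.getD i [])) = true ∧
    allB (fun L => allB (fun s => memB s Data.sylLetters) L.gens) Data.sylLevels = true ∧
    allBelow Data.sylLetters.length (fun i => allB (fun a => memB a Data.qs) (Data.sylWords.getD i []) &&
      sameB Data.k Data.codes [Data.sylLetters.getD i 0] (Data.sylWords.getD i [])) = true ∧
    allB (fun q => sameB Data.k Data.codes [1, q] [q, 1]) Data.qs = true ∧
    (lettB 18 Data.tPc && sameB Data.k Data.codes [1] (pick Data.pcs Data.tPc)) = true := by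
  refine ⟨?_, ?_, ?_, ?_, ?_, ?_, ?_⟩ <;> decide +kernel

end Cfsg.Agent.Co2Out
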