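import Cfsg.Agent.Co2Out.Model
import Cfsg.Agent.Co2Out.SylowChecks
import Cfsg.Agent.Co2Out.Link
import Cfsg.Agent.Co2Out.Least
import Cfsg.Agent.Co2Out.Sorted
import Cfsg.Agent.Co2Out.Refute

/-!
All automorphisms are inner.
-/

set_option autoImplicit false
set_option maxRecDepth 100000
set_option maxHeartbeats 0

namespace Cfsg.Agent.Co2Out

open Cfsg Cfsg.Agent.Compute Cfsg.Agent.StemCert Cfsg.Agent.OutLin
open Cfsg.Agent.OutTab (condWord condCodes)

theorem small_ok : 1 < Data.k ∧ Data.hLetter < Data.k ∧
    powB 23 Data.k Data.codes Data.powers Data.powLetters = true ∧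
    eqL Data.codes [0] [] = false ∧ eqL Data.codes [1] [] = false ∧
    eqL Data.codes [1, 1] [] = true ∧
    eqL Data.codes [Data.hLetter, 0] [0, 0, Data.hLetter] = true ∧
    (∀ p ∈ Data.keyVecs, p < 2 ^ 24) := by
  refine ⟨?_, ?_, ?_, ?_, ?_, ?_, ?_, ?_⟩ <;> decide +kernel

theorem k_pos : 0 < Data.k := Nat.zero_lt_of_lt small_ok.1

theorem pow_codes : PowL 23 ι (gen 0) Data.powers :=
  powL_of_check linRep coded k_pos small_ok.2.2.1

theorem gen_ne_one {s : ℕ} (h : eqL Data.codes [s] [] = false) (hs : s < Data.k) : gen s ≠ 1 := by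
  intro e
  have : eqL Data.codes [s] [] = true := by
    refine allBelow_eq_true.mpr fun i hi => ?_
    rw [forceN_eq, Nat.beq_eq, show Nat.shiftLeft 1 i = 2 ^ i from Nat.one_shiftLeft i,
      ← valFn_word (ι := ι) coded (wd := [s]) (by simp [hs]) (two_pow_lt hi),
      show evalW gen [s] = (1 : ↥Spor.Co2) by simp [evalW, e], valFn, dif_pos (two_pow_lt hi), map_one]
    rfl
  rw [h] at this
  exact Bool.noConfusion this

theorem orderOf_zero : orderOf (gen 0) = 23 := by
  have := Fact.mk (show Nat.Prime 23 by norm_num)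
  exact orderOf_eq_prime pow_codes.1 (gen_ne_one small_ok.2.2.2.1 k_pos)

theorem orderOf_one' : orderOf (gen 1) = 2 := by
  have := Fact.mk Nat.prime_two
  refine orderOf_eq_prime ?_ (gen_ne_one small_ok.2.2.2.2.1 small_ok.1)
  have := eq_of_eqL linRep coded (a := [1, 1]) (b := []) (by simp [small_ok.1]) (by simp)
    small_ok.2.2.2.2.2.1
  simpa [evalW, sq] using this

theorem cent_ok : chainOK Data.k Data.codes Data.centLevels Data.centBase = true ∧
    numForms Data.centLevels = 743178240 ∧
    allB (fun L => allB (fun s => sameB Data.k Data.codes [1, s] [s, 1]) L.gens) Data.centLevels = true := by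
  refine ⟨?_, ?_, ?_⟩ <;> decide +kernel

theorem le_centralizer :
    743178240 ≤ Nat.card (Subgroup.centralizer ({gen 1} : Set ↥Spor.Co2)) := by
  obtain ⟨h1, h2, h3⟩ := cent_ok
  rw [← h2]
  refine le_card_of_chain coded h1 _ fun L hL s hs => ?_
  have e := sameB_spec linRep coded (allB_spec (allB_spec h3 L hL) s hs)
  simp only [evalW, List.map_cons, List.map_nil, List.prod_cons, List.prod_nil, mul_one] at e
  rw [Subgroup.mem_centralizer_singleton_iff]
  exact e.symm

theorem factorization_two : (Nat.card ↥Spor.Co2).factorization 2 = 18 := by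
  rw [card_co2, show (42305421312000 : ℕ) = 2 ^ 18 * 161382375 by norm_num,
    Nat.factorization_mul (by norm_num) (by norm_num), Finsupp.add_apply,
    Nat.Prime.factorization_pow Nat.prime_two, Finsupp.single_eq_same,
    Nat.factorization_eq_zero_of_not_dvd (by norm_num)]

/-- The Sylow subgroup. -/
noncomputable def sylT : Subgroup ↥Spor.Co2 := Subgroup.closure (gen '' {q | q ∈ Data.qs})

theorem evalW_singleton (s : ℕ) : evalW gen [s] = gen s := by simp [evalW]

theorem pc_le : pcSub gen Data.pcs 18 ≤ sylT := by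
  refine (Subgroup.closure_le _).mpr ?_
  rintro _ ⟨i, hi, rfl⟩
  have h := allBelow_eq_true.mp syl_words.2.2.1 i hi
  simp only [Bool.and_eq_true] at h
  show gen (Data.pcs.getD i 0) ∈ sylT
  rw [← evalW_singleton, sameB_spec linRep coded h.2]
  exact word_mem_closure fun a ha => memB_eq_true.mp (allB_spec h.1 a ha)

theorem le_pc : sylT ≤ pcSub gen Data.pcs 18 := by
  refine (Subgroup.closure_le _).mpr ?_
  rintro _ ⟨q, hq, rfl⟩
  obtain ⟨i, hi, rfl⟩ := List.mem_iff_getElem.mp hq
  have h := allB_spec syl_words.2.1 i (List.mem_range.mpr hi)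
  simp only [Bool.and_eq_true] at h
  show gen (Data.qs[i]) ∈ pcSub gen Data.pcs 18
  rw [← List.getD_eq_getElem Data.qs 0 hi, ← evalW_singleton, sameB_spec linRep coded h.2]
  exact pick_mem fun j hj => Nat.blt_eq.mp (allB_spec h.1 j hj)

theorem card_sylT : Nat.card sylT = 2 ^ 18 := by
  refine le_antisymm ?_ ?_
  · rw [le_antisymm le_pc pc_le]
    exact card_pcSub_le linRep coded pc_ok 18 syl_chain.2.2.ge
  · rw [← syl_chain.2.1]
    refine le_card_of_chain coded syl_chain.1 _ fun L hL s hs => ?_
    obtain ⟨i, hi, rfl⟩ := List.mem_iff_getElem.mp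
      (memB_eq_true.mp (allB_spec (allB_spec syl_words.2.2.2.1 L hL) s hs))
    have h := allBelow_eq_true.mp syl_words.2.2.2.2.1 i hi
    simp only [Bool.and_eq_true] at h
    rw [← List.getD_eq_getElem Data.sylLetters 0 hi, ← evalW_singleton, sameB_spec linRep coded h.2]
    exact word_mem_closure fun a ha => memB_eq_true.mp (allB_spec h.1 a ha)

theorem t_mem : gen 1 ∈ sylT := by
  have h := syl_words.2.2.2.2.2.2
  simp only [Bool.and_eq_true] at h
  rw [← evalW_singleton, sameB_spec linRep coded h.2]
  exact pc_le (pick_mem (lettB_spec h.1))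

theorem t_central (x : ↥Spor.Co2) (hx : x ∈ sylT) : gen 1 * x = x * gen 1 := by
  have hle : sylT ≤ Subgroup.centralizer ({gen 1} : Set ↥Spor.Co2) := by
    refine (Subgroup.closure_le _).mpr ?_
    rintro _ ⟨q, hq, rfl⟩
    have e := sameB_spec linRep coded (allB_spec syl_words.2.2.2.2.2.1 q hq)
    simp only [evalW, List.map_cons, List.map_nil, List.prod_cons, List.prod_nil, mul_one] at e
    show gen q ∈ Subgroup.centralizer ({gen 1} : Set ↥Spor.Co2)
    rw [Subgroup.mem_centralizer_singleton_iff]
    exact e.symm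
  exact (Subgroup.mem_centralizer_singleton_iff.mp (hle hx)).symm

/-- The class of the involution is stable under automorphisms. -/
theorem same_class (φ : MulAut ↥Spor.Co2) : IsConj (gen 1) (φ (gen 1)) :=
  same_class_of_central orderOf_one' sylT card_sylT factorization_two t_mem t_central
    (fun _ hz hc => centre_spec linRep coded syl_words.1 main_ok main_forms small_ok.1 centre_ok hz hc) φ

theorem conds_ok : (∀ c ∈ Data.conds, ∀ a ∈ c.1, a < 23) ∧
    allB (fun c => eqL (condCodes 23 Data.powers 1 (Data.table.rep 0)) (condWord 23 c) [])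
      Data.conds = true := by
  refine ⟨?_, ?_⟩ <;> decide +kernel

theorem table_zero : Data.table.rep 0 = Data.codes.getD 1 0 := by decide +kernel

theorem card_out : Nat.card (Cfsg.Out ↥Spor.Co2) = 1 := by
  have hh : gen Data.hLetter * gen 0 * (gen Data.hLetter)⁻¹ = gen 0 ^ 2 := by
    have h := eq_of_eqL linRep coded (a := [Data.hLetter, 0]) (b := [0, 0, Data.hLetter])
      (by simp [small_ok.2.1, k_pos]) (by simp [small_ok.2.1, k_pos]) small_ok.2.2.2.2.2.2.1
    simp only [evalW, List.map_cons, List.map_nil, List.prod_cons, List.prod_nil, mul_one] at h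
    rw [mul_inv_eq_iff_eq_mul, h, sq, mul_assoc]
  have ht0 : HasL ι (gen 1) (Data.table.rep 0) := by
    rw [table_zero]
    exact coded 1 small_ok.1
  refine card_out_of_tableL linRep pow_codes (by norm_num) orderOf_zero
    (by rw [card_co2]; norm_num) hh (by decide +kernel) generated same_class
    (class_eqL linRep coded small_ok.1 link_all pow_codes (by norm_num) small_ok.2.2.2.2.2.2.2
      least_all sorted_all le_centralizer (by rw [card_co2, show Data.table.size = 2475 from rfl]))
    ht0 conds_ok.1 conds_ok.2 refute_all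

end Cfsg.Agent.Co2Out
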